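import Cfsg.Agent.H802.FusAlp
import Cfsg.Agent.Transfer.Extraspecial
import Cfsg.Agent.Involutions.NormalFour
import Mathlib
set_option linter.all false

-- part: H764/FusTool
section
/-!
# Tools for saturated fusion systems (helper764)

* `normSys F Y` : the maps of `F` extending to `Y` and preserving it, for `Y` normal in `S`.
* `exists_moving` : if `Y ≤ Z(S)` is not normal in `F`, there is a fully normalized centric `E` such that
  `Aut_F(E)` moves `Y` although all maps on larger subgroups preserve `Y`.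
* `mem_of_fixes` : (semiregularity) in that situation an element of `N_S(E)` normalizing `α(Y) ≠ Y` lies in `E`.
* `exists_extension_of_normalizes` : elements of `Aut_F(E)` normalizing `Aut_S(E)` extend to `N_S(E)`.
-/

set_option autoImplicit false

namespace Cfsg.Agent.H764

open Cfsg Cfsg.FusionSystem Cfsg.Agent.H802

variable {Ω : Type*} [Group Ω] {S : Subgroup Ω}

/-- For a finite subgroup `Y` an injective homomorphism mapping `Y` into `Y` maps it onto `Y`. -/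
theorem map_subgroupOf_eq {R Y : Subgroup Ω} [Finite Y] {ψ : R →* Ω} (hψ : Function.Injective ψ)
    (hYR : Y ≤ R) (h : ∀ (y : Ω) (hy : y ∈ Y), ψ ⟨y, hYR hy⟩ ∈ Y) :
    (Y.subgroupOf R).map ψ = Y := by
  have hle : (Y.subgroupOf R).map ψ ≤ Y := by
    rintro _ ⟨x, hx, rfl⟩
    exact h x hx
  refine Subgroup.eq_of_le_of_card_ge hle ?_
  have h1 : Nat.card ((Y.subgroupOf R).map ψ) = Nat.card (Y.subgroupOf R) :=
    Nat.card_congr ((Y.subgroupOf R).equivMapOfInjective ψ hψ).symm.toEquiv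
  rw [h1, Nat.card_congr (Subgroup.subgroupOfEquivOfLe hYR).toEquiv]

theorem apply_mem_of_map_eq {R Y : Subgroup Ω} {ψ : R →* Ω}
    (h : (Y.subgroupOf R).map ψ = Y) (y : Ω) (hy : y ∈ Y) (hR : y ∈ R) : ψ ⟨y, hR⟩ ∈ Y := by
  rw [← h]
  exact ⟨⟨y, hR⟩, hy, rfl⟩

theorem exists_of_map_eq {R Y : Subgroup Ω} {ψ : R →* Ω}
    (h : (Y.subgroupOf R).map ψ = Y) (y : Ω) (hy : y ∈ Y) :
    ∃ (w : Ω) (_ : w ∈ Y) (hR : w ∈ R), ψ ⟨w, hR⟩ = y := by
  rw [← h] at hy
  obtain ⟨⟨w, hw⟩, hwY, rfl⟩ := hy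
  exact ⟨w, hwY, hw, rfl⟩

/-- The system of maps extending to `Y` and preserving `Y`, for a normal subgroup `Y` of `S`. -/
def normSys (F : FusionSystem S) (Y : Subgroup Ω) (hYS : Y ≤ S)
    (hYN : S ≤ Subgroup.normalizer (Y : Set Ω)) [Finite Y] : FusionSystem S where
  Hom P := {φ | φ ∈ F.Hom P ∧ ∃ ψ ∈ F.Hom (P ⊔ Y),
    (∀ x : P, ψ (Subgroup.inclusion le_sup_left x) = φ x) ∧ (Y.subgroupOf (P ⊔ Y)).map ψ = Y}
  le_of_mem h := F.le_of_mem h.1
  injective_of_mem h := F.injective_of_mem h.1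
  conj_mem := by
    intro P g hP hg
    refine ⟨F.conj_mem hP hg, conjHom (P ⊔ Y) g, F.conj_mem (sup_le hP hYS) hg, fun x => rfl, ?_⟩
    refine map_subgroupOf_eq (F.injective_of_mem (F.conj_mem (sup_le hP hYS) hg)) le_sup_right ?_
    intro y hy
    exact (Subgroup.mem_normalizer_iff.1 (hYN hg) y).1 hy
  comp_mem := by
    rintro P Q φ ψ ⟨hφ, φ', hφ', hφe, hφY⟩ ⟨hψ, ψ', hψ', hψe, hψY⟩ h
    have hm : ∀ x : ↥(P ⊔ Y), φ' x ∈ Q ⊔ Y := by
      rintro ⟨x, hx⟩
      have hsub : P ⊔ Y ≤ ((Q ⊔ Y).comap φ').map (P ⊔ Y).subtype := by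
        refine sup_le ?_ ?_
        · intro w hw
          refine ⟨⟨w, Subgroup.mem_sup_left hw⟩, ?_, rfl⟩
          show φ' ⟨w, Subgroup.mem_sup_left hw⟩ ∈ Q ⊔ Y
          have : φ' ⟨w, Subgroup.mem_sup_left hw⟩ = φ ⟨w, hw⟩ := hφe ⟨w, hw⟩
          rw [this]
          exact Subgroup.mem_sup_left (h _)
        · intro w hw
          refine ⟨⟨w, Subgroup.mem_sup_right hw⟩, ?_, rfl⟩
          exact Subgroup.mem_sup_right (apply_mem_of_map_eq hφY w hw _)
      obtain ⟨w, hw, hwx⟩ := hsub hx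
      have : w = ⟨x, hx⟩ := Subtype.ext hwx
      rw [← this]
      exact hw
    obtain ⟨χ, hχ, hχe⟩ := exists_comp hφ' hψ' hm
    refine ⟨F.comp_mem hφ hψ h, χ, hχ, fun x => ?_, ?_⟩
    · rw [hχe]
      have e1 : (⟨φ' (Subgroup.inclusion le_sup_left x), hm _⟩ : ↥(Q ⊔ Y)) =
          Subgroup.inclusion le_sup_left (φ.codRestrict Q h x) := Subtype.ext (hφe x)
      rw [e1, hψe]
      rfl
    · refine map_subgroupOf_eq (F.injective_of_mem hχ) le_sup_right ?_
      intro y hy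
      rw [hχe]
      exact apply_mem_of_map_eq hψY _ (apply_mem_of_map_eq hφY y hy _) _
  inv_mem := by
    rintro P φ ⟨hφ, φ', hφ', hφe, hφY⟩
    obtain ⟨ψ, hψ, hψr, h1, h2⟩ := exists_inv hφ rfl
    have hr : φ'.range = φ.range ⊔ Y := by
      apply le_antisymm
      · rintro _ ⟨⟨x, hx⟩, rfl⟩
        have hsub : P ⊔ Y ≤ ((φ.range ⊔ Y).comap φ').map (P ⊔ Y).subtype := by
          refine sup_le ?_ ?_
          · intro w hw
            refine ⟨⟨w, Subgroup.mem_sup_left hw⟩, ?_, rfl⟩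
            show φ' ⟨w, Subgroup.mem_sup_left hw⟩ ∈ φ.range ⊔ Y
            have : φ' ⟨w, Subgroup.mem_sup_left hw⟩ = φ ⟨w, hw⟩ := hφe ⟨w, hw⟩
            rw [this]
            exact Subgroup.mem_sup_left ⟨_, rfl⟩
          · intro w hw
            refine ⟨⟨w, Subgroup.mem_sup_right hw⟩, ?_, rfl⟩
            exact Subgroup.mem_sup_right (apply_mem_of_map_eq hφY w hw _)
        obtain ⟨w, hw, hwx⟩ := hsub hx
        have : w = ⟨x, hx⟩ := Subtype.ext hwx
        rw [← this]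
        exact hw
      · refine sup_le ?_ ?_
        · rintro _ ⟨x, rfl⟩
          exact ⟨_, hφe x⟩
        · intro y hy
          obtain ⟨w, hw, hR, e⟩ := exists_of_map_eq hφY y hy
          exact ⟨_, e⟩
    obtain ⟨ψ', hψ', hψr', h1', h2'⟩ := exists_inv hφ' hr
    refine ⟨ψ, ⟨hψ, ψ', hψ', fun x => ?_, ?_⟩, fun x => h1 x _⟩
    · obtain ⟨_, x, rfl⟩ := x
      have e1 : ψ ⟨φ x, ⟨x, rfl⟩⟩ = x := h1 x _
      rw [e1]
      have e2 := h1' (Subgroup.inclusion le_sup_left x)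
        (by rw [hφe]; exact Subgroup.mem_sup_left ⟨x, rfl⟩)
      have e3 : (⟨φ' (Subgroup.inclusion le_sup_left x),
          (by rw [hφe]; exact Subgroup.mem_sup_left ⟨x, rfl⟩)⟩ : ↥(φ.range ⊔ Y)) =
          Subgroup.inclusion le_sup_left (⟨φ x, ⟨x, rfl⟩⟩ : φ.range) := Subtype.ext (hφe x)
      rw [e3] at e2
      exact e2
    · refine map_subgroupOf_eq (F.injective_of_mem hψ') le_sup_right ?_
      intro y hy
      obtain ⟨w, hw, hR, e⟩ := exists_of_map_eq hφY y hy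
      have e2 := h1' ⟨w, hR⟩ (by rw [e]; exact Subgroup.mem_sup_right hy)
      have e3 : (⟨φ' ⟨w, hR⟩, (by rw [e]; exact Subgroup.mem_sup_right hy)⟩ : ↥(φ.range ⊔ Y)) =
          ⟨y, Subgroup.mem_sup_right hy⟩ := Subtype.ext e
      rw [e3] at e2
      rw [e2]
      exact hw

/-- If all maps of `F` extend to `Y` preserving `Y` then `Y` is normal in `F`. -/
theorem isNormal_of_normSys {F : FusionSystem S} {Y : Subgroup Ω} (hYS : Y ≤ S)
    (hYN : S ≤ Subgroup.normalizer (Y : Set Ω)) [Finite Y]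
    (h : ∀ P : Subgroup Ω, F.Hom P ⊆ (normSys F Y hYS hYN).Hom P) : F.IsNormal Y :=
  ⟨hYS, fun P φ hφ => (h P hφ).2⟩

/-- If `Y ≤ Z(S)` is not normal in the saturated system `F` there is a fully normalized centric subgroup `E`
such that `Aut_F(E)` moves `Y` although all maps of `F` on larger subgroups preserve `Y`. -/
theorem exists_moving {p : ℕ} [Fact p.Prime] [Finite S] (hS : IsPGroup p S)
    {F : FusionSystem S} (hF : F.IsSaturated p) {Y : Subgroup Ω} (hY : Y ≤ centralizerIn S S)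
    (hn : ¬ F.IsNormal Y) :
    ∃ E : Subgroup Ω, F.IsFullyNormalized E ∧ F.IsCentric E ∧
      (∃ α ∈ F.autGroup E, ∃ (y : E), (y : Ω) ∈ Y ∧ ((α y : E) : Ω) ∉ Y) ∧
      (∀ (R : Subgroup Ω) (φ : R →* Ω), φ ∈ F.Hom R → Nat.card E < Nat.card R →
        ∀ y : R, (y : Ω) ∈ Y → φ y ∈ Y) := by
  have hYS : Y ≤ S := hY.trans inf_le_left
  have hfin : Finite Y := finite_of_le hYS
  have hYN : S ≤ Subgroup.normalizer (Y : Set Ω) := by
    intro g hg
    refine Subgroup.mem_normalizer_iff.2 fun y => ?_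
    have key : ∀ w ∈ Y, g * w * g⁻¹ = w := by
      intro w hw
      rw [Subgroup.mem_centralizer_iff.1 (hY hw).2 g hg]
      group
    constructor
    · intro hy
      rw [key y hy]
      exact hy
    · intro hy
      have h1 := key _ hy
      have h2 : g * y * g⁻¹ = y := by
        have := mul_left_cancel (mul_right_cancel h1)
        exact this
      rw [h2] at hy
      exact hy
  by_contra hcon
  push Not at hcon
  apply hn
  refine isNormal_of_normSys hYS hYN (le_of_centric hS hF _ ?_)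
  intro E hE hEc hbig
  have hYE : Y ≤ E := by
    have h1 : Y ≤ centralizerIn S E := by
      refine hY.trans (inf_le_inf_left _ (Subgroup.centralizer_le ?_))
      exact hE.1
    exact h1.trans (hEc.2 E (isConj_refl F hE.1))
  have hsup : E ⊔ Y = E := sup_eq_left.2 hYE
  by_contra hne
  have hmove : ∃ α ∈ F.autGroup E, ∃ (y : E), (y : Ω) ∈ Y ∧ ((α y : E) : Ω) ∉ Y := by
    by_contra hall
    push Not at hall
    apply hne
    intro α hα
    rw [mem_autGroup_iff _ hE.1]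
    have hα' := (mem_autGroup_iff F hE.1 α).1 hα
    refine ⟨hα', ?_⟩
    have hex : ∃ ψ ∈ F.Hom (E ⊔ Y), ∀ (x : Ω) (hx : x ∈ E) (hx' : x ∈ E ⊔ Y),
        ψ ⟨x, hx'⟩ = (α ⟨x, hx⟩ : E) := by
      rw [hsup]
      exact ⟨_, hα', fun x hx hx' => rfl⟩
    obtain ⟨ψ, hψ, he⟩ := hex
    refine ⟨ψ, hψ, fun x => he x x.2 _, ?_⟩
    refine map_subgroupOf_eq (F.injective_of_mem hψ) le_sup_right ?_
    intro y hy
    rw [he y (hYE hy)]
    exact hall α hα ⟨y, hYE hy⟩ hy
  obtain ⟨R, φ, hφ, hcard, y, hy, hyn⟩ := hcon E hE hEc hmove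
  obtain ⟨-, ψ, hψ, he, hm⟩ := hbig R hcard hφ
  apply hyn
  rw [← he y]
  exact apply_mem_of_map_eq hm y hy _

/-- The data of a fully normalized centric subgroup `E` of `S` all of whose larger subgroups have maps
preserving `Y ≤ Z(S)`. -/
structure Setup {S : Subgroup Ω} (F : FusionSystem S) (Y E : Subgroup Ω) : Prop where
  /-- `Y` is central. -/
  le_center : Y ≤ centralizerIn S S
  /-- `E` is fully normalized. -/
  fullyNormalized : F.IsFullyNormalized E
  /-- `E` is centric. -/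
  centric : F.IsCentric E
  /-- Maps on larger subgroups preserve `Y`. -/
  big : ∀ (R : Subgroup Ω) (φ : R →* Ω), φ ∈ F.Hom R → Nat.card E < Nat.card R →
        ∀ y : R, (y : Ω) ∈ Y → φ y ∈ Y

namespace Setup

variable {F : FusionSystem S} {Y E : Subgroup Ω}

theorem le_S (h : Setup F Y E) : E ≤ S := h.fullyNormalized.1

theorem centralizer_le (h : Setup F Y E) : centralizerIn S E ≤ E :=
  h.centric.2 E (isConj_refl F h.le_S)

theorem Y_le (h : Setup F Y E) : Y ≤ E := by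
  have h1 : Y ≤ centralizerIn S E := by
    refine h.le_center.trans (inf_le_inf_left _ (Subgroup.centralizer_le ?_))
    exact h.le_S
  exact h1.trans h.centralizer_le

theorem Y_le_S (h : Setup F Y E) : Y ≤ S := h.le_center.trans inf_le_left

/-- Elements of `S` commute with elements of `Y`. -/
theorem comm (h : Setup F Y E) {g y : Ω} (hg : g ∈ S) (hy : y ∈ Y) : g * y = y * g :=
  Subgroup.mem_centralizer_iff.1 (h.le_center hy).2 g hg

end Setup

/-- `α` preserves `Y`. -/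
def Fix (Y : Subgroup Ω) {E : Subgroup Ω} (α : MulAut E) : Prop :=
  ∀ y : E, (y : Ω) ∈ Y → ((α y : E) : Ω) ∈ Y

theorem Fix.mul {Y E : Subgroup Ω} {α β : MulAut E} (hα : Fix Y α) (hβ : Fix Y β) :
    Fix Y (α * β) := fun y hy => hα _ (hβ y hy)

theorem Fix.inv {Y E : Subgroup Ω} [Finite E] {α : MulAut E} (hα : Fix Y α) : Fix Y α⁻¹ := by
  -- α restricted to `Y ∩ E` is injective hence surjective
  intro y hy
  have hfin : Finite (Y.subgroupOf E) := inferInstance
  have hinj : Function.Injective (fun w : Y.subgroupOf E => (⟨α w, hα w w.2⟩ : Y.subgroupOf E)) := by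
    intro a b hab
    have h1 : α (a : E) = α (b : E) := congrArg Subtype.val hab
    exact Subtype.ext (α.injective h1)
  obtain ⟨w, hw⟩ := (Finite.surjective_of_injective hinj) ⟨y, hy⟩
  have h2 : α (w : E) = y := congrArg Subtype.val hw
  have h3 : α⁻¹ y = (w : E) := by
    rw [← h2]
    exact α.symm_apply_apply _
  rw [h3]
  exact w.2

/-- The stabilizer of `Y` in `Aut(E)`. -/
def fixGroup (Y E : Subgroup Ω) [Finite E] : Subgroup (MulAut E) where
  carrier := {α | Fix Y α}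
  mul_mem' := Fix.mul
  one_mem' := fun _ hy => hy
  inv_mem' := Fix.inv

variable {p : ℕ} [Fact p.Prime] [Finite S]

/-- **Trivial intersection property.** If `α ∈ Aut_F(E)` conjugates the automorphism induced by some
`g ∈ N_S(E) \ E` to an automorphism induced by an element of `S`, then `α` preserves `Y`. -/
theorem Setup.fix_of_conj {F : FusionSystem S} {Y E : Subgroup Ω} (h : Setup F Y E)
    (hS : IsPGroup p S) (hF : F.IsSaturated p) {α : MulAut E} (hα : α ∈ F.autGroup E) {g k : Ω}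
    (hg : g ∈ normalizerIn S E) (hgE : g ∉ E) (hk : k ∈ S)
    (hc : ∀ (x : E) (hx : g * (x : Ω) * g⁻¹ ∈ E), ((α ⟨g * x * g⁻¹, hx⟩ : E) : Ω) =
      k * (α x : E) * k⁻¹) : Fix Y α := by
  have hα' := (mem_autGroup_iff F h.le_S α).1 hα
  have hfinE : Finite E := finite_of_le h.le_S
  have hrec := isReceptive_of_isFullyNormalized hS hF h.fullyNormalized
  have hr : (E.subtype.comp α.toMonoidHom).range = E :=
    range_eq_of_mapsTo hα' (fun x => (α x).2)
  obtain ⟨ψ, hψ, hψe⟩ := hrec.2 E _ hα' hr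
  have hle : E ≤ extender S E (E.subtype.comp α.toMonoidHom) :=
    le_extender h.le_S (hom_apply_mem hα')
  have hgx : g ∈ extender S E (E.subtype.comp α.toMonoidHom) := by
    rw [mem_extender_iff]
    exact ⟨hg.1, hg.2, k, hk, fun x hx => hc x hx⟩
  have hfin : Finite (extender S E (E.subtype.comp α.toMonoidHom)) :=
    finite_of_le (extender_le _ _ _)
  have hcard : Nat.card E < Nat.card (extender S E (E.subtype.comp α.toMonoidHom)) := by
    refine lt_of_le_of_ne (Nat.card_mono (Set.toFinite _) hle) fun heq => ?_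
    have := Subgroup.eq_of_le_of_card_ge hle heq.ge
    rw [← this] at hgx
    exact hgE hgx
  intro y hy
  have h1 := h.big _ ψ hψ hcard ⟨y, hle y.2⟩ hy
  rw [hψe y y.2 _] at h1
  exact h1

omit [Finite S] in
/-- `Aut_S(E)` preserves `Y`. -/
theorem Setup.autInducedBy_le {F : FusionSystem S} {Y E : Subgroup Ω} (h : Setup F Y E)
    {α : MulAut E} (hα : α ∈ autInducedBy S E) : Fix Y α := by
  obtain ⟨g, hg, he⟩ := (mem_autInducedBy_iff S E α).1 hα
  intro y hy
  rw [he, h.comm hg hy]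
  simpa using hy

/-- A `p`-element of `Aut_F(E)` preserving `Y` is conjugate into `Aut_S(E)` by an element of `Aut_F(E)`
preserving `Y`. -/
theorem Setup.exists_conj_mem {F : FusionSystem S} {Y E : Subgroup Ω} (h : Setup F Y E)
    (hS : IsPGroup p S) (hF : F.IsSaturated p) {K : Subgroup (MulAut E)} (hK : K ≤ F.autGroup E)
    (hKp : IsPGroup p K) (hKY : ∀ γ ∈ K, Fix Y γ) :
    ∃ δ ∈ F.autGroup E, Fix Y δ ∧ ∀ γ ∈ K, δ * γ * δ⁻¹ ∈ autInducedBy S E := by
  have hfinE : Finite E := finite_of_le h.le_S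
  have hfinA : Finite (MulAut E) := inferInstance
  obtain ⟨-, R, hR⟩ := isFullyAutomized_of_isFullyNormalized hS hF h.fullyNormalized
  let H : Subgroup (F.autGroup E) := (fixGroup Y E).subgroupOf (F.autGroup E)
  have hRH : (R : Subgroup (F.autGroup E)) ≤ H := by
    intro a ha
    rw [hR, Subgroup.mem_subgroupOf] at ha
    exact h.autInducedBy_le ha
  let R' : Sylow p H := R.subtype hRH
  have hKH : (K.subgroupOf (F.autGroup E)) ≤ H := by
    intro a ha
    exact hKY _ ha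
  have hKp' : IsPGroup p ((K.subgroupOf (F.autGroup E)).subgroupOf H) := by
    have h1 : IsPGroup p (K.subgroupOf (F.autGroup E)) :=
      hKp.comap_of_injective _ (Subgroup.subtype_injective _)
    exact h1.comap_of_injective _ (Subgroup.subtype_injective _)
  obtain ⟨R'', hR''⟩ := hKp'.exists_le_sylow
  obtain ⟨b, hb⟩ := MulAction.exists_smul_eq H R'' R'
  refine ⟨((b : F.autGroup E) : MulAut E), (b : F.autGroup E).2, b.2, fun γ hγ => ?_⟩
  have h2 : (⟨⟨γ, hK hγ⟩, hKH (show (⟨γ, hK hγ⟩ : F.autGroup E) ∈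
      K.subgroupOf (F.autGroup E) from hγ)⟩ : H) ∈
      (K.subgroupOf (F.autGroup E)).subgroupOf H := hγ
  have h5 : (b * (⟨⟨γ, hK hγ⟩, hKH (show (⟨γ, hK hγ⟩ : F.autGroup E) ∈
      K.subgroupOf (F.autGroup E) from hγ)⟩ : H) * b⁻¹ : H) ∈ (R' : Subgroup H) := by
    rw [← hb]
    exact Subgroup.smul_mem_pointwise_smul _ (MulAut.conj b) (R'' : Subgroup H) (hR'' h2)
  have h6 : ((b : F.autGroup E) * ⟨γ, hK hγ⟩ * (b : F.autGroup E)⁻¹) ∈
      (R : Subgroup (F.autGroup E)) := h5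
  rw [hR, Subgroup.mem_subgroupOf] at h6
  exact h6

/-- **Semiregularity.** If `α ∈ Aut_F(E)` moves `Y` and `g ∈ N_S(E)` normalizes `α(Y)`, then `g ∈ E`. -/
theorem Setup.mem_of_fixes {F : FusionSystem S} {Y E : Subgroup Ω} (h : Setup F Y E)
    (hS : IsPGroup p S) (hF : F.IsSaturated p) {α : MulAut E} (hα : α ∈ F.autGroup E)
    (hmove : ¬ Fix Y α) {g : Ω} (hg : g ∈ normalizerIn S E)
    (hc : ∀ (y : E), (y : Ω) ∈ Y → ∀ hx : g * (α y : E) * g⁻¹ ∈ E,
      ((α⁻¹ ⟨g * (α y : E) * g⁻¹, hx⟩ : E) : Ω) ∈ Y) : g ∈ E := by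
  by_contra hgE
  have hfinE : Finite E := finite_of_le h.le_S
  obtain ⟨γ, hγ⟩ := exists_conjAut hg.2
  have hγS : γ ∈ autInducedBy S E := (mem_autInducedBy_iff S E γ).2 ⟨g, hg.1, hγ⟩
  have hγF : γ ∈ F.autGroup E := autInducedBy_le_autGroup F h.le_S hγS
  set γ' : MulAut E := α⁻¹ * γ * α with hγ'
  have hγ'F : γ' ∈ F.autGroup E := mul_mem (mul_mem (inv_mem hα) hγF) hα
  have hfix : Fix Y γ' := by
    intro y hy
    have h1 : γ' y = α⁻¹ (γ (α y)) := rfl
    have h2 : γ (α y) = ⟨g * (α y : E) * g⁻¹, by rw [← hγ]; exact (γ _).2⟩ :=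
      Subtype.ext (hγ _)
    rw [h1, h2]
    exact hc y hy _
  have hp1 : IsPGroup p (Subgroup.zpowers γ) := by
    refine (isPGroup_autInducedBy hS E).to_le ?_
    rwa [Subgroup.zpowers_le]
  have hp : IsPGroup p (Subgroup.zpowers γ') := by
    rintro ⟨_, ⟨n, rfl⟩⟩
    obtain ⟨k, hk⟩ := hp1 ⟨γ ^ n, ⟨n, rfl⟩⟩
    refine ⟨k, ?_⟩
    have hk' : (γ ^ n) ^ p ^ k = 1 := congrArg Subtype.val hk
    apply Subtype.ext
    show (γ' ^ n) ^ p ^ k = 1
    have : γ' = (MulAut.conj α⁻¹) γ := by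
      rw [MulAut.conj_apply, inv_inv]
    rw [this, ← map_zpow, ← map_pow, hk', map_one]
  obtain ⟨δ, hδ, hδY, hδe⟩ := h.exists_conj_mem (p := p) hS hF (K := Subgroup.zpowers γ')
    (by rwa [Subgroup.zpowers_le]) hp (by
      intro x hx
      have : Subgroup.zpowers γ' ≤ fixGroup Y E := by
        rw [Subgroup.zpowers_le]
        exact hfix
      exact this hx)
  obtain ⟨k, hk, hke⟩ := (mem_autInducedBy_iff S E _).1 (hδe γ' (Subgroup.mem_zpowers γ'))
  -- β = δ α⁻¹ conjugates c_g to c_k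
  have hβ : δ * α⁻¹ ∈ F.autGroup E := mul_mem hδ (inv_mem hα)
  have hβY : Fix Y (δ * α⁻¹) := by
    refine h.fix_of_conj (p := p) hS hF hβ hg hgE hk fun x hx => ?_
    have h1 : (⟨g * (x : Ω) * g⁻¹, hx⟩ : E) = γ x := Subtype.ext (hγ x).symm
    rw [h1, ← hke]
    congr 1
    show (δ * α⁻¹) (γ x) = (δ * (α⁻¹ * γ * α) * δ⁻¹) ((δ * α⁻¹) x)
    simp only [MulAut.mul_apply, MulAut.inv_apply_self, MulAut.apply_inv_self]
  apply hmove
  have h2 : α⁻¹ = δ⁻¹ * (δ * α⁻¹) := by group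
  have h3 : Fix Y α⁻¹ := by
    rw [h2]
    exact (Fix.inv hδY).mul hβY
  have h4 := Fix.inv h3
  rwa [inv_inv] at h4

/-- An element of `Aut_F(E)` normalizing `Aut_S(E)`, `E` fully normalized, extends to an element of
`Aut_F(N_S(E))`. -/
theorem exists_extension_of_normalizes {F : FusionSystem S} {E : Subgroup Ω}
    (hS : IsPGroup p S) (hF : F.IsSaturated p) (hE : F.IsFullyNormalized E)
    {α : MulAut E} (hα : α ∈ F.autGroup E)
    (hn : ∀ γ ∈ autInducedBy S E, α * γ * α⁻¹ ∈ autInducedBy S E) :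
    ∃ β ∈ F.autGroup (normalizerIn S E), ∀ (x : Ω) (hx : x ∈ E) (hx' : x ∈ normalizerIn S E),
      ((β ⟨x, hx'⟩ : normalizerIn S E) : Ω) = (α ⟨x, hx⟩ : E) := by
  have hES := hE.1
  have hfinE : Finite E := finite_of_le hES
  have hα' := (mem_autGroup_iff F hES α).1 hα
  have hrec := isReceptive_of_isFullyNormalized hS hF hE
  have hr : (E.subtype.comp α.toMonoidHom).range = E :=
    range_eq_of_mapsTo hα' (fun x => (α x).2)
  obtain ⟨ψ, hψ, hψe⟩ := hrec.2 E _ hα' hr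
  have hle : normalizerIn S E ≤ extender S E (E.subtype.comp α.toMonoidHom) := by
    intro g hg
    rw [mem_extender_iff]
    refine ⟨hg.1, hg.2, ?_⟩
    obtain ⟨γ, hγ⟩ := exists_conjAut hg.2
    have hγS : γ ∈ autInducedBy S E := (mem_autInducedBy_iff S E γ).2 ⟨g, hg.1, hγ⟩
    obtain ⟨k, hk, hke⟩ := (mem_autInducedBy_iff S E _).1 (hn γ hγS)
    refine ⟨k, hk, fun x hx => ?_⟩
    have h1 : (⟨g * (x : Ω) * g⁻¹, hx⟩ : E) = γ x := Subtype.ext (hγ x).symm
    show ((α ⟨g * (x : Ω) * g⁻¹, hx⟩ : E) : Ω) = k * (α x : E) * k⁻¹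
    rw [h1, ← hke]
    congr 1
    simp only [MulAut.mul_apply, MulAut.inv_apply_self]
  have hEN : E ≤ normalizerIn S E := le_normalizerIn hES
  have hfinN : Finite (normalizerIn S E) := finite_of_le inf_le_left
  have hψ' := restrict_mem hψ hle
  have hval : ∀ (x : Ω) (hx : x ∈ E), (ψ.comp (Subgroup.inclusion hle)) ⟨x, hEN hx⟩ =
      (E.subtype.comp α.toMonoidHom) ⟨x, hx⟩ := fun x hx => hψe x hx _
  have hmaps : ∀ x : normalizerIn S E, (ψ.comp (Subgroup.inclusion hle)) x ∈ normalizerIn S E :=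
    fun x => apply_mem_normalizerIn hψ' hEN inf_le_right hr hval x
  obtain ⟨β, hβ, hβe⟩ := exists_aut hψ' (range_eq_of_mapsTo hψ' hmaps)
  refine ⟨β, hβ, fun x hx hx' => ?_⟩
  rw [hβe]
  exact hval x hx

end Cfsg.Agent.H764
end

-- part: H764/Extra
section
/-!
# A `p`-group with an extraspecial subgroup of index `p`: elementary facts (helper764)
-/

set_option autoImplicit false

namespace Cfsg.Agent.H764

open Cfsg Cfsg.FusionSystem Cfsg.Agent.H802

variable {Ω : Type*} [Group Ω]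

/-- The centre of `Q`, as a subgroup of the ambient group. -/
def ZQ (Q : Subgroup Ω) : Subgroup Ω := Q ⊓ Subgroup.centralizer (Q : Set Ω)

theorem mem_ZQ {Q : Subgroup Ω} {z : Ω} : z ∈ ZQ Q ↔ z ∈ Q ∧ ∀ q ∈ Q, q * z = z * q := by
  unfold ZQ
  rw [Subgroup.mem_inf, Subgroup.mem_centralizer_iff]
  rfl

theorem ZQ_le (Q : Subgroup Ω) : ZQ Q ≤ Q := inf_le_left

theorem ZQ_eq_map (Q : Subgroup Ω) : ZQ Q = (Subgroup.center Q).map Q.subtype := by
  ext z
  rw [mem_ZQ]
  constructor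
  · rintro ⟨hz, h⟩
    refine ⟨⟨z, hz⟩, Subgroup.mem_center_iff.2 fun q => Subtype.ext (h q q.2), rfl⟩
  · rintro ⟨w, hw, rfl⟩
    refine ⟨w.2, fun q hq => ?_⟩
    exact congrArg Subtype.val (Subgroup.mem_center_iff.1 hw ⟨q, hq⟩)

/-- A group of prime order is generated by any nontrivial element (for subgroups of an ambient group). -/
theorem exists_zpow_of_card_prime {p : ℕ} [hp : Fact p.Prime] {Z : Subgroup Ω}
    (hZ : Nat.card Z = p) {z w : Ω} (hz : z ∈ Z) (hz1 : z ≠ 1) (hw : w ∈ Z) : ∃ i : ℤ, z ^ i = w := by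
  have h1 : (⟨z, hz⟩ : Z) ≠ 1 := fun h => hz1 (congrArg Subtype.val h)
  have h2 : (⟨w, hw⟩ : Z) ∈ Subgroup.zpowers (⟨z, hz⟩ : Z) := mem_zpowers_of_prime_card hZ h1
  obtain ⟨i, hi⟩ := Subgroup.mem_zpowers_iff.1 h2
  exact ⟨i, by simpa using congrArg Subtype.val hi⟩

theorem pow_eq_one_of_card_prime {p : ℕ} {Z : Subgroup Ω}
    (hZ : Nat.card Z = p) {z : Ω} (hz : z ∈ Z) : z ^ p = 1 := by
  have h1 : (⟨z, hz⟩ : Z) ^ Nat.card Z = 1 := pow_card_eq_one'
  rw [hZ] at h1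
  simpa using congrArg Subtype.val h1

/-- A subgroup of prime order normalized by the finite `p`-group `S` containing it is centralized by `S`. -/
theorem central_of_card_prime {p : ℕ} [hp : Fact p.Prime] {S Z : Subgroup Ω} [Finite S]
    (hS : IsPGroup p S) (hZS : Z ≤ S) (hZ : Nat.card Z = p)
    (hn : ∀ g ∈ S, ∀ z ∈ Z, g * z * g⁻¹ ∈ Z) : ∀ g ∈ S, ∀ z ∈ Z, g * z = z * g := by
  have hnorm : (Z.subgroupOf S).Normal := ⟨fun z hz g => hn g g.2 z hz⟩
  have hne : Z.subgroupOf S ≠ ⊥ := by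
    intro h
    have h1 : Nat.card (Z.subgroupOf S) = Nat.card Z :=
      Nat.card_congr (Subgroup.subgroupOfEquivOfLe hZS).toEquiv
    rw [h, Subgroup.card_bot, hZ] at h1
    exact hp.out.one_lt.ne h1
  obtain ⟨w, hw, hwc, hwo⟩ := Involutions.NormalFour.exists_mem_center_of_normal hS _ hne
  have hw1 : w ≠ 1 := by
    rintro rfl
    rw [orderOf_one] at hwo
    exact hp.out.one_lt.ne hwo
  intro g hg z hz
  obtain ⟨i, hi⟩ := exists_zpow_of_card_prime hZ (z := (w : Ω)) hw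
    (fun h => hw1 (Subtype.ext h)) hz
  rw [← hi]
  have h2 : Commute g (w : Ω) := congrArg Subtype.val (Subgroup.mem_center_iff.1 hwc ⟨g, hg⟩)
  exact (h2.zpow_right i)

/-- `Q` is an extraspecial subgroup of index `p` in the finite `p`-group `S`, `p` odd. -/
structure Ext (p : ℕ) (S Q : Subgroup Ω) : Prop where
  /-- `p` is odd. -/
  odd : Odd p
  /-- `S` is a `p`-group. -/
  pg : IsPGroup p S
  /-- `Q ≤ S`. -/
  le : Q ≤ S
  /-- `Q` is extraspecial. -/
  ex : Cfsg.IsExtraspecial p Q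
  /-- the index of `Q` in `S` is `p`. -/
  index : (Q.subgroupOf S).index = p

namespace Ext

variable {p : ℕ} [hp : Fact p.Prime] {S Q : Subgroup Ω}

theorem ne_two (h : Ext p S Q) : p ≠ 2 := by
  rintro rfl
  exact absurd h.odd (by decide)

theorem card_Z (h : Ext p S Q) : Nat.card (ZQ Q) = p := by
  rw [ZQ_eq_map, Nat.card_congr ((Subgroup.center Q).equivMapOfInjective _
    Q.subtype_injective).symm.toEquiv]
  exact h.ex.2

theorem comm_mem (h : Ext p S Q) {a b : Ω} (ha : a ∈ Q) (hb : b ∈ Q) :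
    a * b * a⁻¹ * b⁻¹ ∈ ZQ Q := by
  rw [ZQ_eq_map]
  exact ⟨_, Transfer.Extraspecial.comm_mem_center h.ex ⟨a, ha⟩ ⟨b, hb⟩, rfl⟩

theorem pow_mem (h : Ext p S Q) {a : Ω} (ha : a ∈ Q) : a ^ p ∈ ZQ Q := by
  rw [ZQ_eq_map]
  exact ⟨_, Transfer.Extraspecial.pow_mem_center h.ex ⟨a, ha⟩, rfl⟩

theorem mul_pow (h : Ext p S Q) {a b : Ω} (ha : a ∈ Q) (hb : b ∈ Q) :
    (a * b) ^ p = a ^ p * b ^ p :=
  congrArg Subtype.val
    (Transfer.Extraspecial.mul_pow_eq hp.out h.ne_two h.ex ⟨a, ha⟩ ⟨b, hb⟩)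

theorem exists_noncomm (h : Ext p S Q) : ∃ a ∈ Q, ∃ b ∈ Q, a * b ≠ b * a := by
  obtain ⟨x, y, hxy⟩ := Transfer.Extraspecial.exists_comm_ne_one hp.out.one_lt.ne' h.ex
  refine ⟨x, x.2, y, y.2, fun heq => hxy ?_⟩
  exact commutatorElement_eq_one_iff_mul_comm.2 (Subtype.ext heq)

/-- `Q` is normal in `S`. -/
theorem conj_mem [Finite S] (h : Ext p S Q) {g q : Ω} (hg : g ∈ S) (hq : q ∈ Q) :
    g * q * g⁻¹ ∈ Q := by
  have hnorm : (Q.subgroupOf S).Normal := by
    apply Subgroup.normal_of_index_eq_minFac_card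
    rw [h.index]
    obtain ⟨n, hn⟩ := h.pg.exists_card_eq
    have hn0 : n ≠ 0 := by
      rintro rfl
      have h1 := (Q.subgroupOf S).index_mul_card
      rw [h.index, hn, pow_zero] at h1
      exact hp.out.one_lt.ne' (Nat.eq_one_of_mul_eq_one_right h1)
    rw [hn, hp.out.pow_minFac hn0]
  exact hnorm.conj_mem ⟨q, h.le hq⟩ hq ⟨g, hg⟩

theorem conj_mem' [Finite S] (h : Ext p S Q) {g q : Ω} (hg : g ∈ S) (hq : q ∈ Q) :
    g⁻¹ * q * g ∈ Q := by
  have := h.conj_mem (S.inv_mem hg) hq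
  rwa [inv_inv] at this

/-- The centre of `Q` is centralized by `S`. -/
theorem Z_comm [Finite S] (h : Ext p S Q) {g z : Ω} (hg : g ∈ S) (hz : z ∈ ZQ Q) :
    g * z = z * g := by
  refine central_of_card_prime h.pg ((ZQ_le Q).trans h.le) h.card_Z ?_ g hg z hz
  intro g hg z hz
  rw [mem_ZQ] at hz ⊢
  refine ⟨h.conj_mem hg hz.1, fun q hq => ?_⟩
  have h1 := hz.2 _ (h.conj_mem' hg hq)
  calc q * (g * z * g⁻¹) = g * (g⁻¹ * q * g * z) * g⁻¹ := by group
    _ = g * (z * (g⁻¹ * q * g)) * g⁻¹ := by rw [h1]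
    _ = g * z * g⁻¹ * q := by group

theorem Z_le_center [Finite S] (h : Ext p S Q) : ZQ Q ≤ centralizerIn S S := by
  intro z hz
  refine ⟨h.le (ZQ_le Q hz), Subgroup.mem_centralizer_iff.2 fun g hg => ?_⟩
  exact h.Z_comm hg hz

theorem Z_gen (h : Ext p S Q) {z w : Ω} (hz : z ∈ ZQ Q) (hz1 : z ≠ 1) (hw : w ∈ ZQ Q) :
    ∃ i : ℤ, z ^ i = w := exists_zpow_of_card_prime h.card_Z hz hz1 hw

theorem Z_pow (h : Ext p S Q) {z : Ω} (hz : z ∈ ZQ Q) : z ^ p = 1 :=
  pow_eq_one_of_card_prime h.card_Z hz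

theorem exists_Z_ne_one (h : Ext p S Q) : ∃ z ∈ ZQ Q, z ≠ 1 := by
  by_contra hcon
  push Not at hcon
  have : ZQ Q = ⊥ := by
    rw [eq_bot_iff]
    intro z hz
    exact hcon z hz
  have h1 := h.card_Z
  rw [this, Subgroup.card_bot] at h1
  exact hp.out.one_lt.ne h1

/-- The centre of `Q` is not normal in a system with trivial core. -/
theorem not_isNormal {F : FusionSystem S} (h : Ext p S Q) (hO : F.core = ⊥) :
    ¬ F.IsNormal (ZQ Q) := by
  intro hn
  obtain ⟨z, hz, hz1⟩ := h.exists_Z_ne_one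
  have h1 : ZQ Q ≤ F.core := le_sSup hn
  rw [hO] at h1
  exact hz1 (h1 hz)

end Ext

end Cfsg.Agent.H764
end

-- part: H764/FusTool2
section
/-!
# Tools for saturated fusion systems, part 2 (helper764)

* `eq_autInducedBy_of_isPGroup` : a `p`-subgroup of `Aut_F(E)` containing `Aut_S(E)` equals it.
* `normalizes_of_normal` : if `Aut_S(E)` lies in a normal `p`-subgroup of `Aut_F(E)` it is normal.
* `agree_of_pow` : an element of `Aut_F(S)` whose `p`-th power centralizes `Z(S)` centralizes `Z(S)`.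
* `negOne` : two transvections generate an element inverting the plane.
-/

set_option autoImplicit false

namespace Cfsg.Agent.H764

open Cfsg Cfsg.FusionSystem Cfsg.Agent.H802

variable {Ω : Type*} [Group Ω] {S : Subgroup Ω} {p : ℕ} [hp : Fact p.Prime] [Finite S]

/-- A `p`-subgroup of `Aut_F(E)` containing `Aut_S(E)`, `E` fully normalized, equals `Aut_S(E)`. -/
theorem eq_autInducedBy_of_isPGroup {F : FusionSystem S} {E : Subgroup Ω}
    (hS : IsPGroup p S) (hF : F.IsSaturated p) (hE : F.IsFullyNormalized E)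
    {N : Subgroup (MulAut E)} (hN : N ≤ F.autGroup E) (hNp : IsPGroup p N)
    (hle : autInducedBy S E ≤ N) : N = autInducedBy S E := by
  have hfinE : Finite E := finite_of_le hE.1
  obtain ⟨-, R, hR⟩ := isFullyAutomized_of_isFullyNormalized hS hF hE
  have h1 : IsPGroup p (N.subgroupOf (F.autGroup E)) :=
    hNp.comap_of_injective _ (Subgroup.subtype_injective _)
  have h2 : (R : Subgroup (F.autGroup E)) ≤ N.subgroupOf (F.autGroup E) := by
    intro x hx
    rw [hR, Subgroup.mem_subgroupOf] at hx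
    exact hle hx
  have h3 := R.is_maximal' h1 h2
  refine le_antisymm ?_ hle
  intro x hx
  have h4 : (⟨x, hN hx⟩ : F.autGroup E) ∈ N.subgroupOf (F.autGroup E) := hx
  rw [h3, hR, Subgroup.mem_subgroupOf] at h4
  exact h4

/-- If `Aut_S(E)` lies in a `p`-subgroup of `Aut_F(E)` normalized by `α`, then `α` normalizes `Aut_S(E)`. -/
theorem normalizes_of_normal {F : FusionSystem S} {E : Subgroup Ω}
    (hS : IsPGroup p S) (hF : F.IsSaturated p) (hE : F.IsFullyNormalized E)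
    {N : Subgroup (MulAut E)} (hN : N ≤ F.autGroup E) (hNp : IsPGroup p N)
    (hle : autInducedBy S E ≤ N) {α : MulAut E} (hα : ∀ γ ∈ N, α * γ * α⁻¹ ∈ N) :
    ∀ γ ∈ autInducedBy S E, α * γ * α⁻¹ ∈ autInducedBy S E := by
  have h := eq_autInducedBy_of_isPGroup hS hF hE hN hNp hle
  rw [h] at hα
  exact hα

/-- Elements of `MulAut` of `p`-th power one: a subgroup consisting of such elements is a `p`-group. -/
theorem isPGroup_of_pow_eq_one {G : Type*} [Group G] {N : Subgroup G} {n : ℕ}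
    (h : ∀ x ∈ N, x ^ p ^ n = 1) : IsPGroup p N := by
  rintro ⟨x, hx⟩
  exact ⟨n, Subtype.ext (h x hx)⟩

theorem isFullyNormalized_self (F : FusionSystem S) : F.IsFullyNormalized S := by
  refine ⟨le_rfl, fun Q hQ => ?_⟩
  have h1 : Q ≤ S := isConj_le_right hQ
  have h2 := isConj_card_eq hQ
  have h3 : Q = S := Subgroup.eq_of_le_of_card_ge h1 h2.le
  rw [h3]

/-- An automorphism of `S` preserves `Z(S)`. -/
theorem apply_mem_center (β : MulAut S) {c : S} (hc : (c : Ω) ∈ centralizerIn S S) :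
    ((β c : S) : Ω) ∈ centralizerIn S S := by
  refine ⟨(β c).2, Subgroup.mem_centralizer_iff.2 fun g hg => ?_⟩
  have h1 : (β⁻¹ ⟨g, hg⟩ : S) * c = c * β⁻¹ ⟨g, hg⟩ :=
    Subtype.ext (Subgroup.mem_centralizer_iff.1 hc.2 _ (β⁻¹ ⟨g, hg⟩).2)
  have h2 := congrArg β h1
  rw [map_mul, map_mul, MulAut.apply_inv_self] at h2
  exact congrArg Subtype.val h2

/-- If `δ ∈ Aut_F(S)` and `δ^(p^n)` is trivial on `Z(S)` then `δ` is trivial on `Z(S)`. -/
theorem agree_of_pow {F : FusionSystem S} (hS : IsPGroup p S) (hF : F.IsSaturated p)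
    {δ : MulAut S} (hδ : δ ∈ F.autGroup S) {n : ℕ}
    (h : ∀ c : S, (c : Ω) ∈ centralizerIn S S → (δ ^ p ^ n) c = c) :
    ∀ c : S, (c : Ω) ∈ centralizerIn S S → δ c = c := by
  let K : Subgroup (F.autGroup S) :=
    { carrier := {β | ∀ c : S, (c : Ω) ∈ centralizerIn S S → (β : MulAut S) c = c}
      mul_mem' := by
        intro a b ha hb c hc
        show (a : MulAut S) ((b : MulAut S) c) = c
        rw [hb c hc, ha c hc]
      one_mem' := fun c _ => rfl
      inv_mem' := by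
        intro a ha c hc
        show (a : MulAut S)⁻¹ c = c
        conv_lhs => rw [← ha c hc]
        exact (a : MulAut S).symm_apply_apply c }
  have hKn : K.Normal := by
    refine ⟨fun a ha b c hc => ?_⟩
    show (b : MulAut S) ((a : MulAut S) ((b : MulAut S)⁻¹ c)) = c
    have h1 : (((b : MulAut S)⁻¹ c : S) : Ω) ∈ centralizerIn S S := apply_mem_center _ hc
    rw [ha _ h1]
    exact (b : MulAut S).apply_symm_apply c
  obtain ⟨-, R, hR⟩ := isFullyAutomized_of_isFullyNormalized hS hF (isFullyNormalized_self F)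
  have hRK : (R : Subgroup (F.autGroup S)) ≤ K := by
    intro a ha c hc
    rw [hR, Subgroup.mem_subgroupOf] at ha
    obtain ⟨g, hg, he⟩ := (mem_autInducedBy_iff S S _).1 ha
    apply Subtype.ext
    rw [he, Subgroup.mem_centralizer_iff.1 hc.2 g hg]
    group
  have hcop : ¬ p ∣ K.index := by
    intro hd
    exact R.not_dvd_index' (by
      intro h0
      have : Finite (F.autGroup S) := inferInstance
      exact Subgroup.index_ne_zero_of_finite h0) (hd.trans (Subgroup.index_dvd_of_le hRK))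
  have hδK : ((⟨δ, hδ⟩ : F.autGroup S) ^ p ^ n) ∈ K := by
    intro c hc
    exact h c hc
  have h2 : (QuotientGroup.mk' K ⟨δ, hδ⟩) ^ p ^ n = 1 := by
    rw [← map_pow]
    exact (QuotientGroup.eq_one_iff _).2 hδK
  have h3 : (QuotientGroup.mk' K ⟨δ, hδ⟩) = 1 := by
    have h4 : orderOf (QuotientGroup.mk' K ⟨δ, hδ⟩) ∣ p ^ n := orderOf_dvd_of_pow_eq_one h2
    have h5 : orderOf (QuotientGroup.mk' K ⟨δ, hδ⟩) ∣ K.index := by
      rw [Subgroup.index_eq_card]
      exact orderOf_dvd_natCard _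
    have h6 : Nat.Coprime (p ^ n) K.index :=
      Nat.Coprime.pow_left n ((Nat.Prime.coprime_iff_not_dvd hp.out).2 hcop)
    exact orderOf_eq_one_iff.1 (Nat.eq_one_of_dvd_coprimes h6 h4 h5)
  have h7 : (⟨δ, hδ⟩ : F.autGroup S) ∈ K := (QuotientGroup.eq_one_iff _).1 h3
  exact h7

end Cfsg.Agent.H764
end

-- part: H764/Plane
section
/-!
# Two transvections of a plane generate the torus of `SL(2, p)` (helper764)
-/

set_option autoImplicit false

namespace Cfsg.Agent.H764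

variable {E : Type*} [Group E] {p : ℕ} [hp : Fact p.Prime]

theorem zpow_eq_one_of_dvd {G : Type*} [Group G] {a : G} {q : ℕ} (ha : a ^ q = 1) {n : ℤ}
    (h : (q : ℤ) ∣ n) : a ^ n = 1 := by
  obtain ⟨m, rfl⟩ := h
  rw [zpow_mul, zpow_natCast, ha, one_zpow]

theorem zpow_eq_zpow_of_modEq {G : Type*} [Group G] {a : G} {q : ℕ} (ha : a ^ q = 1) {m n : ℤ}
    (h : (q : ℤ) ∣ m - n) : a ^ m = a ^ n := by
  have h1 := zpow_eq_one_of_dvd ha h
  rw [zpow_sub] at h1
  exact mul_inv_eq_one.1 h1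

/-- Inverses modulo a prime. -/
theorem exists_mul_sub_one {k : ℤ} (hk : ¬ (p : ℤ) ∣ k) : ∃ j : ℤ, (p : ℤ) ∣ k * j - 1 := by
  have h1 : IsCoprime k (p : ℤ) := by
    rw [isCoprime_comm]
    exact (Nat.prime_iff_prime_int.1 hp.out).coprime_iff_not_dvd.2 hk
  obtain ⟨u, v, huv⟩ := h1
  exact ⟨u, ⟨-v, by linarith⟩⟩

/-- A power map of an automorphism acting as a transvection. -/
theorem pow_transvection {t : MulAut E} {a z : E} (hta : t a = a * z)
    (htz : t z = z) (n : ℤ) : (t ^ n) a = a * z ^ n := by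
  have hz : ∀ n : ℤ, (t ^ n) z = z := by
    intro n
    have h1 : t ∈ MulAction.stabilizer (MulAut E) z := htz
    exact (MulAction.stabilizer (MulAut E) z).zpow_mem h1 n
  have hpos : ∀ n : ℕ, (t ^ n) a = a * z ^ n := by
    intro n
    induction n with
    | zero => simp
    | succ n ih =>
      rw [pow_succ', MulAut.mul_apply, ih, map_mul, map_pow, hta, htz, pow_succ']
      group
  cases n with
  | ofNat n => simpa using hpos n
  | negSucc n =>
    rw [zpow_negSucc, zpow_negSucc]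
    have h1 := hpos (n + 1)
    have h2 : (t ^ (n + 1))⁻¹ (a * z ^ (n + 1)) = a := by
      rw [← h1]
      exact (t ^ (n + 1)).symm_apply_apply a
    have h3 : (t ^ (n + 1))⁻¹ (z ^ (n + 1)) = z ^ (n + 1) := by
      rw [map_pow]
      congr 1
      have := hz (-((n + 1 : ℕ) : ℤ))
      rwa [zpow_neg, zpow_natCast] at this
    rw [map_mul, h3] at h2
    exact eq_mul_inv_of_mul_eq h2

/-- Two transvections with different centres on the plane `⟨a, z⟩` generate the swap `a ↦ z^u`, `z ↦ a^(-u')`,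
`u u' = 1`. -/
theorem exists_swap {G : Subgroup (MulAut E)} {t s : MulAut E} (ht : t ∈ G) (hs : s ∈ G) {a z : E}
    (haz : a * z = z * a) (hap : a ^ p = 1) (hta : t a = a * z) (htz : t z = z)
    (hsa : s a = a) {k : ℤ} (hsz : s z = z * a ^ k) (hk : ¬ (p : ℤ) ∣ k) {u u' : ℤ}
    (hzp : z ^ p = 1) (huu : (p : ℤ) ∣ u * u' - 1) :
    ∃ n ∈ G, n a = z ^ u ∧ n z = a ^ (-u') ∧ ∀ y, t y = y → s y = y → n y = y := by
  obtain ⟨j, hj⟩ := exists_mul_sub_one hk
  -- s₀ = s ^ (-j * u') : z ↦ z * a ^ (-u')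
  have hs0a : ∀ m : ℤ, (s ^ m) a = a := fun m =>
    (MulAction.stabilizer (MulAut E) a).zpow_mem (show s ∈ MulAction.stabilizer (MulAut E) a from hsa) m
  have hs0z : ∀ m : ℤ, (s ^ m) z = z * a ^ (k * m) := by
    intro m
    have := pow_transvection (t := s) (a := z) (z := a ^ k) hsz (by rw [map_zpow, hsa]) m
    rw [this, ← zpow_mul]
  have hta' : ∀ m : ℤ, (t ^ m) a = a * z ^ m := pow_transvection hta htz
  have htz' : ∀ m : ℤ, (t ^ m) z = z := fun m =>
    (MulAction.stabilizer (MulAut E) z).zpow_mem (show t ∈ MulAction.stabilizer (MulAut E) z from htz) m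
  have hC : Commute a z := haz
  have e1 : a ^ (k * (-(j * u'))) = a ^ (-u') := by
    apply zpow_eq_zpow_of_modEq hap
    have : k * (-(j * u')) - (-u') = -u' * (k * j - 1) := by ring
    rw [this]
    exact Dvd.dvd.mul_left hj _
  have e2 : (s ^ (-(j * u'))) z = z * a ^ (-u') := by rw [hs0z, e1]
  have e3 : (s ^ (-(j * u'))) (a * z ^ u) = z ^ u := by
    rw [map_mul, map_zpow, hs0a, e2, (hC.symm.zpow_right (-u')).mul_zpow, ← zpow_mul]
    have e4 : a ^ (-u' * u) = a ^ (-1 : ℤ) := by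
      apply zpow_eq_zpow_of_modEq hap
      have : -u' * u - (-1) = -1 * (u * u' - 1) := by ring
      rw [this]
      exact Dvd.dvd.mul_left huu _
    rw [e4, zpow_neg_one, ← mul_assoc, (hC.zpow_right u).eq]
    group
  have e5 : (t ^ u) (z * a ^ (-u')) = a ^ (-u') := by
    rw [map_mul, map_zpow, htz', hta', (hC.zpow_right u).mul_zpow, ← zpow_mul]
    have e4 : z ^ (u * -u') = z ^ (-1 : ℤ) := by
      apply zpow_eq_zpow_of_modEq hzp
      have : u * -u' - (-1) = -1 * (u * u' - 1) := by ring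
      rw [this]
      exact Dvd.dvd.mul_left huu _
    rw [e4, zpow_neg_one, ← mul_assoc, ← (hC.zpow_left (-u')).eq]
    group
  refine ⟨t ^ u * s ^ (-(j * u')) * t ^ u,
    mul_mem (mul_mem (zpow_mem ht _) (zpow_mem hs _)) (zpow_mem ht _), ?_, ?_, ?_⟩
  · rw [MulAut.mul_apply, MulAut.mul_apply, hta', e3, map_zpow, htz']
  · rw [MulAut.mul_apply, MulAut.mul_apply, htz', e2, e5]
  · intro y hy1 hy2
    have h1 : ∀ m : ℤ, (t ^ m) y = y := fun m =>
      (MulAction.stabilizer (MulAut E) y).zpow_mem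
        (show t ∈ MulAction.stabilizer (MulAut E) y from hy1) m
    have h2 : ∀ m : ℤ, (s ^ m) y = y := fun m =>
      (MulAction.stabilizer (MulAut E) y).zpow_mem
        (show s ∈ MulAction.stabilizer (MulAut E) y from hy2) m
    rw [MulAut.mul_apply, MulAut.mul_apply, h1, h2, h1]

/-- Two transvections with different centres on the plane `⟨a, z⟩` generate the torus
`a ↦ a^u'`, `z ↦ z^u`, `u u' = 1`. -/
theorem exists_torus {G : Subgroup (MulAut E)} {t s : MulAut E} (ht : t ∈ G) (hs : s ∈ G) {a z : E}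
    (haz : a * z = z * a) (hap : a ^ p = 1) (hta : t a = a * z) (htz : t z = z)
    (hsa : s a = a) {k : ℤ} (hsz : s z = z * a ^ k) (hk : ¬ (p : ℤ) ∣ k) {u u' : ℤ}
    (hzp : z ^ p = 1) (huu : (p : ℤ) ∣ u * u' - 1) :
    ∃ n ∈ G, n a = a ^ u' ∧ n z = z ^ u ∧ ∀ y, t y = y → s y = y → n y = y := by
  obtain ⟨n₁, hn₁, h1a, h1z, h1y⟩ := exists_swap (u := 1) (u' := 1) ht hs haz hap hta htz hsa hsz hk
    hzp (by simp)
  obtain ⟨n₂, hn₂, h2a, h2z, h2y⟩ := exists_swap (u := -u) (u' := -u') ht hs haz hap hta htz hsa hsz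
    hk hzp (by rwa [neg_mul_neg])
  refine ⟨n₂ * n₁, mul_mem hn₂ hn₁, ?_, ?_, fun y hy1 hy2 => ?_⟩
  · rw [MulAut.mul_apply, h1a, zpow_one, h2z, neg_neg]
  · rw [MulAut.mul_apply, h1z, map_zpow, h2a, ← zpow_mul]
    congr 1
    ring
  · rw [MulAut.mul_apply, h1y y hy1 hy2, h2y y hy1 hy2]

end Cfsg.Agent.H764
end

-- part: H764/Center
section
/-!
# The centre of a `p`-group with an extraspecial subgroup of index `p` (helper764)

If `O_p(F) = 1` then `Z(S) = Z(Q)`.
-/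

set_option autoImplicit false

namespace Cfsg.Agent.H764

open Cfsg Cfsg.FusionSystem Cfsg.Agent.H802

variable {Ω : Type*} [Group Ω] {S : Subgroup Ω} {p : ℕ} [hp : Fact p.Prime]

/-- If `H` has prime index in `S` (and is normalized by `S`), `c ∈ S \ H`, then `S = H⟨c⟩`. -/
theorem exists_mul_zpow_mem_of_index {H : Subgroup Ω} (hi : (H.subgroupOf S).index = p)
    (hn : ∀ g ∈ S, ∀ q ∈ H, g * q * g⁻¹ ∈ H) (hHS : H ≤ S) {c : Ω} (hc : c ∈ S) (hcH : c ∉ H)
    {s : Ω} (hs : s ∈ S) : ∃ i : ℤ, s * c ^ i ∈ H := by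
  have hnorm : (H.subgroupOf S).Normal := ⟨fun q hq g => hn g g.2 q hq⟩
  have hcard : Nat.card (S ⧸ H.subgroupOf S) = p := by
    rw [← Subgroup.index_eq_card, hi]
  have h1 : (QuotientGroup.mk' (H.subgroupOf S) ⟨c, hc⟩) ≠ 1 := by
    intro h
    exact hcH ((QuotientGroup.eq_one_iff (N := H.subgroupOf S) ⟨c, hc⟩).1 h)
  have h2 : (QuotientGroup.mk' (H.subgroupOf S) ⟨s, hs⟩)⁻¹ ∈
      Subgroup.zpowers (QuotientGroup.mk' (H.subgroupOf S) ⟨c, hc⟩) :=
    mem_zpowers_of_prime_card hcard h1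
  obtain ⟨i, hi⟩ := Subgroup.mem_zpowers_iff.1 h2
  refine ⟨i, ?_⟩
  have h3 : QuotientGroup.mk' (H.subgroupOf S) (⟨s, hs⟩ * ⟨c, hc⟩ ^ i) = 1 := by
    rw [map_mul, map_zpow, hi, mul_inv_cancel]
  have h4 := (QuotientGroup.eq_one_iff (N := H.subgroupOf S) _).1 h3
  exact (by simpa using Subgroup.mem_subgroupOf.1 h4)

/-- The inner automorphism of `P` given by `g`, applied to powers. -/
theorem coe_zpow_conj {P : Subgroup Ω} {t : MulAut P} {g : Ω}
    (ht : ∀ x : P, ((t x : P) : Ω) = g * x * g⁻¹) (n : ℤ) (x : P) :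
    (((t ^ n) x : P) : Ω) = g ^ n * x * (g ^ n)⁻¹ := by
  have hpos : ∀ n : ℕ, ∀ x : P, (((t ^ n) x : P) : Ω) = g ^ n * x * (g ^ n)⁻¹ := by
    intro n
    induction n with
    | zero => intro x; simp
    | succ n ih =>
      intro x
      rw [pow_succ, MulAut.mul_apply, ih, ht, pow_succ]
      group
  cases n with
  | ofNat n => simpa using hpos n x
  | negSucc n =>
    rw [zpow_negSucc, zpow_negSucc]
    have h1 := hpos (n + 1) ((t ^ (n + 1))⁻¹ x)
    rw [MulAut.apply_inv_self] at h1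
    rw [h1]
    group

variable [Finite S]

/-- In the situation where all commutators of `S` lie in `Z`, a subgroup `P` moving `Z` gives an element of
`Aut_F(S)` inverting `Z` and trivial on `Z(S) / Z`, whose fixed points on `Z(S)` are `Z(S) ∩ γ(Z(S))`. -/
theorem exists_good {F : FusionSystem S} {Z P : Subgroup Ω} (hS : IsPGroup p S)
    (hF : F.IsSaturated p) (hodd : Odd p) (h : Setup F Z P) (hZ : Nat.card Z = p)
    (hcomm : ∀ s ∈ S, ∀ t ∈ S, s * t * s⁻¹ * t⁻¹ ∈ Z) (hnc : ∃ s ∈ S, ∃ t ∈ S, s * t ≠ t * s)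
    {γ : MulAut P} (hγ : γ ∈ F.autGroup P) (hmove : ¬ Fix Z γ) :
    ∃ β ∈ F.autGroup S, (∀ z : S, (z : Ω) ∈ Z → β z = z⁻¹) ∧
      (∀ c : S, (c : Ω) ∈ centralizerIn S S → ((β c * c⁻¹ : S) : Ω) ∈ Z) ∧
      (∀ (c : Ω) (hcS : c ∈ S) (hc : c ∈ centralizerIn S S) (hcP : c ∈ P),
        β ⟨c, hcS⟩ = ⟨c, hcS⟩ ↔ ((γ⁻¹ ⟨c, hcP⟩ : P) : Ω) ∈ centralizerIn S S) ∧
      (∀ (g : Ω), g ∈ S → g ∉ P → ∀ e : P, g * e = e * g → (e : Ω) ∈ centralizerIn S S) ∧
      (∀ e f : P, e * f = f * e) := by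
  have hPS := h.le_S
  have hZP := h.Y_le
  have hfinP : Finite P := finite_of_le hPS
  -- `S` normalizes `P`
  have hconj : ∀ s ∈ S, ∀ e ∈ P, s * e * s⁻¹ ∈ P := by
    intro s hs e he
    have h1 := P.mul_mem (hZP (hcomm s hs e (hPS he))) he
    have h2 : s * e * s⁻¹ * e⁻¹ * e = s * e * s⁻¹ := by group
    rwa [h2] at h1
  have hNP : S ≤ Subgroup.normalizer (P : Set Ω) := by
    intro s hs
    refine Subgroup.mem_normalizer_iff.2 fun x => ⟨hconj s hs x, fun hx => ?_⟩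
    have h1 := hconj s⁻¹ (S.inv_mem hs) _ hx
    have h2 : s⁻¹ * (s * x * s⁻¹) * s⁻¹⁻¹ = x := by group
    rwa [h2] at h1
  have hNS : normalizerIn S P = S := inf_eq_left.2 hNP
  -- a generator of `Z` moved by `γ`
  have hmove' : ∃ z₀ : P, (z₀ : Ω) ∈ Z ∧ ((γ z₀ : P) : Ω) ∉ Z := by
    by_contra hcon
    push Not at hcon
    exact hmove hcon
  obtain ⟨z₀, hz₀, ha⟩ := hmove'
  have hz₀1 : (z₀ : Ω) ≠ 1 := by
    intro h1
    apply ha
    have : z₀ = 1 := Subtype.ext h1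
    rw [this, map_one]
    exact Z.one_mem
  have hgen : ∀ w : P, (w : Ω) ∈ Z → ∃ i : ℤ, z₀ ^ i = w := by
    intro w hw
    obtain ⟨i, hi⟩ := exists_zpow_of_card_prime hZ hz₀ hz₀1 hw
    exact ⟨i, Subtype.ext (by simpa using hi)⟩
  -- `P` is abelian
  have hab : ∀ e f : P, e * f = f * e := by
    intro e f
    by_contra hne
    apply ha
    have h1 : ((e * f * e⁻¹ * f⁻¹ : P) : Ω) ∈ Z := hcomm e (hPS e.2) f (hPS f.2)
    have h2 : ((e * f * e⁻¹ * f⁻¹ : P) : Ω) ≠ 1 := by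
      intro h3
      apply hne
      have h4 : e * f * e⁻¹ * f⁻¹ = 1 := Subtype.ext h3
      calc e * f = (e * f * e⁻¹ * f⁻¹) * (f * e) := by group
        _ = f * e := by rw [h4, one_mul]
    obtain ⟨i, hi⟩ := exists_zpow_of_card_prime hZ h1 h2 hz₀
    have h3 : z₀ = (e * f * e⁻¹ * f⁻¹) ^ i := Subtype.ext (by simpa using hi.symm)
    rw [h3, map_zpow]
    have h4 : ((γ (e * f * e⁻¹ * f⁻¹) : P) : Ω) ∈ Z := by
      rw [map_mul, map_mul, map_mul, map_inv, map_inv]
      exact hcomm _ (hPS (γ e).2) _ (hPS (γ f).2)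
    simpa using Z.zpow_mem h4 i
  -- an element outside `P`
  have hPne : ∃ g ∈ S, g ∉ P := by
    by_contra hcon
    push Not at hcon
    obtain ⟨s, hs, t, ht, hne⟩ := hnc
    exact hne (congrArg Subtype.val (hab ⟨s, hcon s hs⟩ ⟨t, hcon t ht⟩))
  obtain ⟨g, hg, hgP⟩ := hPne
  have hgN : ∀ s ∈ S, s ∈ normalizerIn S P := fun s hs => by rw [hNS]; exact hs
  set a : P := γ z₀ with ha_def
  have hap : a ^ p = 1 := by
    rw [ha_def, ← map_pow]
    have : z₀ ^ p = 1 := Subtype.ext (by simpa using pow_eq_one_of_card_prime hZ hz₀)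
    rw [this, map_one]
  -- semiregularity for `a`
  have hSRa : ∀ s ∈ S, s * (a : Ω) = a * s → s ∈ P := by
    intro s hs hsa
    refine h.mem_of_fixes hS hF hγ hmove (hgN s hs) ?_
    intro y hy hx
    obtain ⟨i, rfl⟩ := hgen y hy
    have h1 : s * ((γ (z₀ ^ i) : P) : Ω) * s⁻¹ = (γ (z₀ ^ i) : P) := by
      rw [map_zpow, ← ha_def]
      have h2 : Commute s (((a ^ i : P)) : Ω) := by
        rw [Subgroup.coe_zpow]
        exact (show Commute s (a : Ω) from hsa).zpow_right i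
      rw [h2.eq]
      group
    have h2 : (⟨s * ((γ (z₀ ^ i) : P) : Ω) * s⁻¹, hx⟩ : P) = γ (z₀ ^ i) := Subtype.ext h1
    rw [h2, MulAut.inv_apply_self]
    exact hy
  have hmove2 : ¬ Fix Z γ⁻¹ := fun h1 => hmove (by simpa using Fix.inv h1)
  -- semiregularity for `γ⁻¹ w`, `w ∈ Z` nontrivial
  have hSRi : ∀ w : P, (w : Ω) ∈ Z → w ≠ 1 → ∀ s ∈ S, s * ((γ⁻¹ w : P) : Ω) = (γ⁻¹ w : P) * s →
      s ∈ P := by
    intro w hw hw1 s hs hsw
    refine h.mem_of_fixes hS hF (inv_mem hγ) hmove2 (hgN s hs) ?_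
    intro y hy hx
    obtain ⟨i, hi⟩ := exists_zpow_of_card_prime hZ hw (fun h1 => hw1 (Subtype.ext h1)) hy
    have hy' : y = w ^ i := Subtype.ext (by simpa using hi.symm)
    subst hy'
    have h1 : s * ((γ⁻¹ (w ^ i) : P) : Ω) * s⁻¹ = (γ⁻¹ (w ^ i) : P) := by
      rw [map_zpow]
      have h2 : Commute s ((((γ⁻¹ w) ^ i : P)) : Ω) := by
        rw [Subgroup.coe_zpow]
        exact (show Commute s ((γ⁻¹ w : P) : Ω) from hsw).zpow_right i
      rw [h2.eq]
      group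
    have h2 : (⟨s * ((γ⁻¹ (w ^ i) : P) : Ω) * s⁻¹, hx⟩ : P) = γ⁻¹ (w ^ i) := Subtype.ext h1
    rw [h2, MulAut.inv_apply_self]
    exact hy
  -- the transvection `t`
  obtain ⟨t, ht⟩ := exists_conjAut (hNP hg)
  have htF : t ∈ F.autGroup P :=
    autInducedBy_le_autGroup F hPS ((mem_autInducedBy_iff S P t).2 ⟨g, hg, ht⟩)
  have htz : ∀ w : P, (w : Ω) ∈ Z → t w = w := by
    intro w hw
    apply Subtype.ext
    rw [ht, h.comm hg hw]
    group
  obtain ⟨z, hz⟩ : ∃ z : P, z = a⁻¹ * t a := ⟨_, rfl⟩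
  have hta : t a = a * z := by rw [hz]; group
  have hzZ : (z : Ω) ∈ Z := by
    have h1 := hcomm g hg a (hPS a.2)
    have h2 : (z : Ω) = g * a * g⁻¹ * (a : Ω)⁻¹ := by
      rw [hz, Subgroup.coe_mul, ht, Subgroup.coe_inv]
      have h3 : (a : Ω)⁻¹ * (g * a * g⁻¹) = (g * a * g⁻¹) * (a : Ω)⁻¹ := by
        have := hab a⁻¹ (t a)
        have := congrArg Subtype.val this
        simpa [ht] using this
      exact h3
    rw [h2]
    exact h1
  have hz1 : z ≠ 1 := by
    intro h1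
    apply hgP
    apply hSRa g hg
    have h2 : t a = a := by rw [hta, h1, mul_one]
    have h3 := congrArg Subtype.val h2
    rw [ht] at h3
    exact mul_inv_eq_iff_eq_mul.1 h3
  have hzp : z ^ p = 1 := Subtype.ext (by simpa using pow_eq_one_of_card_prime hZ hzZ)
  have hzgen : ∀ w : P, (w : Ω) ∈ Z → ∃ i : ℤ, z ^ i = w := by
    intro w hw
    obtain ⟨i, hi⟩ := exists_zpow_of_card_prime hZ hzZ (fun h1 => hz1 (Subtype.ext h1)) hw
    exact ⟨i, Subtype.ext (by simpa using hi)⟩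
  have htzz : t z = z := htz z hzZ
  -- `t w * w⁻¹ ∈ Z`
  have htw : ∀ w : P, ∃ i : ℤ, t w = w * z₀ ^ i := by
    intro w
    have h1 : ((t w * w⁻¹ : P) : Ω) ∈ Z := by
      rw [Subgroup.coe_mul, ht, Subgroup.coe_inv]
      exact hcomm g hg w (hPS w.2)
    obtain ⟨i, hi⟩ := hgen _ h1
    exact ⟨i, by rw [hi, hab w]; group⟩
  have htw' : ∀ w : P, ∃ i : ℤ, t w = w * z ^ i := by
    intro w
    have h1 : ((t w * w⁻¹ : P) : Ω) ∈ Z := by
      rw [Subgroup.coe_mul, ht, Subgroup.coe_inv]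
      exact hcomm g hg w (hPS w.2)
    obtain ⟨i, hi⟩ := hzgen _ h1
    exact ⟨i, by rw [hi, hab w]; group⟩
  -- the conjugate transvection
  set s : MulAut P := γ * t * γ⁻¹ with hs_def
  have hsF : s ∈ F.autGroup P := mul_mem (mul_mem hγ htF) (inv_mem hγ)
  have hsapp : ∀ w : P, s w = γ (t (γ⁻¹ w)) := fun w => rfl
  have hsa : s a = a := by
    rw [hsapp, ha_def, MulAut.inv_apply_self, htz z₀ hz₀]
  have hsw : ∀ w : P, ∃ i : ℤ, s w = w * a ^ i := by
    intro w
    obtain ⟨i, hi⟩ := htw (γ⁻¹ w)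
    exact ⟨i, by rw [hsapp, hi, map_mul, MulAut.apply_inv_self, map_zpow]⟩
  obtain ⟨k, hk⟩ := htw (γ⁻¹ z)
  have hsz : s z = z * a ^ k := by
    rw [hsapp, hk, map_mul, MulAut.apply_inv_self, map_zpow]
  have hkp : ¬ (p : ℤ) ∣ k := by
    intro hd
    apply hgP
    apply hSRi z hzZ hz1 g hg
    have h1 : z₀ ^ k = 1 := by
      apply zpow_eq_one_of_dvd (q := p) _ hd
      exact Subtype.ext (by simpa using pow_eq_one_of_card_prime hZ hz₀)
    rw [h1, mul_one] at hk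
    have h3 := congrArg Subtype.val hk
    rw [ht] at h3
    exact mul_inv_eq_iff_eq_mul.1 h3
  obtain ⟨n, hn, hna, hnz, hny⟩ := exists_torus (p := p) (u := -1) (u' := -1) htF hsF (hab a z) hap
    hta htzz hsa hsz hkp hzp (by simp)
  rw [zpow_neg_one] at hna hnz
  -- decomposition of elements of `P`
  have hdec : ∀ e : P, ∃ (y : P) (l i : ℤ), e = y * z ^ l * a ^ i ∧ t y = y ∧ s y = y := by
    intro e
    obtain ⟨i, hi⟩ := htw' e
    have h1 : t (e * a ^ (-i)) = e * a ^ (-i) := by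
      rw [map_mul, map_zpow, hi, hta, (show Commute a z from hab a z).mul_zpow]
      have h2 : e * z ^ i * (a ^ (-i) * z ^ (-i)) = e * a ^ (-i) * (z ^ i * z ^ (-i)) := by
        have h3 : z ^ i * a ^ (-i) = a ^ (-i) * z ^ i := hab _ _
        calc e * z ^ i * (a ^ (-i) * z ^ (-i)) = e * (z ^ i * a ^ (-i)) * z ^ (-i) := by group
          _ = e * (a ^ (-i) * z ^ i) * z ^ (-i) := by rw [h3]
          _ = e * a ^ (-i) * (z ^ i * z ^ (-i)) := by group
      rw [h2]
      simp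
    obtain ⟨m, hm⟩ := hsw (e * a ^ (-i))
    obtain ⟨j, hj⟩ := exists_mul_sub_one hkp
    have h2 : s (e * a ^ (-i) * z ^ (-(j * m))) = e * a ^ (-i) * z ^ (-(j * m)) := by
      rw [map_mul, hm, map_zpow, hsz, (show Commute z (a ^ k) from hab _ _).mul_zpow, ← zpow_mul]
      have h3 : a ^ m * a ^ (k * -(j * m)) = 1 := by
        rw [← zpow_add]
        apply zpow_eq_one_of_dvd hap
        have : m + k * -(j * m) = -m * (k * j - 1) := by ring
        rw [this]
        exact Dvd.dvd.mul_left hj _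
      calc e * a ^ (-i) * a ^ m * (z ^ (-(j * m)) * a ^ (k * -(j * m)))
          = e * a ^ (-i) * a ^ m * (a ^ (k * -(j * m)) * z ^ (-(j * m))) := by
            rw [hab (z ^ (-(j * m)))]
        _ = e * a ^ (-i) * (a ^ m * a ^ (k * -(j * m))) * z ^ (-(j * m)) := by group
        _ = e * a ^ (-i) * z ^ (-(j * m)) := by rw [h3, mul_one]
    refine ⟨e * a ^ (-i) * z ^ (-(j * m)), j * m, i, ?_, ?_, h2⟩
    · have h3 : z ^ (-(j * m)) * z ^ (j * m) = 1 := by rw [← zpow_add]; simp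
      calc e = e * (a ^ (-i) * a ^ i) := by rw [← zpow_add]; simp
        _ = e * a ^ (-i) * (z ^ (-(j * m)) * z ^ (j * m)) * a ^ i := by rw [h3]; group
        _ = _ := by group
    · rw [map_mul, h1, map_zpow, htzz]
  -- `n` commutes with `t`
  have hcommute : n * t = t * n := by
    apply MulEquiv.ext
    intro e
    obtain ⟨y, l, i, he, hy1, hy2⟩ := hdec e
    have hy3 := hny y hy1 hy2
    show n (t e) = t (n e)
    rw [he]
    simp only [map_mul, map_zpow, hy1, hy3, htzz, hta, hnz, hna, map_inv]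
    rw [mul_inv_rev, hab z⁻¹ a⁻¹]
  -- automorphisms induced by `S` are powers of `t`
  have hSt : ∀ s' ∈ S, ∃ m : ℤ, ∀ x : P, s' * (x : Ω) * s'⁻¹ = ((t ^ m) x : P) := by
    intro s' hs'
    have h1 := hcomm s' hs' a (hPS a.2)
    obtain ⟨m, hm⟩ := hzgen ⟨_, hZP h1⟩ h1
    have hm' : (z : Ω) ^ m = s' * a * s'⁻¹ * (a : Ω)⁻¹ := by
      have := congrArg Subtype.val hm
      simpa using this
    refine ⟨m, ?_⟩
    have h2 : s' * g ^ (-m) ∈ P := by
      refine hSRa _ (S.mul_mem hs' (S.zpow_mem hg _)) ?_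
      have h3 : g ^ (-m) * (a : Ω) * (g ^ (-m))⁻¹ = a * (z : Ω) ^ (-m) := by
        rw [← coe_zpow_conj ht, pow_transvection hta htzz]
        simp
      have h4 : s' * (z : Ω) ^ (-m) = (z : Ω) ^ (-m) * s' :=
        h.comm hs' (Z.zpow_mem hzZ _)
      have h5 : s' * (a : Ω) * s'⁻¹ = z ^ m * a := by rw [hm']; group
      have h6 : (z : Ω) ^ m * a * (z : Ω) ^ (-m) = a := by
        have : z ^ m * a * z ^ (-m) = a := by
          rw [hab (z ^ m) a, mul_assoc, ← zpow_add]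
          simp
        have := congrArg Subtype.val this
        simpa using this
      calc s' * g ^ (-m) * (a : Ω) = s' * (g ^ (-m) * (a : Ω) * (g ^ (-m))⁻¹) * g ^ (-m) := by group
        _ = s' * (a * (z : Ω) ^ (-m)) * g ^ (-m) := by rw [h3]
        _ = (s' * (a : Ω) * s'⁻¹) * (s' * (z : Ω) ^ (-m)) * g ^ (-m) := by group
        _ = z ^ m * a * ((z : Ω) ^ (-m) * s') * g ^ (-m) := by rw [h5, h4]
        _ = (z ^ m * a * (z : Ω) ^ (-m)) * (s' * g ^ (-m)) := by group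
        _ = a * (s' * g ^ (-m)) := by rw [h6]
    intro x
    rw [coe_zpow_conj ht]
    have h3 : g ^ m * (x : Ω) * (g ^ m)⁻¹ ∈ P := by
      rw [← coe_zpow_conj ht]
      exact ((t ^ m) x).2
    have h4 := congrArg Subtype.val (hab ⟨_, h2⟩ ⟨_, h3⟩)
    have h5 : s' * g ^ (-m) * (g ^ m * (x : Ω) * (g ^ m)⁻¹) =
        g ^ m * (x : Ω) * (g ^ m)⁻¹ * (s' * g ^ (-m)) := h4
    calc s' * (x : Ω) * s'⁻¹ = (s' * g ^ (-m) * (g ^ m * (x : Ω) * (g ^ m)⁻¹)) * (g ^ m * s'⁻¹) := by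
          group
      _ = (g ^ m * (x : Ω) * (g ^ m)⁻¹ * (s' * g ^ (-m))) * (g ^ m * s'⁻¹) := by rw [h5]
      _ = g ^ m * (x : Ω) * (g ^ m)⁻¹ := by group
  have hnorm : ∀ δ ∈ autInducedBy S P, n * δ * n⁻¹ ∈ autInducedBy S P := by
    intro δ hδ
    obtain ⟨s', hs', he⟩ := (mem_autInducedBy_iff S P δ).1 hδ
    obtain ⟨m, hm⟩ := hSt s' hs'
    have h1 : δ = t ^ m := by
      apply MulEquiv.ext
      intro x
      apply Subtype.ext
      rw [he, hm]
    have h2 : n * δ * n⁻¹ = δ := by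
      rw [h1]
      have h3 : Commute n t := hcommute
      rw [(h3.zpow_right m).eq]
      group
    rw [h2]
    exact hδ
  obtain ⟨β, hβ, hβe⟩ := exists_extension_of_normalizes hS hF h.fullyNormalized hn hnorm
  -- transport along `N_S(P) = S`
  have hex : ∃ β ∈ F.autGroup S, ∀ (x : Ω) (hx : x ∈ P) (hx' : x ∈ S),
      ((β ⟨x, hx'⟩ : S) : Ω) = (n ⟨x, hx⟩ : P) := by
    have key : ∀ (N : Subgroup Ω), N = S → ∀ β ∈ F.autGroup N,
        (∀ (x : Ω) (hx : x ∈ P) (hx' : x ∈ N), ((β ⟨x, hx'⟩ : N) : Ω) = (n ⟨x, hx⟩ : P)) →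
        ∃ β ∈ F.autGroup S, ∀ (x : Ω) (hx : x ∈ P) (hx' : x ∈ S),
          ((β ⟨x, hx'⟩ : S) : Ω) = (n ⟨x, hx⟩ : P) := by
      rintro N rfl β hβ hβe
      exact ⟨β, hβ, hβe⟩
    exact key _ hNS β hβ hβe
  obtain ⟨β, hβ, hβe⟩ := hex
  -- elements commuting with `g`
  have hcg : ∀ (g' : Ω), g' ∈ S → g' ∉ P → ∀ e : P, g' * e = e * g' →
      (e : Ω) ∈ centralizerIn S S := by
    intro g' hg' hgP' e he
    obtain ⟨m', hm'⟩ := hSt g' hg'
    have hm'p : ¬ (p : ℤ) ∣ m' := by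
      intro hd
      apply hgP'
      apply hSRa g' hg'
      have h1 : g' * (a : Ω) * g'⁻¹ = a := by
        rw [hm', pow_transvection hta htzz, zpow_eq_one_of_dvd hzp hd, mul_one]
      exact mul_inv_eq_iff_eq_mul.1 h1
    obtain ⟨j, hj⟩ := exists_mul_sub_one hm'p
    obtain ⟨i, hi⟩ := htw' e
    have hte : ∀ r : ℤ, (t ^ r) e = e * z ^ (i * r) := by
      intro r
      rw [pow_transvection (z := z ^ i) hi (by rw [map_zpow, htzz]), ← zpow_mul]
    have h0 : z ^ (i * m') = 1 := by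
      have h1 : (t ^ m') e = e := by
        apply Subtype.ext
        rw [← hm', he]
        group
      rw [hte] at h1
      exact mul_eq_left.1 h1
    have h00 : z ^ i = 1 := by
      have h1 : z ^ (i * m' * j) = 1 := by rw [zpow_mul, h0, one_zpow]
      rw [← h1]
      apply zpow_eq_zpow_of_modEq hzp
      have : i - i * m' * j = -i * (m' * j - 1) := by ring
      rw [this]
      exact Dvd.dvd.mul_left hj _
    refine ⟨hPS e.2, Subgroup.mem_centralizer_iff.2 fun s' hs' => ?_⟩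
    obtain ⟨m, hm⟩ := hSt s' hs'
    have h1 : s' * (e : Ω) * s'⁻¹ = e := by
      rw [hm, hte, zpow_mul, h00, one_zpow, mul_one]
    exact mul_inv_eq_iff_eq_mul.1 h1
  refine ⟨β, hβ, ?_, ?_, ?_, hcg, hab⟩
  · -- inverts `Z`
    intro w hw
    apply Subtype.ext
    obtain ⟨i, hi⟩ := hzgen ⟨w, hZP hw⟩ hw
    have h1 : ((β w : S) : Ω) = (n ⟨w, hZP hw⟩ : P) := hβe w (hZP hw) w.2
    rw [h1, ← hi, map_zpow, hnz, inv_zpow, hi]
    rfl
  · intro c hc
    have hcP : (c : Ω) ∈ P := by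
      apply h.centralizer_le
      exact ⟨c.2, Subgroup.centralizer_le (show (P : Set Ω) ⊆ S from hPS) hc.2⟩
    obtain ⟨y, l, i, he, hy1, hy2⟩ := hdec ⟨c, hcP⟩
    have htc : t ⟨c, hcP⟩ = ⟨c, hcP⟩ := by
      apply Subtype.ext
      rw [ht]
      have := Subgroup.mem_centralizer_iff.1 hc.2 g hg
      show g * (c : Ω) * g⁻¹ = c
      rw [this]
      group
    have hzi : z ^ i = 1 := by
      rw [he, map_mul, map_mul, hy1, map_zpow, map_zpow, htzz, hta,
        (show Commute a z from hab a z).mul_zpow, ← mul_assoc] at htc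
      exact mul_eq_left.1 htc
    have hpi : (p : ℤ) ∣ i := by
      by_contra hpi
      apply hz1
      obtain ⟨j, hj⟩ := exists_mul_sub_one hpi
      have h1 : z ^ (i * j) = 1 := by rw [zpow_mul, hzi, one_zpow]
      rw [← zpow_one z, ← h1]
      apply zpow_eq_zpow_of_modEq hzp
      have : (1 : ℤ) - i * j = -1 * (i * j - 1) := by ring
      rw [this]
      exact Dvd.dvd.mul_left hj _
    rw [zpow_eq_one_of_dvd hap hpi, mul_one] at he
    have h1 : ((β c : S) : Ω) = (n ⟨c, hcP⟩ : P) := hβe c hcP c.2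
    rw [Subgroup.coe_mul, h1, he, map_mul, hny y hy1 hy2, map_zpow, hnz]
    have h2 : ((c⁻¹ : S) : Ω) = ((y * z ^ l : P) : Ω)⁻¹ := by
      rw [← he]
      rfl
    rw [h2, ← Subgroup.coe_inv, ← Subgroup.coe_mul]
    have h3 : y * z⁻¹ ^ l * (y * z ^ l)⁻¹ = z ^ (-l + -l) := by
      rw [mul_inv_rev, hab (z ^ l)⁻¹ y⁻¹, ← mul_assoc, hab y, mul_assoc (z⁻¹ ^ l), mul_inv_cancel,
        mul_one, zpow_add, inv_zpow, zpow_neg]
    rw [h3]
    simpa using Z.zpow_mem hzZ _
  · intro c hcS hc hcP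
    obtain ⟨y, l, i, he, hy1, hy2⟩ := hdec ⟨c, hcP⟩
    have htc : t ⟨c, hcP⟩ = ⟨c, hcP⟩ := by
      apply Subtype.ext
      rw [ht]
      have := Subgroup.mem_centralizer_iff.1 hc.2 g hg
      show g * (c : Ω) * g⁻¹ = c
      rw [this]
      group
    have hzi : z ^ i = 1 := by
      rw [he, map_mul, map_mul, hy1, map_zpow, map_zpow, htzz, hta,
        (show Commute a z from hab a z).mul_zpow, ← mul_assoc] at htc
      exact mul_eq_left.1 htc
    have hord : ∀ i : ℤ, z ^ i = 1 → (p : ℤ) ∣ i := by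
      intro i hzi
      by_contra hpi
      apply hz1
      obtain ⟨j, hj⟩ := exists_mul_sub_one hpi
      have h1 : z ^ (i * j) = 1 := by rw [zpow_mul, hzi, one_zpow]
      rw [← zpow_one z, ← h1]
      apply zpow_eq_zpow_of_modEq hzp
      have : (1 : ℤ) - i * j = -1 * (i * j - 1) := by ring
      rw [this]
      exact Dvd.dvd.mul_left hj _
    rw [zpow_eq_one_of_dvd hap (hord i hzi), mul_one] at he
    have h1 : ((β ⟨c, hcS⟩ : S) : Ω) = (n ⟨c, hcP⟩ : P) := hβe c hcP hcS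
    have h2 : (β ⟨c, hcS⟩ = ⟨c, hcS⟩) ↔ z ^ l = 1 := by
      rw [Subtype.ext_iff, h1]
      show ((n ⟨c, hcP⟩ : P) : Ω) = ((⟨c, hcP⟩ : P) : Ω) ↔ _
      rw [← Subtype.ext_iff, he, map_mul, hny y hy1 hy2, map_zpow, hnz, mul_right_inj, inv_zpow]
      constructor
      · intro h3
        have h4 : z ^ (2 * l) = 1 := by
          have : z ^ l * z ^ l = 1 := by
            nth_rewrite 1 [← h3]
            exact inv_mul_cancel _
          rw [two_mul, zpow_add, this]
        have h5 := hord _ h4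
        have h6 : (p : ℤ) ∣ l := by
          rcases (Nat.prime_iff_prime_int.1 hp.out).dvd_or_dvd h5 with h7 | h7
          · exfalso
            have h8 : p ∣ 2 := by exact_mod_cast h7
            rcases (Nat.dvd_prime Nat.prime_two).1 h8 with h9 | h9
            · exact hp.out.one_lt.ne' h9
            · rw [h9] at hodd
              exact absurd hodd (by decide)
          · exact h7
        exact zpow_eq_one_of_dvd hzp h6
      · intro h3
        rw [h3, inv_one]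
    rw [h2]
    -- s c = c iff z ^ l = 1
    have h3 : s ⟨c, hcP⟩ = ⟨c, hcP⟩ ↔ z ^ l = 1 := by
      rw [he, map_mul, hy2, mul_right_inj, map_zpow, hsz,
        (show Commute z (a ^ k) from hab _ _).mul_zpow, mul_eq_left, ← zpow_mul]
      constructor
      · intro h4
        have h5 : (p : ℤ) ∣ k * l := by
          by_contra hpi
          obtain ⟨j, hj⟩ := exists_mul_sub_one hpi
          have h6 : a ^ (k * l * j) = 1 := by rw [zpow_mul, h4, one_zpow]
          have h7 : a = 1 := by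
            rw [← zpow_one a, ← h6]
            apply zpow_eq_zpow_of_modEq hap
            have : (1 : ℤ) - k * l * j = -1 * (k * l * j - 1) := by ring
            rw [this]
            exact Dvd.dvd.mul_left hj _
          apply ha
          rw [h7]
          exact Z.one_mem
        rcases (Nat.prime_iff_prime_int.1 hp.out).dvd_or_dvd h5 with h7 | h7
        · exact absurd h7 hkp
        · exact zpow_eq_one_of_dvd hzp h7
      · intro h4
        have h5 := hord _ h4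
        exact zpow_eq_one_of_dvd hap (Dvd.dvd.mul_left h5 _)
    rw [← h3, hsapp]
    constructor
    · intro h4
      have h5 : t (γ⁻¹ ⟨c, hcP⟩) = γ⁻¹ ⟨c, hcP⟩ := by
        apply γ.injective
        rw [h4, MulAut.apply_inv_self]
      have h6 := congrArg Subtype.val h5
      rw [ht] at h6
      exact hcg g hg hgP _ (mul_inv_eq_iff_eq_mul.1 h6)
    · intro h4
      have h5 : t (γ⁻¹ ⟨c, hcP⟩) = γ⁻¹ ⟨c, hcP⟩ := by
        apply Subtype.ext
        rw [ht, Subgroup.mem_centralizer_iff.1 h4.2 g hg]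
        group
      rw [h5, MulAut.apply_inv_self]

end Cfsg.Agent.H764
end

-- part: H764/Center2
section
/-!
# The centre of a `p`-group with an extraspecial subgroup of index `p`, end (helper764)

If `O_p(F) = 1` then `Z(S) = Z(Q)`.
-/

set_option autoImplicit false

namespace Cfsg.Agent.H764

open Cfsg Cfsg.FusionSystem Cfsg.Agent.H802

variable {Ω : Type*} [Group Ω] {S : Subgroup Ω} {p : ℕ} [hp : Fact p.Prime] [Finite S]

theorem good_unique {F : FusionSystem S} {Z : Subgroup Ω} (hS : IsPGroup p S)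
    (hF : F.IsSaturated p) (hZp : ∀ z ∈ Z, z ^ p = 1) (hZS : Z ≤ S)
    {β β' : MulAut S} (hβ : β ∈ F.autGroup S) (hβ' : β' ∈ F.autGroup S)
    (h1 : ∀ z : S, (z : Ω) ∈ Z → β z = z⁻¹) (h1' : ∀ z : S, (z : Ω) ∈ Z → β' z = z⁻¹)
    (h2 : ∀ c : S, (c : Ω) ∈ centralizerIn S S → ((β c * c⁻¹ : S) : Ω) ∈ Z)
    (h2' : ∀ c : S, (c : Ω) ∈ centralizerIn S S → ((β' c * c⁻¹ : S) : Ω) ∈ Z) :
    ∀ c : S, (c : Ω) ∈ centralizerIn S S → β c = β' c := by
  have hβi : ∀ z : S, (z : Ω) ∈ Z → β⁻¹ z = z⁻¹ := by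
    intro z hz
    apply β.injective
    rw [MulAut.apply_inv_self, h1 z⁻¹ (Z.inv_mem hz), inv_inv]
  have key : ∀ c : S, (c : Ω) ∈ centralizerIn S S → ((β⁻¹ * β') ^ p ^ 1) c = c := by
    intro c hc
    have hw : ∃ w : S, (w : Ω) ∈ Z ∧ (β⁻¹ * β') c = c * w := by
      have e1 : β c * c⁻¹ * c = β c := by group
      have e2 : β' c * c⁻¹ * c = β' c := by group
      have e3 : β⁻¹ c = (β c * c⁻¹) * c := by
        have e4 : β⁻¹ (β c * c⁻¹) = (β c * c⁻¹)⁻¹ := hβi _ (h2 c hc)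
        rw [map_mul, MulAut.inv_apply_self, map_inv] at e4
        have e5 : β⁻¹ c = (β c * c⁻¹) * c := by
          have e6 : (β⁻¹ c)⁻¹ = c⁻¹ * (β c * c⁻¹)⁻¹ := by
            rw [← e4]; group
          calc β⁻¹ c = ((β⁻¹ c)⁻¹)⁻¹ := by rw [inv_inv]
            _ = (β c * c⁻¹) * c := by rw [e6]; group
        exact e5
      refine ⟨c⁻¹ * ((β' c * c⁻¹)⁻¹ * (β c * c⁻¹)) * c, ?_, ?_⟩
      · have hm : ((β' c * c⁻¹)⁻¹ * (β c * c⁻¹) : S) * c = c * ((β' c * c⁻¹)⁻¹ * (β c * c⁻¹)) := by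
          apply Subtype.ext
          exact (Subgroup.mem_centralizer_iff.1 hc.2 _ ((β' c * c⁻¹)⁻¹ * (β c * c⁻¹) : S).2)
        rw [mul_assoc, hm, inv_mul_cancel_left]
        exact Z.mul_mem (Z.inv_mem (h2' c hc)) (h2 c hc)
      · rw [MulAut.mul_apply, ← e2, map_mul, hβi _ (h2' c hc), e3]
        group
    obtain ⟨w, hw, hwe⟩ := hw
    have hwf : (β⁻¹ * β') w = w := by
      rw [MulAut.mul_apply, h1' w hw, map_inv, hβi w hw, inv_inv]
    have hn : ∀ n : ℕ, ((β⁻¹ * β') ^ n) c = c * w ^ n := by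
      intro n
      induction n with
      | zero => simp
      | succ n ih =>
        rw [pow_succ', MulAut.mul_apply, ih, map_mul, hwe, map_pow, hwf, pow_succ', mul_assoc]
    rw [hn, pow_one]
    have : w ^ p = 1 := Subtype.ext (by simpa using hZp w hw)
    rw [this, mul_one]
  intro c hc
  have h3 := agree_of_pow hS hF (mul_mem (inv_mem hβ) hβ') key c hc
  have h4 := congrArg β h3
  rw [MulAut.mul_apply, MulAut.apply_inv_self] at h4
  exact h4.symm

/-- **The centre of `S`.** If `S` has an extraspecial subgroup `Q` of index `p`, `p` odd, and `F` is saturated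
over `S` with `O_p(F) = 1`, then `Z(S) = Z(Q)`. -/
theorem Ext.center_eq {Q : Subgroup Ω} (h : Ext p S Q) {F : FusionSystem S}
    (hF : F.IsSaturated p) (hO : F.core = ⊥) : centralizerIn S S = ZQ Q := by
  by_contra hne
  have hS := h.pg
  -- a central element outside `Q`
  obtain ⟨c, hcZ, hcQ⟩ : ∃ c ∈ centralizerIn S S, c ∉ Q := by
    by_contra hcon
    push Not at hcon
    apply hne
    refine le_antisymm ?_ h.Z_le_center
    intro c hc
    rw [mem_ZQ]
    exact ⟨hcon c hc, fun q hq => Subgroup.mem_centralizer_iff.1 hc.2 q (h.le hq)⟩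
  have hccomm : ∀ s ∈ S, ∀ i : ℤ, s * c ^ i = c ^ i * s := by
    intro s hs i
    have h1 : Commute s c := Subgroup.mem_centralizer_iff.1 hcZ.2 s hs
    exact h1.zpow_right i
  have hcomm : ∀ s ∈ S, ∀ t ∈ S, s * t * s⁻¹ * t⁻¹ ∈ ZQ Q := by
    intro s hs t ht
    obtain ⟨i, hi⟩ := exists_mul_zpow_mem_of_index h.index (fun g hg q hq => h.conj_mem hg hq) h.le
      hcZ.1 hcQ hs
    obtain ⟨j, hj⟩ := exists_mul_zpow_mem_of_index h.index (fun g hg q hq => h.conj_mem hg hq) h.le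
      hcZ.1 hcQ ht
    have h1 := h.comm_mem hi hj
    have h2 : s * c ^ i * (t * c ^ j) * (s * c ^ i)⁻¹ * (t * c ^ j)⁻¹ = s * t * s⁻¹ * t⁻¹ := by
      have e1 := hccomm s hs i
      have e2 := hccomm t ht i
      have e3 := hccomm t ht j
      have e4 := hccomm s⁻¹ (S.inv_mem hs) j
      have e5 := hccomm t⁻¹ (S.inv_mem ht) j
      calc s * c ^ i * (t * c ^ j) * (s * c ^ i)⁻¹ * (t * c ^ j)⁻¹
          = s * (c ^ i * t) * c ^ j * (c ^ i)⁻¹ * s⁻¹ * (c ^ j)⁻¹ * t⁻¹ := by group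
        _ = s * (t * c ^ i) * c ^ j * (c ^ i)⁻¹ * s⁻¹ * (c ^ j)⁻¹ * t⁻¹ := by rw [e2]
        _ = s * t * (c ^ j * s⁻¹) * (c ^ j)⁻¹ * t⁻¹ := by group
        _ = s * t * (s⁻¹ * c ^ j) * (c ^ j)⁻¹ * t⁻¹ := by rw [e4]
        _ = s * t * s⁻¹ * t⁻¹ := by group
    rwa [h2] at h1
  have hnc : ∃ s ∈ S, ∃ t ∈ S, s * t ≠ t * s := by
    obtain ⟨a, ha, b, hb, hab⟩ := h.exists_noncomm
    exact ⟨a, h.le ha, b, h.le hb, hab⟩
  -- the first moving subgroup
  obtain ⟨E, hE1, hE2, ⟨α, hα, y0, hy0, hy0'⟩, hE3⟩ :=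
    exists_moving hS hF h.Z_le_center (h.not_isNormal hO)
  have hSE : Setup F (ZQ Q) E := ⟨h.Z_le_center, hE1, hE2, hE3⟩
  have hmoveE : ¬ Fix (ZQ Q) α := fun hf => hy0' (hf y0 hy0)
  obtain ⟨β₀, hβ₀, hinv₀, hmod₀, hfix₀, hcg₀, hab₀⟩ :=
    exists_good hS hF h.odd hSE h.card_Z hcomm hnc hα hmoveE
  have hZS : ZQ Q ≤ S := (ZQ_le Q).trans h.le
  -- preservation of `Z` by automorphisms of `S`
  have hZaut : ∀ (β : MulAut S) (z : S), (z : Ω) ∈ ZQ Q → ((β z : S) : Ω) ∈ ZQ Q := by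
    intro β z hz
    obtain ⟨s, hs, t, ht, hst⟩ := hnc
    have h1 : s * t * s⁻¹ * t⁻¹ ≠ 1 := by
      intro h2
      apply hst
      calc s * t = (s * t * s⁻¹ * t⁻¹) * (t * s) := by group
        _ = t * s := by rw [h2, one_mul]
    obtain ⟨i, hi⟩ := h.Z_gen (hcomm s hs t ht) h1 hz
    have h2 : z = ((⟨s, hs⟩ : S) * ⟨t, ht⟩ * (⟨s, hs⟩ : S)⁻¹ * (⟨t, ht⟩ : S)⁻¹) ^ i :=
      Subtype.ext (by simpa using hi.symm)
    rw [h2, map_zpow, Subgroup.coe_zpow]
    apply Subgroup.zpow_mem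
    rw [map_mul, map_mul, map_mul, map_inv, map_inv]
    exact hcomm _ (β _).2 _ (β _).2
  -- the subgroup `Y`
  let Y : Subgroup Ω :=
    { carrier := {y | y ∈ centralizerIn S S ∧ ∀ hy : y ∈ S, β₀ ⟨y, hy⟩ = ⟨y, hy⟩}
      mul_mem' := by
        rintro a b ⟨ha, ha'⟩ ⟨hb, hb'⟩
        refine ⟨Subgroup.mul_mem _ ha hb, fun hy => ?_⟩
        have e1 : (⟨a * b, hy⟩ : S) = ⟨a, ha.1⟩ * ⟨b, hb.1⟩ := rfl
        rw [e1, map_mul, ha', hb']
      one_mem' := ⟨Subgroup.one_mem _, fun hy => map_one _⟩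
      inv_mem' := by
        rintro a ⟨ha, ha'⟩
        refine ⟨Subgroup.inv_mem _ ha, fun hy => ?_⟩
        have e1 : (⟨a⁻¹, hy⟩ : S) = ⟨a, ha.1⟩⁻¹ := rfl
        rw [e1, map_inv, ha'] }
  have hYmem : ∀ {y : Ω}, y ∈ Y ↔ y ∈ centralizerIn S S ∧ ∀ hy : y ∈ S, β₀ ⟨y, hy⟩ = ⟨y, hy⟩ :=
    Iff.rfl
  have hYZ : Y ≤ centralizerIn S S := fun y hy => hy.1
  -- `Y ≠ 1`
  have hYne : ∃ y ∈ Y, y ≠ 1 := by
    have hw := hmod₀ ⟨c, hcZ.1⟩ hcZ
    set w : S := β₀ ⟨c, hcZ.1⟩ * (⟨c, hcZ.1⟩ : S)⁻¹ with hwdef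
    have hwp : w ^ p = 1 := Subtype.ext (by simpa using h.Z_pow hw)
    obtain ⟨m, hm⟩ := h.odd
    set u : S := w ^ (m + 1) with hu
    have huZ : (u : Ω) ∈ ZQ Q := by
      rw [hu, Subgroup.coe_pow]
      exact Subgroup.pow_mem _ hw _
    have huu : u * u = w := by
      rw [hu, ← pow_add]
      have : m + 1 + (m + 1) = p + 1 := by omega
      rw [this, pow_succ, hwp, one_mul]
    refine ⟨c * u, ⟨Subgroup.mul_mem _ hcZ (h.Z_le_center huZ), fun hy => ?_⟩, ?_⟩
    · have e1 : (⟨c * u, hy⟩ : S) = ⟨c, hcZ.1⟩ * u := rfl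
      have e2 : β₀ ⟨c, hcZ.1⟩ = w * ⟨c, hcZ.1⟩ := by rw [hwdef]; group
      have e3 : (⟨c, hcZ.1⟩ : S) * u = u * ⟨c, hcZ.1⟩ := Subtype.ext (h.Z_comm hcZ.1 huZ)
      rw [e1, map_mul, hinv₀ u huZ, e2, ← huu, e3]
      have e4 : (⟨c, hcZ.1⟩ : S) * u⁻¹ = u⁻¹ * ⟨c, hcZ.1⟩ := by
        have : Commute (⟨c, hcZ.1⟩ : S) u := e3
        exact this.inv_right
      rw [mul_assoc, e4]
      group
    · intro h1
      apply hcQ
      have h2 : c = (u : Ω)⁻¹ := eq_inv_of_mul_eq_one_left h1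
      rw [h2]
      exact Q.inv_mem (ZQ_le Q huZ)
  have hYn : ¬ F.IsNormal Y := by
    intro hn
    obtain ⟨y, hy, hy1⟩ := hYne
    have h1 : Y ≤ F.core := le_sSup hn
    rw [hO] at h1
    exact hy1 (h1 hy)
  -- `Aut_F(S)` preserves `Y`
  have hYS : ∀ β ∈ F.autGroup S, ∀ (y : S), (y : Ω) ∈ Y → ((β y : S) : Ω) ∈ Y := by
    intro β hβ y hy
    have hbz : ((β y : S) : Ω) ∈ centralizerIn S S := apply_mem_center β hy.1
    refine ⟨hbz, fun hy' => ?_⟩
    have hconj : β⁻¹ * β₀ * β ∈ F.autGroup S := mul_mem (mul_mem (inv_mem hβ) hβ₀) hβ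
    have h1 := good_unique hS hF (fun z hz => h.Z_pow hz) hZS hconj hβ₀ (by
      intro z hz
      show β⁻¹ (β₀ (β z)) = z⁻¹
      rw [hinv₀ _ (hZaut β z hz), map_inv, MulAut.inv_apply_self]) hinv₀ (by
      intro d hd
      show ((β⁻¹ (β₀ (β d)) * d⁻¹ : S) : Ω) ∈ ZQ Q
      have e1 : β⁻¹ (β₀ (β d)) * d⁻¹ = β⁻¹ (β₀ (β d) * (β d)⁻¹) := by
        rw [map_mul, map_inv, MulAut.inv_apply_self]
      rw [e1]
      exact hZaut _ _ (hmod₀ _ (apply_mem_center β hd))) hmod₀ y hy.1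
    have h2 : β⁻¹ (β₀ (β y)) = β₀ y := h1
    rw [hy.2 y.2] at h2
    have h3 := congrArg β h2
    rw [MulAut.apply_inv_self] at h3
    exact h3
  -- the second moving subgroup
  obtain ⟨P, hP1, hP2, ⟨γ, hγ, y1, hy1, hy1'⟩, hP3⟩ := exists_moving hS hF hYZ hYn
  have hSP : Setup F Y P := ⟨hYZ, hP1, hP2, hP3⟩
  have hPS := hSP.le_S
  have hfinP : Finite P := finite_of_le hPS
  have hZSP : centralizerIn S S ≤ P := by
    intro d hd
    apply hSP.centralizer_le
    exact ⟨hd.1, Subgroup.centralizer_le (show (P : Set Ω) ⊆ S from hPS) hd.2⟩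
  have hZP : ZQ Q ≤ P := h.Z_le_center.trans hZSP
  have hconjP : ∀ s ∈ S, ∀ e ∈ P, s * e * s⁻¹ ∈ P := by
    intro s hs e he
    have h1 := P.mul_mem (hZP (hcomm s hs e (hPS he))) he
    have h2 : s * e * s⁻¹ * e⁻¹ * e = s * e * s⁻¹ := by group
    rwa [h2] at h1
  have hNP : S ≤ Subgroup.normalizer (P : Set Ω) := by
    intro s hs
    refine Subgroup.mem_normalizer_iff.2 fun x => ⟨hconjP s hs x, fun hx => ?_⟩
    have h1 := hconjP s⁻¹ (S.inv_mem hs) _ hx
    have h2 : s⁻¹ * (s * x * s⁻¹) * s⁻¹⁻¹ = x := by group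
    rwa [h2] at h1
  have hNS : normalizerIn S P = S := inf_eq_left.2 hNP
  -- case distinction: is `Z` moved by `Aut_F(P)`?
  by_cases hall : ∀ δ ∈ F.autGroup P, Fix (ZQ Q) δ
  · -- `Aut_S(P)` is normal
    let N : Subgroup (MulAut P) :=
      { carrier := {δ | δ ∈ F.autGroup P ∧ (∀ z : P, (z : Ω) ∈ ZQ Q → δ z = z) ∧
          ∀ e : P, ((δ e * e⁻¹ : P) : Ω) ∈ ZQ Q}
        mul_mem' := by
          rintro a b ⟨ha1, ha2, ha3⟩ ⟨hb1, hb2, hb3⟩
          refine ⟨mul_mem ha1 hb1, fun z hz => ?_, fun e => ?_⟩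
          · rw [MulAut.mul_apply, hb2 z hz, ha2 z hz]
          · have e1 : (a * b) e * e⁻¹ = a (b e * e⁻¹) * (a e * e⁻¹) := by
              rw [MulAut.mul_apply, map_mul, map_inv]
              group
            rw [e1, ha2 _ (hb3 e)]
            exact Subgroup.mul_mem _ (hb3 e) (ha3 e)
        one_mem' := ⟨one_mem _, fun z _ => rfl, fun e => by
          rw [MulAut.one_apply, mul_inv_cancel]
          exact Subgroup.one_mem _⟩
        inv_mem' := by
          rintro a ⟨ha1, ha2, ha3⟩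
          have hi : ∀ z : P, (z : Ω) ∈ ZQ Q → a⁻¹ z = z := by
            intro z hz
            conv_lhs => rw [← ha2 z hz]
            exact a.symm_apply_apply z
          refine ⟨inv_mem ha1, hi, fun e => ?_⟩
          have e1 : a⁻¹ e * e⁻¹ = a⁻¹ ((a e * e⁻¹)⁻¹) := by
            rw [map_inv, map_mul, map_inv, MulAut.inv_apply_self]
            group
          have e2 : (((a e * e⁻¹)⁻¹ : P) : Ω) ∈ ZQ Q := Subgroup.inv_mem _ (ha3 e)
          rw [e1, hi _ e2]
          exact e2 }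
    have hNp : IsPGroup p N := by
      refine isPGroup_of_pow_eq_one (n := 1) ?_
      rintro δ ⟨h1, h2, h3⟩
      apply MulEquiv.ext
      intro e
      have hn : ∀ n : ℕ, (δ ^ n) e = (δ e * e⁻¹) ^ n * e := by
        intro n
        induction n with
        | zero => simp
        | succ n ih =>
          rw [pow_succ', MulAut.mul_apply, ih, map_mul, map_pow, h2 _ (h3 e), pow_succ]
          group
      rw [hn, pow_one]
      have : (δ e * e⁻¹) ^ p = 1 := Subtype.ext (by simpa using h.Z_pow (h3 e))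
      rw [this, one_mul]
      rfl
    have hle : autInducedBy S P ≤ N := by
      intro δ hδ
      obtain ⟨s, hs, he⟩ := (mem_autInducedBy_iff S P δ).1 hδ
      refine ⟨autInducedBy_le_autGroup F hPS hδ, fun z hz => ?_, fun e => ?_⟩
      · apply Subtype.ext
        rw [he, h.Z_comm hs hz]
        group
      · rw [Subgroup.coe_mul, he, Subgroup.coe_inv]
        exact hcomm s hs e (hPS e.2)
    have hnorm := normalizes_of_normal (N := N) hS hF hP1 (fun δ hδ => hδ.1) hNp hle (α := γ) (by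
      rintro δ ⟨h1, h2, h3⟩
      refine ⟨mul_mem (mul_mem hγ h1) (inv_mem hγ), fun z hz => ?_, fun e => ?_⟩
      · show γ (δ (γ⁻¹ z)) = z
        rw [h2 _ (hall γ⁻¹ (inv_mem hγ) z hz), MulAut.apply_inv_self]
      · have e1 : (γ * δ * γ⁻¹) e * e⁻¹ = γ (δ (γ⁻¹ e) * (γ⁻¹ e)⁻¹) := by
          show γ (δ (γ⁻¹ e)) * e⁻¹ = _
          rw [map_mul γ, map_inv γ, MulAut.apply_inv_self]
        rw [e1]
        exact hall γ hγ _ (h3 _))
    obtain ⟨β, hβ, hβe⟩ := exists_extension_of_normalizes hS hF hP1 hγ hnorm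
    have key : ∀ (N : Subgroup Ω), N = S → ∀ β ∈ F.autGroup N,
        (∀ (x : Ω) (hx : x ∈ P) (hx' : x ∈ N), ((β ⟨x, hx'⟩ : N) : Ω) = (γ ⟨x, hx⟩ : P)) →
        ∃ β ∈ F.autGroup S, ∀ (x : Ω) (hx : x ∈ P) (hx' : x ∈ S),
          ((β ⟨x, hx'⟩ : S) : Ω) = (γ ⟨x, hx⟩ : P) := by
      rintro N rfl β hβ hβe
      exact ⟨β, hβ, hβe⟩
    obtain ⟨β', hβ', hβe'⟩ := key _ hNS β hβ hβe
    apply hy1'
    have h1 : ((γ y1 : P) : Ω) = ((β' ⟨y1, hPS y1.2⟩ : S) : Ω) := (hβe' y1 y1.2 _).symm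
    rw [h1]
    exact hYS β' hβ' _ hy1
  · push Not at hall
    obtain ⟨δ, hδ, hδm⟩ := hall
    -- `|E| ≤ |P|`
    have hcard : Nat.card E ≤ Nat.card P := by
      have hES := hSE.le_S
      have hfinE : Finite E := finite_of_le hES
      have hfinZ : Finite (centralizerIn S S) := finite_of_le inf_le_left
      have hfinZQ : Finite (ZQ Q) := finite_of_le hZS
      have h1 : Nat.card E ≤ p * Nat.card (centralizerIn S S) := by
        -- an element outside `E`
        have hEne : ∃ g ∈ S, g ∉ E := by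
          by_contra hcon
          push Not at hcon
          obtain ⟨s, hs, t, ht, hst⟩ := hnc
          exact hst (congrArg Subtype.val (hab₀ ⟨s, hcon s hs⟩ ⟨t, hcon t ht⟩))
        obtain ⟨g, hg, hgE⟩ := hEne
        let f : E →* ZQ Q :=
          { toFun := fun e => ⟨g * e * g⁻¹ * (e : Ω)⁻¹, hcomm g hg e (hES e.2)⟩
            map_one' := Subtype.ext (by simp)
            map_mul' := by
              intro a b
              apply Subtype.ext
              show g * (a * b : Ω) * g⁻¹ * (a * b : Ω)⁻¹ =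
                (g * a * g⁻¹ * (a : Ω)⁻¹) * (g * b * g⁻¹ * (b : Ω)⁻¹)
              have h2 := h.Z_comm (hES a.2) (hcomm g hg b (hES b.2))
              calc g * (a * b : Ω) * g⁻¹ * (a * b : Ω)⁻¹
                  = g * a * g⁻¹ * (g * b * g⁻¹ * (b : Ω)⁻¹) * (a : Ω)⁻¹ := by group
                _ = g * a * g⁻¹ * (a : Ω)⁻¹ * ((a : Ω) * (g * b * g⁻¹ * (b : Ω)⁻¹)) * (a : Ω)⁻¹ := by
                    group
                _ = g * a * g⁻¹ * (a : Ω)⁻¹ * ((g * b * g⁻¹ * (b : Ω)⁻¹) * a) * (a : Ω)⁻¹ := by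
                    rw [h2]
                _ = _ := by group }
        have h2 : Nat.card f.range * Nat.card f.ker = Nat.card E := by
          rw [← Nat.card_congr (QuotientGroup.quotientKerEquivRange f).toEquiv]
          rw [Subgroup.card_eq_card_quotient_mul_card_subgroup f.ker]
        have h3 : Nat.card f.range ≤ p := by
          rw [← h.card_Z]
          exact Subgroup.card_le_card_group _
        have h4 : Nat.card f.ker ≤ Nat.card (centralizerIn S S) := by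
          refine Nat.card_le_card_of_injective
            (fun e : f.ker => (⟨((e : E) : Ω), ?_⟩ : centralizerIn S S)) ?_
          · apply hcg₀ g hg hgE
            have h5 : f (e : E) = 1 := e.2
            have h6 : g * ((e : E) : Ω) * g⁻¹ * ((e : E) : Ω)⁻¹ = 1 := congrArg Subtype.val h5
            exact mul_inv_eq_iff_eq_mul.1 (mul_inv_eq_one.1 h6)
          · intro a b hab
            exact Subtype.ext (Subtype.ext (by simpa using hab))
        rw [← h2]
        exact Nat.mul_le_mul h3 h4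
      refine h1.trans ?_
      have h2 : Nat.card ((centralizerIn S S).subgroupOf P) = Nat.card (centralizerIn S S) :=
        Nat.card_congr (Subgroup.subgroupOfEquivOfLe hZSP).toEquiv
      have h3 := ((centralizerIn S S).subgroupOf P).index_mul_card
      rw [h2] at h3
      rw [← h3]
      apply Nat.mul_le_mul_right
      have hPp : IsPGroup p P := hS.to_le hPS
      obtain ⟨n, hn⟩ := hPp.index ((centralizerIn S S).subgroupOf P)
      have hn0 : n ≠ 0 := by
        rintro rfl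
        rw [pow_zero, Subgroup.index_eq_one, Subgroup.subgroupOf_eq_top] at hn
        obtain ⟨s, hs, t, ht, hst⟩ := hnc
        have hsC : ∀ s ∈ S, s ∈ P := by
          intro s hs
          apply hSP.centralizer_le
          refine ⟨hs, Subgroup.mem_centralizer_iff.2 fun x hx => ?_⟩
          exact (Subgroup.mem_centralizer_iff.1 (hn hx).2 s hs).symm
        exact hst (Subgroup.mem_centralizer_iff.1 (hn (hsC t ht)).2 s hs)
      rw [hn]
      exact Nat.le_self_pow hn0 p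
    have hSZP : Setup F (ZQ Q) P :=
      ⟨h.Z_le_center, hP1, hP2, fun R φ hφ hc => hE3 R φ hφ (lt_of_le_of_lt hcard hc)⟩
    -- description of `Y` through any automorphism of `P` moving `Z`
    have hdesc : ∀ ε ∈ F.autGroup P, ¬ Fix (ZQ Q) ε → ∀ y : P, (y : Ω) ∈ centralizerIn S S →
        ((y : Ω) ∈ Y ↔ ((ε⁻¹ y : P) : Ω) ∈ centralizerIn S S) := by
      intro ε hε hεm y hy
      obtain ⟨β₁, hβ₁, hinv₁, hmod₁, hfix₁, -, -⟩ :=
        exists_good hS hF h.odd hSZP h.card_Z hcomm hnc hε hεm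
      have h1 := good_unique hS hF (fun z hz => h.Z_pow hz) hZS hβ₁ hβ₀ hinv₁ hinv₀ hmod₁ hmod₀
        ⟨y, hy.1⟩ hy
      rw [← hfix₁ y hy.1 hy y.2, h1]
      exact ⟨fun h2 => h2.2 hy.1, fun h2 => ⟨hy, fun _ => h2⟩⟩
    have hmov : ∀ ε ∈ F.autGroup P, ¬ Fix (ZQ Q) ε → ∀ y : P, (y : Ω) ∈ Y →
        ((ε y : P) : Ω) ∈ Y := by
      intro ε hε hεm y hy
      have hεm' : ¬ Fix (ZQ Q) ε⁻¹ := fun h1 => hεm (by simpa using Fix.inv h1)
      have h1 := (hdesc ε⁻¹ (inv_mem hε) hεm' y hy.1).1 hy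
      rw [inv_inv] at h1
      refine (hdesc ε hε hεm _ h1).2 ?_
      rw [MulAut.inv_apply_self]
      exact hy.1
    apply hy1'
    by_cases hγm : Fix (ZQ Q) γ
    · have hδm' : ¬ Fix (ZQ Q) δ⁻¹ := fun h1 => hδm (by simpa using Fix.inv h1)
      have h1 := hmov δ⁻¹ (inv_mem hδ) hδm' y1 hy1
      have h2 : ¬ Fix (ZQ Q) (γ * δ) := by
        intro h3
        apply hδm
        have h4 := (Fix.inv hγm).mul h3
        simpa using h4
      have h3 := hmov (γ * δ) (mul_mem hγ hδ) h2 _ h1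
      rw [MulAut.mul_apply, MulAut.apply_inv_self] at h3
      exact h3
    · exact hmov γ hγ hγm y1 hy1

end Cfsg.Agent.H764
end
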