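import Cfsg.Agent.H764.Center2
import Cfsg.Agent.Transfer.ExtraspecialProduct
set_option linter.all false

-- part: H764/QForm
section
/-!
# Duality in extraspecial groups (helper764)

* `card_mul_card_centralizer_le` : `|K| |C_E(K)| ≤ p |E|`.
* `exists_of_centralizes` : if an automorphism `ξ` of an extraspecial group `E` is trivial on `Z(E)`, then an element
  centralizing all `q` with `ξ(q) q⁻¹ ∈ Z(E)` is of the form `ξ(q) q⁻¹ z`, `z ∈ Z(E)`.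
-/

set_option autoImplicit false

namespace Cfsg.Agent.H764

open Cfsg Subgroup
open scoped commutatorElement

section abstract

variable {E : Type*} [Group E] [Finite E] {p : ℕ} [hp : Fact p.Prime]

omit [Finite E] hp in
theorem comm_mul_left' (h : Cfsg.IsExtraspecial p E) (a b c : E) : ⁅a * b, c⁆ = ⁅a, c⁆ * ⁅b, c⁆ := by
  have h1 := Subgroup.mem_center_iff.1 (Transfer.Extraspecial.comm_mem_center h b c) a
  calc ⁅a * b, c⁆ = a * ⁅b, c⁆ * c * a⁻¹ * c⁻¹ := by simp only [commutatorElement_def]; group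
    _ = ⁅b, c⁆ * a * c * a⁻¹ * c⁻¹ := by rw [h1]
    _ = ⁅b, c⁆ * ⁅a, c⁆ := by simp only [commutatorElement_def]; group
    _ = ⁅a, c⁆ * ⁅b, c⁆ := by
      rw [Subgroup.mem_center_iff.1 (Transfer.Extraspecial.comm_mem_center h b c) ⁅a, c⁆]

/-- `|K| |C_E(K)| ≤ p |E|` for a subgroup `K` of an extraspecial group. -/
theorem card_mul_card_centralizer_le (h : Cfsg.IsExtraspecial p E) (K : Subgroup E) :
    Nat.card K * Nat.card (Subgroup.centralizer (K : Set E)) ≤ p * Nat.card E := by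
  set C := Subgroup.centralizer (K : Set E) with hC
  have hnormal : C.Normal := by
    refine ⟨fun c hc g => ?_⟩
    have h1 : Subgroup.center E ≤ C := Subgroup.center_le_centralizer _
    have h2 : g * c * g⁻¹ = ⁅g, c⁆ * c := by simp only [commutatorElement_def]; group
    rw [h2]
    exact C.mul_mem (h1 (Transfer.Extraspecial.comm_mem_center h g c)) hc
  let Φ : K → (E ⧸ C →* Subgroup.center E) := fun k =>
    QuotientGroup.lift C
      { toFun := fun e => ⟨⁅e, (k : E)⁆, Transfer.Extraspecial.comm_mem_center h e k⟩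
        map_one' := by ext; simp
        map_mul' := by
          intro a b
          ext
          exact comm_mul_left' h a b k }
      (by
        intro c hc
        apply Subtype.ext
        show ⁅c, (k : E)⁆ = 1
        rw [commutatorElement_eq_one_iff_mul_comm]
        exact (Subgroup.mem_centralizer_iff.1 hc k k.2).symm)
  have hΦ : ∀ (k : K) (e : E), ((Φ k (e : E ⧸ C) : Subgroup.center E) : E) = ⁅e, (k : E)⁆ :=
    fun k e => rfl
  have hdiff : ∀ k l : K, Φ k = Φ l → (k : E) * (l : E)⁻¹ ∈ Subgroup.center E := by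
    intro k l hkl
    rw [Subgroup.mem_center_iff]
    intro g
    have h1 : ⁅g, (k : E)⁆ = ⁅g, (l : E)⁆ := by rw [← hΦ, ← hΦ, hkl]
    rw [← commutatorElement_eq_one_iff_mul_comm, ← commutatorElement_inv]
    rw [inv_eq_one, comm_mul_left' h]
    have h2 : ⁅(l : E)⁻¹, g⁆ = ⁅(l : E), g⁆⁻¹ := by
      have h3 := comm_mul_left' h (l : E) (l : E)⁻¹ g
      rw [mul_inv_cancel, commutatorElement_one_left] at h3
      exact (inv_eq_of_mul_eq_one_right h3.symm).symm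
    rw [h2, ← commutatorElement_inv, h1, commutatorElement_inv]
    exact mul_inv_cancel _
  have hcard1 : Nat.card (E ⧸ C →* Subgroup.center E) ≤ Nat.card (E ⧸ C) := by
    have h1 := Transfer.ExtraspecialProduct.card_monoidHom_le (E := E ⧸ C)
      (Z := Subgroup.center E) (by rw [h.2]; exact hp.out)
    refine h1.trans ?_
    exact Nat.card_le_card_of_surjective _ (QuotientGroup.mk_surjective (s := commutator (E ⧸ C)))
  have hfinHom : Finite (E ⧸ C →* Subgroup.center E) := by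
    exact Finite.of_injective (fun f => (f : E ⧸ C → Subgroup.center E)) DFunLike.coe_injective
  have hinj : Nat.card K ≤ Nat.card ((E ⧸ C →* Subgroup.center E) × Subgroup.center E) := by
    classical
    let sec : (E ⧸ C →* Subgroup.center E) → K := fun φ =>
      if hφ : ∃ k, Φ k = φ then hφ.choose else 1
    have hsec : ∀ k, Φ (sec (Φ k)) = Φ k := by
      intro k
      have hφ : ∃ l, Φ l = Φ k := ⟨k, rfl⟩
      show Φ (if hφ : ∃ l, Φ l = Φ k then hφ.choose else 1) = Φ k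
      rw [dif_pos hφ]
      exact hφ.choose_spec
    refine Nat.card_le_card_of_injective
      (fun k => (Φ k, (⟨(k : E) * (sec (Φ k) : E)⁻¹, hdiff k _ (hsec k).symm⟩ :
        Subgroup.center E))) ?_
    intro k l hkl
    have h1 : Φ k = Φ l := congrArg Prod.fst hkl
    have h2 : (k : E) * (sec (Φ k) : E)⁻¹ = (l : E) * (sec (Φ l) : E)⁻¹ :=
      congrArg (fun x => ((x.2 : Subgroup.center E) : E)) hkl
    rw [h1] at h2
    exact Subtype.ext (mul_right_cancel h2)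
  rw [Nat.card_prod, h.2] at hinj
  have hidx : Nat.card (E ⧸ C) * Nat.card C = Nat.card E := by
    have := C.index_mul_card
    rwa [Subgroup.index_eq_card] at this
  calc Nat.card K * Nat.card C ≤ (Nat.card (E ⧸ C) * p) * Nat.card C :=
        Nat.mul_le_mul_right _ (hinj.trans (Nat.mul_le_mul_right _ hcard1))
    _ = p * (Nat.card (E ⧸ C) * Nat.card C) := by ring
    _ = p * Nat.card E := by rw [hidx]

/-- The elements `q` with `ξ(q) q⁻¹` central. -/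
def starOf (ξ : MulAut E) : Subgroup E where
  carrier := {q | ξ q * q⁻¹ ∈ Subgroup.center E}
  one_mem' := by simp
  mul_mem' := by
    intro a b ha hb
    have h1 : ξ (a * b) * (a * b)⁻¹ = (ξ a * a⁻¹) * (ξ b * b⁻¹) := by
      have h2 := Subgroup.mem_center_iff.1 hb a⁻¹
      calc ξ (a * b) * (a * b)⁻¹ = ξ a * ((ξ b * b⁻¹) * a⁻¹) := by rw [map_mul]; group
        _ = ξ a * (a⁻¹ * (ξ b * b⁻¹)) := by rw [← h2]
        _ = _ := by group
    show ξ (a * b) * (a * b)⁻¹ ∈ Subgroup.center E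
    rw [h1]
    exact Subgroup.mul_mem _ ha hb
  inv_mem' := by
    intro a ha
    show ξ a⁻¹ * a⁻¹⁻¹ ∈ Subgroup.center E
    have h2 := Subgroup.mem_center_iff.1 ha a⁻¹
    have h1 : ξ a⁻¹ * a⁻¹⁻¹ = (ξ a * a⁻¹)⁻¹ := by
      rw [map_inv, inv_inv, mul_inv_rev, inv_inv]
      calc (ξ a)⁻¹ * a = (ξ a)⁻¹ * a * (a * (ξ a)⁻¹) * (a * (ξ a)⁻¹)⁻¹ := by group
        _ = (ξ a)⁻¹ * a * (ξ a * a⁻¹)⁻¹ * (a * (ξ a)⁻¹)⁻¹ := by group
        _ = a * (ξ a)⁻¹ := by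
          have h3 : a⁻¹ * (ξ a) = ξ a * a⁻¹ := by
            have := h2
            calc a⁻¹ * ξ a = a⁻¹ * (ξ a * a⁻¹) * a := by group
              _ = (ξ a * a⁻¹) * a⁻¹ * a := by rw [this]
              _ = ξ a * a⁻¹ := by group
          have h4 : (ξ a)⁻¹ * a = (ξ a * a⁻¹)⁻¹ := by rw [← h3]; group
          rw [h4]
          group
    rw [h1]
    exact Subgroup.inv_mem _ ha

/-- **Duality.** An element of an extraspecial group centralizing all `q` with `ξ(q) q⁻¹` central is of the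
form `ξ(q) q⁻¹ z` with `z` central. -/
theorem exists_of_centralizes (h : Cfsg.IsExtraspecial p E) (ξ : MulAut E)
    (hξ : ∀ z ∈ Subgroup.center E, ξ z = z) {w : E}
    (hw : ∀ q : E, ξ q * q⁻¹ ∈ Subgroup.center E → q * w = w * q) :
    ∃ q : E, ∃ z ∈ Subgroup.center E, w = ξ q * q⁻¹ * z := by
  let N : E →* E ⧸ Subgroup.center E :=
    { toFun := fun q => ((ξ q * q⁻¹ : E) : E ⧸ Subgroup.center E)
      map_one' := by simp
      map_mul' := by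
        intro a b
        rw [← QuotientGroup.mk_mul, QuotientGroup.eq]
        have h1 : (ξ (a * b) * (a * b)⁻¹)⁻¹ * (ξ a * a⁻¹ * (ξ b * b⁻¹)) = ⁅a, b * (ξ b)⁻¹⁆ := by
          rw [map_mul]
          simp only [commutatorElement_def]
          group
        rw [h1]
        exact Transfer.Extraspecial.comm_mem_center h _ _ }
  have hN : ∀ q, N q = ((ξ q * q⁻¹ : E) : E ⧸ Subgroup.center E) := fun q => rfl
  set C := starOf ξ with hCdef
  have hker : N.ker = C := by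
    ext q
    rw [MonoidHom.mem_ker, hN, QuotientGroup.eq_one_iff]
    rfl
  set W := Subgroup.centralizer (C : Set E) with hW
  have hrange : N.range ≤ W.map (QuotientGroup.mk' (Subgroup.center E)) := by
    rintro _ ⟨q, rfl⟩
    refine ⟨ξ q * q⁻¹, ?_, rfl⟩
    rw [SetLike.mem_coe, hW, Subgroup.mem_centralizer_iff]
    intro c hc
    -- [ξ q, ξ c] = [q, c], and ξ c = c mod Z
    have hc' : ξ c * c⁻¹ ∈ Subgroup.center E := hc
    have h1 : ⁅ξ q, ξ c⁆ = ⁅q, c⁆ := by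
      rw [← map_commutatorElement]
      exact hξ _ (Transfer.Extraspecial.comm_mem_center h q c)
    have h2 : ⁅ξ q, ξ c⁆ = ⁅ξ q, c⁆ := by
      have h3 : ξ c = (ξ c * c⁻¹) * c := by group
      rw [h3, ← commutatorElement_inv, comm_mul_left' h]
      have h4 : ⁅ξ c * c⁻¹, ξ q⁆ = 1 := by
        rw [commutatorElement_eq_one_iff_mul_comm]
        exact (Subgroup.mem_center_iff.1 hc' (ξ q)).symm
      rw [h4, one_mul, commutatorElement_inv]
    have h5 : ⁅ξ q * q⁻¹, c⁆ = 1 := by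
      rw [comm_mul_left' h, ← h2, h1, ← comm_mul_left' h, mul_inv_cancel, commutatorElement_one_left]
    exact (commutatorElement_eq_one_iff_mul_comm.1 h5).symm
  have hZW : Subgroup.center E ≤ W := Subgroup.center_le_centralizer _
  have hcardW : Nat.card W = Nat.card (W.map (QuotientGroup.mk' (Subgroup.center E))) * p := by
    have h1 := Subgroup.card_mul_index ((QuotientGroup.mk' (Subgroup.center E)).subgroupMap W).ker
    have h2 : Nat.card ((QuotientGroup.mk' (Subgroup.center E)).subgroupMap W).ker = p := by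
      have h3 : ((QuotientGroup.mk' (Subgroup.center E)).subgroupMap W).ker =
          (Subgroup.center E).subgroupOf W := by
        ext x
        rw [MonoidHom.mem_ker, Subgroup.mem_subgroupOf]
        constructor
        · intro hx
          have : ((x : E) : E ⧸ Subgroup.center E) = 1 := congrArg Subtype.val hx
          exact (QuotientGroup.eq_one_iff _).1 this
        · intro hx
          exact Subtype.ext ((QuotientGroup.eq_one_iff _).2 hx)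
      rw [h3, Nat.card_congr (Subgroup.subgroupOfEquivOfLe hZW).toEquiv, h.2]
    have h3 : ((QuotientGroup.mk' (Subgroup.center E)).subgroupMap W).ker.index =
        Nat.card (W.map (QuotientGroup.mk' (Subgroup.center E))) := by
      rw [Subgroup.index_ker, MonoidHom.range_eq_top.2 (MonoidHom.subgroupMap_surjective _ _),
        Subgroup.card_top]
    rw [h2, h3] at h1
    rw [← h1, mul_comm]
  have hcardN : Nat.card N.range * Nat.card C = Nat.card E := by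
    have h1 := N.ker.index_mul_card
    rwa [Subgroup.index_ker, hker] at h1
  have hle : Nat.card (W.map (QuotientGroup.mk' (Subgroup.center E))) ≤ Nat.card N.range := by
    have h1 := card_mul_card_centralizer_le h C
    rw [← hW, hcardW, ← hcardN] at h1
    have hCpos : 0 < Nat.card C := Nat.card_pos
    have h2 : (Nat.card C * p) * Nat.card (W.map (QuotientGroup.mk' (Subgroup.center E))) ≤
        (Nat.card C * p) * Nat.card N.range := by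
      calc _ = Nat.card C * (Nat.card (W.map (QuotientGroup.mk' (Subgroup.center E))) * p) := by ring
        _ ≤ p * (Nat.card N.range * Nat.card C) := h1
        _ = _ := by ring
    exact Nat.le_of_mul_le_mul_left h2 (Nat.mul_pos hCpos hp.out.pos)
  have heq := Subgroup.eq_of_le_of_card_ge hrange hle
  have hwW : w ∈ W := by
    rw [hW, Subgroup.mem_centralizer_iff]
    intro c hc
    exact hw c hc
  have h1 : ((w : E) : E ⧸ Subgroup.center E) ∈ N.range := by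
    rw [heq]
    exact ⟨w, hwW, rfl⟩
  obtain ⟨q, hq⟩ := h1
  rw [hN, QuotientGroup.eq] at hq
  exact ⟨q, _, hq, by group⟩

end abstract

end Cfsg.Agent.H764
end

-- part: H764/Start
section
/-!
# S5177: counting in `Q`, first facts about `E` (helper764)
-/

set_option autoImplicit false
set_option linter.unusedSectionVars false

namespace Cfsg.Agent.H764

open Cfsg Cfsg.FusionSystem Cfsg.Agent.H802
open scoped commutatorElement

variable {Ω : Type*} [Group Ω] {S : Subgroup Ω} {p : ℕ} [hp : Fact p.Prime]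

/-- In a finite `p`-group `C` a proper subgroup is properly contained in its normalizer. -/
theorem exists_mem_normalizer {C E : Subgroup Ω} [Finite C] (hC : IsPGroup p C) (hEC : E ≤ C)
    (hne : E ≠ C) : ∃ g ∈ C, g ∈ Subgroup.normalizer (E : Set Ω) ∧ g ∉ E := by
  have h1 := card_lt_card_normalizerIn hC hEC hne
  have hfin : Finite (normalizerIn C E) := finite_of_le inf_le_left
  by_contra hcon
  push Not at hcon
  have h2 : normalizerIn C E ≤ E := fun g hg => hcon g hg.1 hg.2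
  have hfinE : Finite E := finite_of_le hEC
  exact absurd (Nat.card_mono (Set.toFinite _) h2) (not_le.2 h1)

/-- A `p`-subgroup `K` of `X`, `Aut_S(E) ≤ X ≤ Aut_F(E)`, is conjugate into `Aut_S(E)` in `X`. -/
theorem exists_conj_mem_of_le [Finite S] {F : FusionSystem S} {E : Subgroup Ω}
    (hS : IsPGroup p S) (hF : F.IsSaturated p) (hE : F.IsFullyNormalized E)
    {X K : Subgroup (MulAut E)} (hX : autInducedBy S E ≤ X) (hXF : X ≤ F.autGroup E) (hK : K ≤ X)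
    (hKp : IsPGroup p K) : ∃ δ ∈ X, ∀ γ ∈ K, δ * γ * δ⁻¹ ∈ autInducedBy S E := by
  have hfinE : Finite E := finite_of_le hE.1
  have hfinA : Finite (MulAut E) := inferInstance
  obtain ⟨-, R, hR⟩ := isFullyAutomized_of_isFullyNormalized hS hF hE
  let H : Subgroup (F.autGroup E) := X.subgroupOf (F.autGroup E)
  have hRH : (R : Subgroup (F.autGroup E)) ≤ H := by
    intro a ha
    rw [hR, Subgroup.mem_subgroupOf] at ha
    exact hX ha
  let R' : Sylow p H := R.subtype hRH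
  have hKF : K ≤ F.autGroup E := hK.trans hXF
  have hKp' : IsPGroup p ((K.subgroupOf (F.autGroup E)).subgroupOf H) := by
    have h1 : IsPGroup p (K.subgroupOf (F.autGroup E)) :=
      hKp.comap_of_injective _ (Subgroup.subtype_injective _)
    exact h1.comap_of_injective _ (Subgroup.subtype_injective _)
  obtain ⟨R'', hR''⟩ := hKp'.exists_le_sylow
  obtain ⟨b, hb⟩ := MulAction.exists_smul_eq H R'' R'
  refine ⟨((b : F.autGroup E) : MulAut E), b.2, fun γ hγ => ?_⟩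
  have h2 : (⟨⟨γ, hKF hγ⟩, hK hγ⟩ : H) ∈ (K.subgroupOf (F.autGroup E)).subgroupOf H := hγ
  have h5 : (b * (⟨⟨γ, hKF hγ⟩, hK hγ⟩ : H) * b⁻¹ : H) ∈ (R' : Subgroup H) := by
    rw [← hb]
    exact Subgroup.smul_mem_pointwise_smul _ (MulAut.conj b) (R'' : Subgroup H) (hR'' h2)
  have h6 : ((b : F.autGroup E) * ⟨γ, hKF hγ⟩ * (b : F.autGroup E)⁻¹) ∈
      (R : Subgroup (F.autGroup E)) := h5
  rw [hR, Subgroup.mem_subgroupOf] at h6
  exact h6

namespace Ext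

variable {Q : Subgroup Ω}

/-- `|K| |C_Q(K)| ≤ p |Q|`. -/
theorem card_mul_le [Finite S] (h : Ext p S Q) {K : Subgroup Ω} (hK : K ≤ Q) :
    Nat.card K * Nat.card (Q ⊓ Subgroup.centralizer (K : Set Ω) : Subgroup Ω) ≤ p * Nat.card Q := by
  have hfin : Finite Q := finite_of_le h.le
  have h1 := card_mul_card_centralizer_le h.ex (K.subgroupOf Q)
  rw [Nat.card_congr (Subgroup.subgroupOfEquivOfLe hK).toEquiv] at h1
  have h2 : Subgroup.centralizer ((K.subgroupOf Q : Subgroup Q) : Set Q) =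
      (Q ⊓ Subgroup.centralizer (K : Set Ω)).subgroupOf Q := by
    ext q
    rw [Subgroup.mem_centralizer_iff, Subgroup.mem_subgroupOf, Subgroup.mem_inf,
      Subgroup.mem_centralizer_iff]
    constructor
    · intro hq
      exact ⟨q.2, fun k hk => congrArg Subtype.val (hq ⟨k, hK hk⟩ hk)⟩
    · rintro ⟨-, hq⟩ k hk
      exact Subtype.ext (hq k hk)
  rw [h2, Nat.card_congr (Subgroup.subgroupOfEquivOfLe inf_le_left).toEquiv] at h1
  exact h1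

/-- An abelian subgroup `K` of `Q` satisfies `|K|² ≤ p |Q|`. -/
theorem card_sq_le [Finite S] (h : Ext p S Q) {K : Subgroup Ω} (hK : K ≤ Q)
    (hc : ∀ a ∈ K, ∀ b ∈ K, a * b = b * a) : Nat.card K * Nat.card K ≤ p * Nat.card Q := by
  refine le_trans (Nat.mul_le_mul_left _ ?_) (h.card_mul_le hK)
  have hfin : Finite Q := finite_of_le h.le
  have hfin2 : Finite (Q ⊓ Subgroup.centralizer (K : Set Ω) : Subgroup Ω) :=
    finite_of_le (S := Q) inf_le_left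
  refine Nat.card_mono (Set.toFinite _) ?_
  intro k hk
  exact ⟨hK hk, Subgroup.mem_centralizer_iff.2 fun b hb => hc b hb k hk⟩

/-- The centralizer of an element of `Q` has index at most `p` in `Q`. -/
theorem card_le_centralizer [Finite S] (h : Ext p S Q) {a : Ω} (ha : a ∈ Q) :
    Nat.card Q ≤ p * Nat.card (Q ⊓ Subgroup.centralizer {a} : Subgroup Ω) := by
  have hfin : Finite Q := finite_of_le h.le
  let f : Q →* Subgroup.center Q :=
    { toFun := fun e => ⟨⁅e, (⟨a, ha⟩ : Q)⁆, Transfer.Extraspecial.comm_mem_center h.ex e _⟩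
      map_one' := by ext; simp
      map_mul' := by
        intro b c
        apply Subtype.ext
        exact comm_mul_left' h.ex b c _ }
  have h1 := f.ker.index_mul_card
  rw [Subgroup.index_ker] at h1
  have h2 : Nat.card f.range ≤ p := by
    have := Subgroup.card_le_card_group f.range
    rw [h.ex.2] at this
    exact this
  have h3 : f.ker = (Q ⊓ Subgroup.centralizer {a}).subgroupOf Q := by
    ext q
    rw [MonoidHom.mem_ker, Subgroup.mem_subgroupOf, Subgroup.mem_inf, Subgroup.mem_centralizer_iff]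
    constructor
    · intro hq
      refine ⟨q.2, fun b hb => ?_⟩
      rw [Set.mem_singleton_iff] at hb
      rw [hb]
      have h4 : ⁅q, (⟨a, ha⟩ : Q)⁆ = 1 := congrArg Subtype.val hq
      exact (congrArg Subtype.val (commutatorElement_eq_one_iff_mul_comm.1 h4)).symm
    · rintro ⟨-, hq⟩
      apply Subtype.ext
      show ⁅q, (⟨a, ha⟩ : Q)⁆ = 1
      rw [commutatorElement_eq_one_iff_mul_comm]
      exact Subtype.ext (hq a rfl).symm
  rw [h3, Nat.card_congr (Subgroup.subgroupOfEquivOfLe inf_le_left).toEquiv] at h1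
  rw [← h1]
  exact Nat.mul_le_mul_right _ h2

theorem pow_arith {p q k : ℕ} (hp : 1 < p) (h5 : p ^ 5 ≤ q) (h1 : q ≤ p * k) (h2 : k * k ≤ p * q) :
    False := by
  have h3 : k * k ≤ p * p * k := by
    calc k * k ≤ p * q := h2
      _ ≤ p * (p * k) := Nat.mul_le_mul_left _ h1
      _ = p * p * k := by ring
  have hk : 0 < k := by
    rcases Nat.eq_zero_or_pos k with h | h
    · rw [h] at h1
      have : 0 < p ^ 5 := Nat.pow_pos (by omega)
      omega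
    · exact h
  have h4 : k ≤ p * p := Nat.le_of_mul_le_mul_right h3 hk
  have h5' : p ^ 5 ≤ p ^ 3 := by
    calc p ^ 5 ≤ q := h5
      _ ≤ p * k := h1
      _ ≤ p * (p * p) := Nat.mul_le_mul_left _ h4
      _ = p ^ 3 := by ring
  exact absurd h5' (not_le.2 (Nat.pow_lt_pow_right hp (by norm_num)))

/-- The centralizer in `Q` of an element is not abelian. -/
theorem exists_noncomm_centralizer [Finite S] (h : Ext p S Q) (h5 : p ^ 5 ≤ Nat.card Q) {a : Ω}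
    (ha : a ∈ Q) : ∃ u ∈ Q, ∃ v ∈ Q, u * a = a * u ∧ v * a = a * v ∧ u * v ≠ v * u := by
  by_contra hcon
  push Not at hcon
  refine pow_arith hp.out.one_lt h5 (h.card_le_centralizer ha) (h.card_sq_le inf_le_left ?_)
  intro u hu v hv
  exact hcon u hu.1 v hv.1 (Subgroup.mem_centralizer_iff.1 hu.2 a rfl).symm
    (Subgroup.mem_centralizer_iff.1 hv.2 a rfl).symm

/-- **Duality** for the action of `x ∈ S` on `Q`. -/
theorem duality [Finite S] (h : Ext p S Q) {x w : Ω} (hx : x ∈ S) (hw : w ∈ Q)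
    (hc : ∀ q ∈ Q, x * q * x⁻¹ * q⁻¹ ∈ ZQ Q → q * w = w * q) :
    ∃ q ∈ Q, ∃ z ∈ ZQ Q, w = x * q * x⁻¹ * q⁻¹ * z := by
  have hfin : Finite Q := finite_of_le h.le
  have hn : x ∈ Subgroup.normalizer (Q : Set Ω) := by
    refine Subgroup.mem_normalizer_iff.2 fun q => ⟨fun hq => h.conj_mem hx hq, fun hq => ?_⟩
    have := h.conj_mem' hx hq
    have h2 : x⁻¹ * (x * q * x⁻¹) * x = q := by group
    rwa [h2] at this
  obtain ⟨ξ, hξ⟩ := exists_conjAut hn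
  have hmem : ∀ q : Q, q ∈ Subgroup.center Q ↔ (q : Ω) ∈ ZQ Q := by
    intro q
    rw [ZQ_eq_map]
    constructor
    · intro hq
      exact ⟨q, hq, rfl⟩
    · rintro ⟨r, hr, hrq⟩
      have : r = q := Subtype.ext hrq
      rwa [← this]
  obtain ⟨q, z, hz, hwe⟩ := exists_of_centralizes h.ex ξ (fun z hz => by
      apply Subtype.ext
      rw [hξ, h.Z_comm hx ((hmem z).1 hz)]
      group) (w := ⟨w, hw⟩) (fun q hq => by
      apply Subtype.ext
      apply hc q q.2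
      have h1 := (hmem _).1 hq
      rw [Subgroup.coe_mul, hξ, Subgroup.coe_inv] at h1
      exact h1)
  refine ⟨q, q.2, z, (hmem z).1 hz, ?_⟩
  have h1 := congrArg Subtype.val hwe
  rw [Subgroup.coe_mul, Subgroup.coe_mul, hξ, Subgroup.coe_inv] at h1
  exact h1

theorem card_S [Finite S] (h : Ext p S Q) : Nat.card S = p * Nat.card Q := by
  have h1 := (Q.subgroupOf S).index_mul_card
  rw [h.index, Nat.card_congr (Subgroup.subgroupOfEquivOfLe h.le).toEquiv] at h1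
  exact h1.symm

/-- `S = Q⟨c⟩` for `c ∈ S \ Q`. -/
theorem exists_zpow [Finite S] (h : Ext p S Q) {c : Ω} (hc : c ∈ S) (hcQ : c ∉ Q) {s : Ω}
    (hs : s ∈ S) : ∃ i : ℤ, s * c ^ i ∈ Q :=
  exists_mul_zpow_mem_of_index h.index (fun _ hg _ hq => h.conj_mem hg hq) h.le hc hcQ hs

end Ext

/-- The data: `E` is a fully normalized centric subgroup, all maps on larger subgroups preserve `Z(Q)`. -/
structure Dat (p : ℕ) {S : Subgroup Ω} (F : FusionSystem S) (Q E : Subgroup Ω) : Prop where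
  /-- `Q` is extraspecial of index `p` in `S` -/
  ext : Ext p S Q
  /-- `|Q| ≥ p⁵` -/
  card_Q : p ^ 5 ≤ Nat.card Q
  /-- `F` is saturated -/
  sat : F.IsSaturated p
  /-- the setup -/
  setup : Setup F (ZQ Q) E
  /-- the centre of `S` -/
  center : centralizerIn S S = ZQ Q

theorem Dat.exists_of [Finite S] {Q : Subgroup Ω} {F : FusionSystem S} (h : Ext p S Q)
    (h6 : p ^ 6 ≤ Nat.card S) (hF : F.IsSaturated p) (hO : F.core = ⊥) :
    ∃ E : Subgroup Ω, Dat p F Q E ∧ ∃ α ∈ F.autGroup E, ∃ z : E, (z : Ω) ∈ ZQ Q ∧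
      ((α z : E) : Ω) ∉ ZQ Q := by
  obtain ⟨E, hE, hEc, hα, hbig⟩ := exists_moving h.pg hF h.Z_le_center (h.not_isNormal hO)
  refine ⟨E, ⟨h, ?_, hF, ⟨h.Z_le_center, hE, hEc, hbig⟩, h.center_eq hF hO⟩, hα⟩
  rw [h.card_S] at h6
  have : p * p ^ 5 ≤ p * Nat.card Q := by
    calc p * p ^ 5 = p ^ 6 := by ring
      _ ≤ _ := h6
  exact Nat.le_of_mul_le_mul_left this hp.out.pos

namespace Dat

variable [Finite S] {F : FusionSystem S} {Q E : Subgroup Ω}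

theorem pg (D : Dat p F Q E) : IsPGroup p S := D.ext.pg

theorem gen (D : Dat p F Q E) {z : E} (hz : (z : Ω) ∈ ZQ Q) (hz1 : z ≠ 1) {w : E}
    (hw : (w : Ω) ∈ ZQ Q) : ∃ i : ℤ, z ^ i = w := by
  obtain ⟨i, hi⟩ := D.ext.Z_gen hz (fun h1 => hz1 (Subtype.ext h1)) hw
  exact ⟨i, Subtype.ext (by simpa using hi)⟩

theorem ne_one {β : MulAut E} {z : E} (hm : ((β z : E) : Ω) ∉ ZQ Q) : z ≠ 1 := by
  rintro rfl
  apply hm
  rw [map_one]
  exact (ZQ Q).one_mem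

theorem central (D : Dat p F Q E) (β : MulAut E) {z : E} (hz : (z : Ω) ∈ ZQ Q) (e : E) :
    e * β z = β z * e := by
  have h1 : β⁻¹ e * z = z * β⁻¹ e :=
    Subtype.ext (D.setup.comm (D.setup.le_S (β⁻¹ e).2) hz)
  have h2 := congrArg β h1
  rwa [map_mul, map_mul, MulAut.apply_inv_self] at h2

theorem not_fix {β : MulAut E} {z : E} (hz : (z : Ω) ∈ ZQ Q) (hm : ((β z : E) : Ω) ∉ ZQ Q) :
    ¬ Fix (ZQ Q) β := fun h => hm (h z hz)

/-- Semiregularity. -/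
theorem sr (D : Dat p F Q E) {β : MulAut E} (hβ : β ∈ F.autGroup E) {z : E}
    (hz : (z : Ω) ∈ ZQ Q) (hm : ((β z : E) : Ω) ∉ ZQ Q) {g : Ω} (hg : g ∈ normalizerIn S E) {i : ℤ}
    (hgi : g * (β z : E) * g⁻¹ = ((β z : E) : Ω) ^ i) : g ∈ E := by
  refine D.setup.mem_of_fixes D.pg D.sat hβ (not_fix hz hm) hg ?_
  intro y hy hx
  obtain ⟨j, rfl⟩ := D.gen hz (ne_one hm) hy
  have h1 : g * ((β (z ^ j) : E) : Ω) * g⁻¹ = ((β (z ^ (i * j)) : E) : Ω) := by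
    rw [map_zpow, map_zpow, Subgroup.coe_zpow, Subgroup.coe_zpow, zpow_mul, ← hgi]
    rw [conj_zpow]
  have h2 : (⟨g * ((β (z ^ j) : E) : Ω) * g⁻¹, hx⟩ : E) = β (z ^ (i * j)) := Subtype.ext h1
  rw [h2, MulAut.inv_apply_self, Subgroup.coe_zpow]
  exact (ZQ Q).zpow_mem hz _

/-- `C_S(β z) ≤ E` for a moved image `β z`. -/
theorem mem_of_comm (D : Dat p F Q E) {β : MulAut E} (hβ : β ∈ F.autGroup E) {z : E}
    (hz : (z : Ω) ∈ ZQ Q) (hm : ((β z : E) : Ω) ∉ ZQ Q) {g : Ω} (hg : g ∈ S)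
    (hc : g * (β z : E) = (β z : E) * g) : g ∈ E := by
  set C : Subgroup Ω := S ⊓ Subgroup.centralizer {((β z : E) : Ω)} with hC
  have hfin : Finite C := finite_of_le inf_le_left
  have hEC : E ≤ C := by
    intro e he
    refine ⟨D.setup.le_S he, Subgroup.mem_centralizer_iff.2 fun b hb => ?_⟩
    rw [Set.mem_singleton_iff] at hb
    rw [hb]
    exact (congrArg Subtype.val (D.central β hz ⟨e, he⟩)).symm
  by_contra hgE
  have hne : E ≠ C := by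
    intro heq
    apply hgE
    rw [heq]
    refine ⟨hg, Subgroup.mem_centralizer_iff.2 fun b hb => ?_⟩
    rw [Set.mem_singleton_iff] at hb
    rw [hb]
    exact hc.symm
  obtain ⟨k, hk, hkn, hkE⟩ := exists_mem_normalizer (D.pg.to_le inf_le_left) hEC hne
  apply hkE
  refine D.sr hβ hz hm ⟨hk.1, hkn⟩ (i := 1) ?_
  have h1 := Subgroup.mem_centralizer_iff.1 hk.2 _ rfl
  rw [zpow_one, ← h1]
  group

/-- `E` does not lie in `Q`. -/
theorem not_le (D : Dat p F Q E) {β : MulAut E} (hβ : β ∈ F.autGroup E) {z : E}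
    (hz : (z : Ω) ∈ ZQ Q) (hm : ((β z : E) : Ω) ∉ ZQ Q) : ¬ E ≤ Q := by
  intro hEQ
  obtain ⟨u, hu, v, hv, hua, hva, huv⟩ := D.ext.exists_noncomm_centralizer D.card_Q (hEQ (β z).2)
  have huE := D.mem_of_comm hβ hz hm (D.ext.le hu) hua
  have hvE := D.mem_of_comm hβ hz hm (D.ext.le hv) hva
  have h1 : ((⁅(⟨u, huE⟩ : E), (⟨v, hvE⟩ : E)⁆ : E) : Ω) ∈ ZQ Q := D.ext.comm_mem hu hv
  have h2 : ⁅(⟨u, huE⟩ : E), (⟨v, hvE⟩ : E)⁆ ≠ 1 := by
    intro h3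
    rw [commutatorElement_eq_one_iff_mul_comm] at h3
    exact huv (congrArg Subtype.val h3)
  obtain ⟨i, hi⟩ := D.gen h1 h2 hz
  apply hm
  rw [← hi, map_zpow, map_commutatorElement, Subgroup.coe_zpow]
  exact (ZQ Q).zpow_mem (D.ext.comm_mem (hEQ (β _).2) (hEQ (β _).2)) _

end Dat

end Cfsg.Agent.H764
end

-- part: H764/Bil
section
/-!
# Bilinearity of commutators in `Q`, invariance under `S` (helper764)
-/

set_option autoImplicit false
set_option linter.unusedSectionVars false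

namespace Cfsg.Agent.H764

open Cfsg Cfsg.FusionSystem Cfsg.Agent.H802
open scoped commutatorElement

variable {Ω : Type*} [Group Ω] {S Q : Subgroup Ω} {p : ℕ} [hp : Fact p.Prime]

theorem comm_eq_one {a b : Ω} : ⁅a, b⁆ = 1 ↔ a * b = b * a :=
  commutatorElement_eq_one_iff_mul_comm

theorem conj_comm (x a b : Ω) : x * ⁅a, b⁆ * x⁻¹ = ⁅x * a * x⁻¹, x * b * x⁻¹⁆ := by
  simp only [commutatorElement_def]
  group

theorem conj_eq (x a : Ω) : x * a * x⁻¹ = ⁅x, a⁆ * a := by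
  simp only [commutatorElement_def]
  group

theorem comm_mul_right (x a b : Ω) : ⁅x, a * b⁆ = ⁅x, a⁆ * (a * ⁅x, b⁆ * a⁻¹) := by
  simp only [commutatorElement_def]
  group

theorem comm_mul_left (x y a : Ω) : ⁅x * y, a⁆ = (x * ⁅y, a⁆ * x⁻¹) * ⁅x, a⁆ := by
  simp only [commutatorElement_def]
  group

namespace Ext

theorem cm (h : Ext p S Q) {a b : Ω} (ha : a ∈ Q) (hb : b ∈ Q) : ⁅a, b⁆ ∈ ZQ Q :=
  h.comm_mem ha hb

theorem bil_left (h : Ext p S Q) {a b c : Ω} (ha : a ∈ Q) (hb : b ∈ Q) (hc : c ∈ Q) :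
    ⁅a * b, c⁆ = ⁅a, c⁆ * ⁅b, c⁆ :=
  congrArg Subtype.val (comm_mul_left' h.ex ⟨a, ha⟩ ⟨b, hb⟩ ⟨c, hc⟩)

theorem bil_right (h : Ext p S Q) {a b c : Ω} (ha : a ∈ Q) (hb : b ∈ Q) (hc : c ∈ Q) :
    ⁅a, b * c⁆ = ⁅a, b⁆ * ⁅a, c⁆ := by
  rw [← commutatorElement_inv, h.bil_left hb hc ha, mul_inv_rev, commutatorElement_inv,
    commutatorElement_inv]
  have h1 := h.cm ha hb
  exact ((mem_ZQ.1 h1).2 _ (ZQ_le Q (h.cm ha hc)))

theorem inv_left (h : Ext p S Q) {a c : Ω} (ha : a ∈ Q) (hc : c ∈ Q) : ⁅a⁻¹, c⁆ = ⁅a, c⁆⁻¹ := by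
  have h1 := h.bil_left ha (Q.inv_mem ha) hc
  rw [mul_inv_cancel, commutatorElement_one_left] at h1
  exact (inv_eq_of_mul_eq_one_right h1.symm).symm

theorem zpow_left (h : Ext p S Q) {a c : Ω} (ha : a ∈ Q) (hc : c ∈ Q) (n : ℤ) :
    ⁅a ^ n, c⁆ = ⁅a, c⁆ ^ n := by
  have hpos : ∀ n : ℕ, ⁅a ^ n, c⁆ = ⁅a, c⁆ ^ n := by
    intro n
    induction n with
    | zero => simp
    | succ n ih => rw [pow_succ, h.bil_left (Q.pow_mem ha n) ha hc, ih, pow_succ]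
  cases n with
  | ofNat n => simpa using hpos n
  | negSucc n =>
    rw [zpow_negSucc, zpow_negSucc, h.inv_left (Q.pow_mem ha _) hc, hpos]

theorem zpow_right (h : Ext p S Q) {a c : Ω} (ha : a ∈ Q) (hc : c ∈ Q) (n : ℤ) :
    ⁅c, a ^ n⁆ = ⁅c, a⁆ ^ n := by
  rw [← commutatorElement_inv, h.zpow_left ha hc, ← inv_zpow, commutatorElement_inv]

variable [Finite S]

theorem conj_Z (h : Ext p S Q) {x z : Ω} (hx : x ∈ S) (hz : z ∈ ZQ Q) : x * z * x⁻¹ = z := by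
  rw [h.Z_comm hx hz]
  group

/-- Commutators of elements of `Q` are invariant under `S`. -/
theorem invar (h : Ext p S Q) {x a b : Ω} (hx : x ∈ S) (ha : a ∈ Q) (hb : b ∈ Q) :
    ⁅x * a * x⁻¹, x * b * x⁻¹⁆ = ⁅a, b⁆ := by
  rw [← conj_comm, h.conj_Z hx (h.cm ha hb)]

theorem comm_mem_Q (h : Ext p S Q) {x a : Ω} (hx : x ∈ S) (ha : a ∈ Q) : ⁅x, a⁆ ∈ Q :=
  Q.mul_mem (h.conj_mem hx ha) (Q.inv_mem ha)

/-- `⁅x, a b⁆ ≡ ⁅x, a⁆ ⁅x, b⁆` modulo `Z`. -/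
theorem comm_mul_mod (h : Ext p S Q) {x a b : Ω} (hx : x ∈ S) (ha : a ∈ Q) (hb : b ∈ Q) :
    ∃ ζ ∈ ZQ Q, ⁅x, a * b⁆ = ⁅x, a⁆ * ⁅x, b⁆ * ζ := by
  refine ⟨⁅x, b⁆⁻¹ * a * ⁅x, b⁆ * a⁻¹, ?_, ?_⟩
  · have := h.cm (Q.inv_mem (h.comm_mem_Q hx hb)) ha
    rwa [commutatorElement_def, inv_inv] at this
  · rw [comm_mul_right]
    group

theorem comm_zpow_mod (h : Ext p S Q) {x a : Ω} (hx : x ∈ S) (ha : a ∈ Q) (n : ℤ) :
    ∃ ζ ∈ ZQ Q, ⁅x, a ^ n⁆ = ⁅x, a⁆ ^ n * ζ := by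
  have hpos : ∀ n : ℕ, ∃ ζ ∈ ZQ Q, ⁅x, a ^ n⁆ = ⁅x, a⁆ ^ n * ζ := by
    intro n
    induction n with
    | zero => exact ⟨1, (ZQ Q).one_mem, by simp⟩
    | succ n ih =>
      obtain ⟨ζ, hζ, e⟩ := ih
      obtain ⟨ζ', hζ', e'⟩ := h.comm_mul_mod hx (Q.pow_mem ha n) ha
      refine ⟨ζ * ζ', (ZQ Q).mul_mem hζ hζ', ?_⟩
      rw [pow_succ, e', e, pow_succ]
      have h1 : ζ * ⁅x, a⁆ = ⁅x, a⁆ * ζ := ((mem_ZQ.1 hζ).2 _ (h.comm_mem_Q hx ha)).symm
      calc ⁅x, a⁆ ^ n * ζ * ⁅x, a⁆ * ζ' = ⁅x, a⁆ ^ n * (ζ * ⁅x, a⁆) * ζ' := by group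
        _ = _ := by rw [h1]; group
  cases n with
  | ofNat n => simpa using hpos n
  | negSucc n =>
    obtain ⟨ζ, hζ, e⟩ := hpos (n + 1)
    obtain ⟨ζ', hζ', e'⟩ := h.comm_mul_mod hx (Q.pow_mem ha (n + 1)) (Q.inv_mem (Q.pow_mem ha (n + 1)))
    rw [mul_inv_cancel, commutatorElement_one_right, e] at e'
    refine ⟨ζ⁻¹ * ζ'⁻¹, (ZQ Q).mul_mem ((ZQ Q).inv_mem hζ) ((ZQ Q).inv_mem hζ'), ?_⟩
    rw [zpow_negSucc, zpow_negSucc]
    have hζQ := (mem_ZQ.1 hζ)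
    have hζQ' := (mem_ZQ.1 hζ')
    set c := ⁅x, (a ^ (n + 1))⁻¹⁆ with hc
    have hcQ : c ∈ Q := h.comm_mem_Q hx (Q.inv_mem (Q.pow_mem ha _))
    have h1 : c = (⁅x, a⁆ ^ (n + 1) * ζ)⁻¹ * ζ'⁻¹ := by
      have h2 : 1 = (⁅x, a⁆ ^ (n + 1) * ζ) * c * ζ' := e'
      calc c = (⁅x, a⁆ ^ (n + 1) * ζ)⁻¹ * ((⁅x, a⁆ ^ (n + 1) * ζ) * c * ζ') * ζ'⁻¹ := by group
        _ = _ := by rw [← h2]; group
    rw [h1]
    have h3 : ζ * ⁅x, a⁆ ^ (n + 1) = ⁅x, a⁆ ^ (n + 1) * ζ :=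
      ((mem_ZQ.1 hζ).2 _ (Q.pow_mem (h.comm_mem_Q hx ha) _)).symm
    rw [← h3]
    group

/-- Powers of elements of `Q`. -/
theorem zpow_mul_pow (h : Ext p S Q) {a b : Ω} (ha : a ∈ Q) (hb : b ∈ Q) (i : ℤ) :
    (a * b ^ i) ^ p = a ^ p * (b ^ p) ^ i := by
  rw [h.mul_pow ha (Q.zpow_mem hb i)]
  congr 1
  rw [← zpow_natCast, ← zpow_mul, mul_comm, zpow_mul, zpow_natCast]

/-- If all maximal subgroups `D` of `Q` (index at most `p`) contain an element `d` with `⁅x, d⁆ ∉ Z`,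
then automorphisms of `S` preserve `Q`. -/
theorem apply_mem (h : Ext p S Q) {x : Ω} (hx : x ∈ S)
    (hD : ∀ D : Subgroup Ω, D ≤ Q → Nat.card Q ≤ p * Nat.card D → ∃ d ∈ D, ⁅x, d⁆ ∉ ZQ Q)
    (hZ : ZQ Q = centralizerIn S S) (τ : MulAut S) {q : S} (hq : (q : Ω) ∈ Q) :
    ((τ q : S) : Ω) ∈ Q := by
  by_contra hcon
  have hfin : Finite Q := finite_of_le h.le
  -- D = Q ∩ τ(Q)
  set D : Subgroup Ω := Q ⊓ ((Q.subgroupOf S).map τ.toMonoidHom).map S.subtype with hDdef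
  have hmemD : ∀ d, d ∈ D ↔ d ∈ Q ∧ ∃ r : S, (r : Ω) ∈ Q ∧ ((τ r : S) : Ω) = d := by
    intro d
    rw [hDdef, Subgroup.mem_inf]
    constructor
    · rintro ⟨h1, ⟨_, ⟨r, hr, rfl⟩, rfl⟩⟩
      exact ⟨h1, r, hr, rfl⟩
    · rintro ⟨h1, r, hr, rfl⟩
      exact ⟨h1, ⟨τ r, ⟨r, hr, rfl⟩, rfl⟩⟩
  have hcard : Nat.card Q ≤ p * Nat.card D := by
    -- index of D in S is at most p²
    have h1 : (Q.subgroupOf S ⊓ (Q.subgroupOf S).map τ.toMonoidHom).index ≤ p * p := by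
      refine (Subgroup.index_inf_le).trans ?_
      rw [h.index]
      have h2 : ((Q.subgroupOf S).map τ.toMonoidHom).index = p := by
        rw [Subgroup.index_map_of_bijective τ.bijective, h.index]
      rw [h2]
    have h2 : D.subgroupOf S = Q.subgroupOf S ⊓ (Q.subgroupOf S).map τ.toMonoidHom := by
      ext d
      rw [Subgroup.mem_subgroupOf, hmemD, Subgroup.mem_inf]
      constructor
      · rintro ⟨h3, r, hr, hrd⟩
        exact ⟨h3, ⟨r, hr, Subtype.ext hrd⟩⟩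
      · rintro ⟨h3, ⟨r, hr, rfl⟩⟩
        exact ⟨h3, r, hr, rfl⟩
    have h3 := (D.subgroupOf S).index_mul_card
    rw [Nat.card_congr (Subgroup.subgroupOfEquivOfLe (inf_le_left.trans h.le)).toEquiv, h2,
      h.card_S] at h3
    have h4 : p * Nat.card Q ≤ p * (p * Nat.card D) := by
      rw [← h3]
      calc _ ≤ (p * p) * Nat.card D := Nat.mul_le_mul_right _ h1
        _ = _ := by ring
    exact Nat.le_of_mul_le_mul_left h4 hp.out.pos
  obtain ⟨d, hdD, hd⟩ := hD D inf_le_left hcard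
  apply hd
  obtain ⟨hdQ, r, hr, hrd⟩ := (hmemD d).1 hdD
  -- ⁅τ q, d⁆ ∈ Z
  have hc : ⁅((τ q : S) : Ω), d⁆ ∈ ZQ Q := by
    have h1 : ((⁅q, r⁆ : S) : Ω) ∈ ZQ Q := h.cm hq hr
    rw [hZ] at h1
    have h2 := apply_mem_center τ h1
    rw [map_commutatorElement, ← hZ] at h2
    rw [← hrd]
    exact h2
  obtain ⟨i, hi⟩ := h.exists_zpow (τ q).2 hcon hx
  -- x = (x (τ q)^i) (τ q)^(-i)
  have hd2 : ∀ n : ℤ, ⁅(((τ q : S) : Ω)) ^ n, d⁆ ∈ ZQ Q := by
    have hsub : ∀ n : ℤ, (((τ q : S) : Ω)) ^ n * d * ((((τ q : S) : Ω)) ^ n)⁻¹ * d⁻¹ ∈ ZQ Q := by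
      set c := ((τ q : S) : Ω) with hcdef
      set K : Subgroup Ω :=
        { carrier := {g | g ∈ S ∧ g * d * g⁻¹ * d⁻¹ ∈ ZQ Q}
          one_mem' := ⟨S.one_mem, by simp⟩
          mul_mem' := by
            rintro a b ⟨ha, ha'⟩ ⟨hb, hb'⟩
            refine ⟨S.mul_mem ha hb, ?_⟩
            have h1 := h.conj_Z ha hb'
            have h2 : a * b * d * (a * b)⁻¹ * d⁻¹ = (a * (b * d * b⁻¹ * d⁻¹) * a⁻¹) *
                (a * d * a⁻¹ * d⁻¹) := by group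
            rw [h2, h1]
            exact (ZQ Q).mul_mem hb' ha'
          inv_mem' := by
            rintro a ⟨ha, ha'⟩
            refine ⟨S.inv_mem ha, ?_⟩
            have h1 := h.conj_Z (S.inv_mem ha) ha'
            have h2 : a⁻¹ * d * a⁻¹⁻¹ * d⁻¹ = (a⁻¹ * (a * d * a⁻¹ * d⁻¹) * a⁻¹⁻¹)⁻¹ := by group
            rw [h2, h1]
            exact (ZQ Q).inv_mem ha' } with hK
      intro n
      have : c ∈ K := ⟨(τ q).2, hc⟩
      exact (K.zpow_mem this n).2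
    exact hsub
  have h1 : x = (x * ((τ q : S) : Ω) ^ i) * ((τ q : S) : Ω) ^ (-i) := by
    rw [zpow_neg]; group
  rw [h1, comm_mul_left]
  refine (ZQ Q).mul_mem ?_ (h.cm hi hdQ)
  rw [h.conj_Z (h.le hi) (hd2 (-i))]
  exact hd2 (-i)

end Ext

end Cfsg.Agent.H764
end

-- part: H764/CaseM
section
/-!
# S5177, case M: the group theory (helper764)
-/

set_option autoImplicit false
set_option linter.unusedSectionVars false

namespace Cfsg.Agent.H764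

open Cfsg Cfsg.FusionSystem Cfsg.Agent.H802
open scoped commutatorElement

variable {Ω : Type*} [Group Ω] {S Q : Subgroup Ω} {p : ℕ} [hp : Fact p.Prime]

/-- If `D ≤ P` has index at most `p` in the finite `p`-group `P` and `c ∈ P \ D`, then `P = D⟨c⟩`. -/
theorem exists_mul_zpow_mem_of_card {P D : Subgroup Ω} [Finite P] (hP : IsPGroup p P) (hD : D ≤ P)
    (hcard : Nat.card P ≤ p * Nat.card D) {c : Ω} (hc : c ∈ P) (hcD : c ∉ D) {s : Ω} (hs : s ∈ P) :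
    ∃ i : ℤ, s * c ^ i ∈ D := by
  have hidx : (D.subgroupOf P).index = p := by
    have h1 := (D.subgroupOf P).index_mul_card
    rw [Nat.card_congr (Subgroup.subgroupOfEquivOfLe hD).toEquiv] at h1
    have hfin : Finite D := finite_of_le hD
    have hpos : 0 < Nat.card D := Nat.card_pos
    have h2 : (D.subgroupOf P).index ≤ p := by
      rw [← h1] at hcard
      exact Nat.le_of_mul_le_mul_right hcard hpos
    have h3 : (D.subgroupOf P).index ≠ 1 := by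
      rw [Ne, Subgroup.index_eq_one, Subgroup.subgroupOf_eq_top]
      exact fun h => hcD (h hc)
    obtain ⟨n, hn⟩ := hP.exists_card_eq
    have h4 : (D.subgroupOf P).index ∣ p ^ n := by
      rw [← hn]
      exact Subgroup.index_dvd_card _
    obtain ⟨m, -, hm⟩ := (Nat.dvd_prime_pow hp.out).1 h4
    rw [hm] at h2 h3 ⊢
    have hm0 : m ≠ 0 := by
      rintro rfl
      exact h3 (pow_zero p)
    have hm1 : m ≤ 1 := by
      by_contra hlt
      push Not at hlt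
      have h5 : p ^ 1 < p ^ m := Nat.pow_lt_pow_right hp.out.one_lt hlt
      rw [pow_one] at h5
      omega
    have : m = 1 := by omega
    rw [this, pow_one]
  have hnorm : (D.subgroupOf P).Normal := by
    apply Subgroup.normal_of_index_eq_minFac_card
    rw [hidx]
    obtain ⟨n, hn⟩ := hP.exists_card_eq
    have hn0 : n ≠ 0 := by
      rintro rfl
      have h1 := (D.subgroupOf P).index_mul_card
      rw [hidx, hn, pow_zero] at h1
      exact hp.out.one_lt.ne' (Nat.eq_one_of_mul_eq_one_right h1)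
    rw [hn, hp.out.pow_minFac hn0]
  exact exists_mul_zpow_mem_of_index hidx
    (fun g hg q hq => hnorm.conj_mem ⟨q, hD hq⟩ hq ⟨g, hg⟩) hD hc hcD hs

/-- Input of `form4`. -/
def Hyp4 (p : ℕ) (S Q : Subgroup Ω) : Prop :=
  ∃ x ∈ S, x ∉ Q ∧ x ^ p = 1 ∧
    (∀ q ∈ Q, ∀ r ∈ Q, x * q = q * x → x * r = r * x → q * r = r * q) ∧
    (∀ q ∈ Q, x * (x * q * x⁻¹ * q⁻¹) = (x * q * x⁻¹ * q⁻¹) * x) ∧
    (∀ q ∈ Q, x * q * x⁻¹ * q⁻¹ ∈ ZQ Q → x * q = q * x)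

/-- Input of `formG`. -/
def HypG (p : ℕ) (S Q : Subgroup Ω) : Prop :=
  ∃ x ∈ S, x ∉ Q ∧ x ^ p = 1 ∧ ∃ y ∈ Q, ∃ e k a : Ω, e = x * y * x⁻¹ * y⁻¹ ∧
    k = x * e * x⁻¹ * e⁻¹ ∧ a = x * k * x⁻¹ * k⁻¹ ∧ a ∉ ZQ Q ∧ x * a = a * x

/-- The group theoretic data of case M. -/
structure MDat (p : ℕ) (S Q E E1 : Subgroup Ω) (a : Ω) : Prop where
  ext : Ext p S Q
  card_Q : p ^ 5 ≤ Nat.card Q
  E_le : E ≤ S
  E1_le : E1 ≤ E
  a_mem : a ∈ Q
  a_not : a ∉ ZQ Q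
  a_pow : a ^ p = 1
  comm_a : ∀ e ∈ E, e * a = a * e
  mem_E : ∀ g ∈ S, g * a = a * g → g ∈ E
  comm1 : ∀ u ∈ E1, ∀ v ∈ E1, ⁅u, v⁆ ∈ Subgroup.zpowers a
  conj1 : ∀ g ∈ E, ∀ u ∈ E1, g * u * g⁻¹ ∈ E1
  a1 : a ∈ E1
  Z1 : ZQ Q ≤ E1
  index1 : ∀ c ∈ E, c ∉ E1 → ∀ u ∈ E, ∃ i : ℤ, u * c ^ i ∈ E1
  noncomm1 : ∃ u ∈ E1, ∃ v ∈ E1, u * v ≠ v * u
  card1 : Nat.card (E ⊓ Q : Subgroup Ω) ≤ p * Nat.card (E1 ⊓ Q : Subgroup Ω)
  pow1 : ∀ u ∈ E1, u ^ p ∈ Subgroup.zpowers a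
  pow_iff : (∀ u ∈ E, u ∈ Q → u ^ p = 1) → ∀ u ∈ E1, u ^ p = 1

namespace MDat

variable [Finite S] {E E1 : Subgroup Ω} {a : Ω}

theorem zpow_mem_iff (M : MDat p S Q E E1 a) {j : ℤ} (h : a ^ j ∈ ZQ Q) : a ^ j = 1 := by
  by_cases hj : (p : ℤ) ∣ j
  · exact zpow_eq_one_of_dvd M.a_pow hj
  · exfalso
    obtain ⟨k, hk⟩ := exists_mul_sub_one hj
    apply M.a_not
    have h1 : a ^ (j * k) = a ^ (1 : ℤ) := zpow_eq_zpow_of_modEq M.a_pow hk
    rw [zpow_one] at h1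
    rw [← h1, zpow_mul]
    exact (ZQ Q).zpow_mem h k

theorem inter (M : MDat p S Q E E1 a) {w : Ω} (h : w ∈ Subgroup.zpowers a) (h' : w ∈ ZQ Q) :
    w = 1 := by
  obtain ⟨j, rfl⟩ := Subgroup.mem_zpowers_iff.1 h
  exact M.zpow_mem_iff h'

/-- `K = E1 ∩ Q` is abelian. -/
theorem K_comm (M : MDat p S Q E E1 a) {u v : Ω} (hu : u ∈ E1) (huQ : u ∈ Q) (hv : v ∈ E1)
    (hvQ : v ∈ Q) : u * v = v * u := by
  rw [← comm_eq_one]
  exact M.inter (M.comm1 u hu v hv) (M.ext.cm huQ hvQ)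

theorem K_pow (M : MDat p S Q E E1 a) {u : Ω} (hu : u ∈ E1) (huQ : u ∈ Q) : u ^ p = 1 :=
  M.inter (M.pow1 u hu) (M.ext.pow_mem huQ)

theorem le_centralizer (M : MDat p S Q E E1 a) : Q ⊓ Subgroup.centralizer {a} ≤ E ⊓ Q := by
  intro q hq
  exact ⟨M.mem_E q (M.ext.le hq.1) (Subgroup.mem_centralizer_iff.1 hq.2 a rfl).symm, hq.1⟩

theorem card_Q_eq (M : MDat p S Q E E1 a) : Nat.card Q = p ^ 5 := by
  have hfin : Finite Q := finite_of_le M.ext.le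
  have hfin2 : Finite (E ⊓ Q : Subgroup Ω) := finite_of_le (S := Q) inf_le_right
  have h1 : Nat.card Q ≤ p * Nat.card (E ⊓ Q : Subgroup Ω) :=
    (M.ext.card_le_centralizer M.a_mem).trans
      (Nat.mul_le_mul_left _ (Nat.card_mono (Set.toFinite _) M.le_centralizer))
  have h2 := M.card1
  set k := Nat.card (E1 ⊓ Q : Subgroup Ω) with hk
  have h3 : k * k ≤ p * Nat.card Q := by
    refine M.ext.card_sq_le inf_le_right ?_
    intro u hu v hv
    exact M.K_comm hu.1 hu.2 hv.1 hv.2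
  have h4 : Nat.card Q ≤ p * (p * k) := h1.trans (Nat.mul_le_mul_left _ h2)
  have hkpos : 0 < k := by
    have : Finite (E1 ⊓ Q : Subgroup Ω) := finite_of_le (S := Q) inf_le_right
    exact Nat.card_pos
  have h5 : k ≤ p ^ 3 := by
    have h6 : k * k ≤ p ^ 3 * k := by
      calc k * k ≤ p * Nat.card Q := h3
        _ ≤ p * (p * (p * k)) := Nat.mul_le_mul_left _ h4
        _ = p ^ 3 * k := by ring
    exact Nat.le_of_mul_le_mul_right h6 hkpos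
  apply le_antisymm _ M.card_Q
  calc Nat.card Q ≤ p * (p * k) := h4
    _ ≤ p * (p * p ^ 3) := Nat.mul_le_mul_left _ (Nat.mul_le_mul_left _ h5)
    _ = p ^ 5 := by ring

theorem exists_x (M : MDat p S Q E E1 a) : ∃ x ∈ E1, x ∉ Q := by
  obtain ⟨u, hu, v, hv, huv⟩ := M.noncomm1
  by_contra hcon
  push Not at hcon
  exact huv (M.K_comm hu (hcon u hu) hv (hcon v hv))

theorem exists_y (M : MDat p S Q E E1 a) : ∃ y ∈ Q, ⁅y, a⁆ ≠ 1 := by
  by_contra hcon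
  push Not at hcon
  apply M.a_not
  rw [mem_ZQ]
  exact ⟨M.a_mem, fun q hq => comm_eq_one.1 (hcon q hq)⟩

/-- `k ∈ K` not commuting with `x`. -/
theorem exists_k (M : MDat p S Q E E1 a) {x : Ω} (hx : x ∈ E1) (hxQ : x ∉ Q) :
    ∃ k ∈ E1, k ∈ Q ∧ ⁅x, k⁆ ≠ 1 := by
  obtain ⟨u, hu, v, hv, huv⟩ := M.noncomm1
  by_contra hcon
  push Not at hcon
  apply huv
  have key : ∀ w ∈ E1, ∃ i : ℤ, ∃ k ∈ E1, k ∈ Q ∧ w = k * x ^ i := by
    intro w hw
    obtain ⟨i, hi⟩ := M.ext.exists_zpow (M.E_le (M.E1_le hx)) hxQ (M.E_le (M.E1_le hw))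
    exact ⟨-i, w * x ^ i, E1.mul_mem hw (E1.zpow_mem hx i), hi, by rw [zpow_neg]; group⟩
  obtain ⟨i, k, hk, hkQ, rfl⟩ := key u hu
  obtain ⟨j, l, hl, hlQ, rfl⟩ := key v hv
  have h1 : Commute k l := M.K_comm hk hkQ hl hlQ
  have h2 : Commute x k := comm_eq_one.1 (hcon k hk hkQ)
  have h3 : Commute x l := comm_eq_one.1 (hcon l hl hlQ)
  have h4 : Commute (k * x ^ i) (l * x ^ j) :=
    (h1.mul_left (h3.zpow_left i)).mul_right ((h2.symm.zpow_right j).mul_left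
      ((Commute.refl x).zpow_zpow i j))
  exact h4

variable {x y k : Ω}

/-- `⁅x, k⁆` is a power of `a`. -/
theorem xk_mem (M : MDat p S Q E E1 a) (hx : x ∈ E1) (hk : k ∈ E1) :
    ⁅x, k⁆ ∈ Subgroup.zpowers a := M.comm1 x hx k hk

theorem xy_comm_a (M : MDat p S Q E E1 a) (hx : x ∈ E1) (hy : y ∈ Q) : ⁅⁅x, y⁆, a⁆ = 1 := by
  have hxS := M.E_le (M.E1_le hx)
  have h1 := M.ext.invar hxS hy M.a_mem
  have h2 : x * a * x⁻¹ = a := by
    rw [M.comm_a x (M.E1_le hx)]; group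
  rw [h2, conj_eq, M.ext.bil_left (M.ext.comm_mem_Q hxS hy) hy M.a_mem] at h1
  exact mul_eq_right.1 h1

theorem xy_mem (M : MDat p S Q E E1 a) (hx : x ∈ E1) (hy : y ∈ Q) : ⁅x, y⁆ ∈ E :=
  M.mem_E _ (M.ext.le (M.ext.comm_mem_Q (M.E_le (M.E1_le hx)) hy))
    (comm_eq_one.1 (M.xy_comm_a hx hy))

/-- powers of `a` do not commute with `y`. -/
theorem comm_y (M : MDat p S Q E E1 a) (hy : y ∈ Q) (hya : ⁅y, a⁆ ≠ 1) {w : Ω}
    (hw : w ∈ Subgroup.zpowers a) (h : ⁅y, w⁆ = 1) : w = 1 := by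
  obtain ⟨j, rfl⟩ := Subgroup.mem_zpowers_iff.1 hw
  rw [M.ext.zpow_right M.a_mem hy] at h
  by_cases hj : (p : ℤ) ∣ j
  · exact zpow_eq_one_of_dvd M.a_pow hj
  · exfalso
    obtain ⟨k, hk⟩ := exists_mul_sub_one hj
    apply hya
    have h1 : ⁅y, a⁆ ^ (j * k) = ⁅y, a⁆ ^ (1 : ℤ) :=
      zpow_eq_zpow_of_modEq (M.ext.Z_pow (M.ext.cm hy M.a_mem)) hk
    rw [zpow_one, zpow_mul, h, one_zpow] at h1
    exact h1.symm

theorem ek (M : MDat p S Q E E1 a) (hx : x ∈ E1) (hy : y ∈ Q) (hya : ⁅y, a⁆ ≠ 1) (hk : k ∈ E1)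
    (hkQ : k ∈ Q) (hxk : ⁅x, k⁆ ≠ 1) : ⁅⁅x, y⁆, k⁆ ≠ 1 := by
  intro h0
  apply hxk
  have hxS := M.E_le (M.E1_le hx)
  have hb := M.xk_mem hx hk
  apply M.comm_y hy hya hb
  have heQ := M.ext.comm_mem_Q hxS hy
  have hbQ := M.ext.comm_mem_Q hxS hkQ
  have h1 := M.ext.invar hxS hy hkQ
  have h2 : ⁅⁅x, y⁆, ⁅x, k⁆⁆ = 1 := by
    obtain ⟨j, hj⟩ := Subgroup.mem_zpowers_iff.1 hb
    rw [← hj, M.ext.zpow_right M.a_mem heQ, M.xy_comm_a hx hy, one_zpow]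
  rw [conj_eq x y, conj_eq x k, M.ext.bil_left heQ hy (Q.mul_mem hbQ hkQ),
    M.ext.bil_right heQ hbQ hkQ, M.ext.bil_right hy hbQ hkQ, h0, h2, mul_one, one_mul] at h1
  exact mul_eq_right.1 h1

theorem e_not (M : MDat p S Q E E1 a) (hx : x ∈ E1) (hxQ : x ∉ Q) (hy : y ∈ Q)
    (hya : ⁅y, a⁆ ≠ 1) : ⁅x, y⁆ ∉ E1 := by
  intro h
  obtain ⟨k, hk, hkQ, hxk⟩ := M.exists_k hx hxQ
  apply M.ek hx hy hya hk hkQ hxk
  rw [comm_eq_one]
  exact M.K_comm h (M.ext.comm_mem_Q (M.E_le (M.E1_le hx)) hy) hk hkQ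

/-- `E ∩ Q` has exponent `p`. -/
theorem pow_E0 (M : MDat p S Q E E1 a) {q : Ω} (hq : q ∈ E) (hqQ : q ∈ Q) : q ^ p = 1 := by
  obtain ⟨x, hx, hxQ⟩ := M.exists_x
  obtain ⟨y, hy, hya⟩ := M.exists_y
  have hxS := M.E_le (M.E1_le hx)
  have heQ := M.ext.comm_mem_Q hxS hy
  have hep : ⁅x, y⁆ ^ p = 1 := by
    have h1 : ⁅x, y⁆ = (x * y * x⁻¹) * y⁻¹ := rfl
    rw [h1, M.ext.mul_pow (M.ext.conj_mem hxS hy) (Q.inv_mem hy)]
    have h2 : (x * y * x⁻¹) ^ p = x * y ^ p * x⁻¹ := conj_pow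
    rw [h2, M.ext.conj_Z hxS (M.ext.pow_mem hy), inv_pow]
    exact mul_inv_cancel _
  obtain ⟨i, hi⟩ := M.index1 _ (M.xy_mem hx hy) (M.e_not hx hxQ hy hya) q hq
  have h3 := M.K_pow hi (Q.mul_mem hqQ (Q.zpow_mem heQ i))
  rw [M.ext.zpow_mul_pow hqQ heQ, hep, one_zpow, mul_one] at h3
  exact h3

theorem pow_E1 (M : MDat p S Q E E1 a) {u : Ω} (hu : u ∈ E1) : u ^ p = 1 :=
  M.pow_iff (fun _ h1 h2 => M.pow_E0 h1 h2) u hu

/-- decomposition `Q = (E ∩ Q)⟨y⟩`. -/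
theorem exists_y_zpow (M : MDat p S Q E E1 a) (hy : y ∈ Q) (hya : ⁅y, a⁆ ≠ 1) {q : Ω}
    (hq : q ∈ Q) : ∃ i : ℤ, q * y ^ i ∈ E := by
  obtain ⟨i, hi⟩ := M.ext.Z_gen (M.ext.cm hy M.a_mem) hya ((ZQ Q).inv_mem (M.ext.cm hq M.a_mem))
  refine ⟨i, M.mem_E _ (M.ext.le (Q.mul_mem hq (Q.zpow_mem hy i))) ?_⟩
  rw [← comm_eq_one, M.ext.bil_left hq (Q.zpow_mem hy i) M.a_mem, M.ext.zpow_left hy M.a_mem, hi,
    mul_inv_cancel]

/-- If `y ^ p = 1` then `Q` has exponent `p`. -/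
theorem pow_Q (M : MDat p S Q E E1 a) (hy : y ∈ Q) (hya : ⁅y, a⁆ ≠ 1) (hyp : y ^ p = 1) {q : Ω}
    (hq : q ∈ Q) : q ^ p = 1 := by
  obtain ⟨i, hi⟩ := M.exists_y_zpow hy hya hq
  have h1 := M.pow_E0 hi (Q.mul_mem hq (Q.zpow_mem hy i))
  rwa [M.ext.zpow_mul_pow hq hy, hyp, one_zpow, mul_one] at h1

/-- The condition of `Ext.apply_mem`. -/
theorem star (M : MDat p S Q E E1 a) (hx : x ∈ E1) (hxQ : x ∉ Q) (D : Subgroup Ω) (hD : D ≤ Q)
    (hcard : Nat.card Q ≤ p * Nat.card D) : ∃ d ∈ D, ⁅x, d⁆ ∉ ZQ Q := by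
  have hxS := M.E_le (M.E1_le hx)
  have hfin : Finite Q := finite_of_le M.ext.le
  obtain ⟨y, hy, hya⟩ := M.exists_y
  obtain ⟨k, hk, hkQ, hxk⟩ := M.exists_k hx hxQ
  have hxkZ : ⁅x, k⁆ ∉ ZQ Q := fun h => hxk (M.inter (M.xk_mem hx hk) h)
  by_cases hkD : k ∈ D
  · exact ⟨k, hkD, hxkZ⟩
  -- `D` has index `p` and contains `y k^j`
  have hyk : ∃ j : ℤ, y * k ^ j ∈ D :=
    exists_mul_zpow_mem_of_card (M.ext.pg.to_le M.ext.le) hD hcard hkQ hkD hy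
  obtain ⟨j, hj⟩ := hyk
  refine ⟨_, hj, fun hcon => ?_⟩
  obtain ⟨ζ, hζ, e1⟩ := M.ext.comm_mul_mod hxS hy (Q.zpow_mem hkQ j)
  obtain ⟨ζ', hζ', e2⟩ := M.ext.comm_zpow_mod hxS hkQ j
  rw [e1, e2] at hcon
  -- ⁅x,y⁆ ∈ E1
  apply M.e_not hx hxQ hy hya
  have h1 : ⁅x, y⁆ = (⁅x, y⁆ * (⁅x, k⁆ ^ j * ζ') * ζ) * ζ⁻¹ * (⁅x, k⁆ ^ j * ζ')⁻¹ := by group
  rw [h1]
  have h2 : ⁅x, k⁆ ∈ E1 := by
    have := M.xk_mem hx hk
    exact (Subgroup.zpowers_le.2 M.a1) this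
  exact E1.mul_mem (E1.mul_mem (M.Z1 hcon) (E1.inv_mem (M.Z1 hζ)))
    (E1.inv_mem (E1.mul_mem (E1.zpow_mem h2 j) (M.Z1 hζ')))

theorem xe_mem (M : MDat p S Q E E1 a) (hx : x ∈ E1) {e : Ω} (he : e ∈ E) (heQ : e ∈ Q) :
    ⁅x, e⁆ ∈ E1 ∧ ⁅x, e⁆ ∈ Q := by
  refine ⟨?_, M.ext.comm_mem_Q (M.E_le (M.E1_le hx)) heQ⟩
  have h1 : ⁅x, e⁆ = x * (e * x⁻¹ * e⁻¹) := by
    rw [commutatorElement_def]; group
  rw [h1]
  exact E1.mul_mem hx (M.conj1 e he _ (E1.inv_mem hx))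

/-- The case `⁅x, e⁆ ∈ Z`, `e = ⁅x, y⁆`. -/
theorem hyp4 (M : MDat p S Q E E1 a) (hx : x ∈ E1) (hxQ : x ∉ Q) (hy : y ∈ Q) (hya : ⁅y, a⁆ ≠ 1)
    (hyp : y ^ p = 1) (hxe : ⁅x, ⁅x, y⁆⁆ = 1) : Hyp4 p S Q := by
  have hxS := M.E_le (M.E1_le hx)
  set e := ⁅x, y⁆ with he
  have heQ : e ∈ Q := M.ext.comm_mem_Q hxS hy
  have heE : e ∈ E := M.xy_mem hx hy
  obtain ⟨k, hk, hkQ, hxk⟩ := M.exists_k hx hxQ
  set b := ⁅x, k⁆ with hb
  have hbz : b ∈ Subgroup.zpowers a := M.xk_mem hx hk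
  have hbQ : b ∈ Q := M.ext.comm_mem_Q hxS hkQ
  have hek : ⁅e, k⁆ ≠ 1 := M.ek hx hy hya hk hkQ hxk
  have hbx : Commute x b := by
    obtain ⟨j, hj⟩ := Subgroup.mem_zpowers_iff.1 hbz
    rw [← hj]
    exact (show Commute x a from M.comm_a x (M.E1_le hx)).zpow_right j
  have hexc : Commute x e := comm_eq_one.1 hxe
  -- C_K(x) commutes with e
  have hce : ∀ c ∈ E1, c ∈ Q → ⁅x, c⁆ = 1 → ⁅e, c⁆ = 1 := by
    intro c hc hcQ hxc
    have h1 := M.ext.invar hxS hy hcQ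
    rw [conj_eq x y, conj_eq x c, hxc, one_mul, ← he, M.ext.bil_left heQ hy hcQ] at h1
    exact mul_eq_right.1 h1
  -- decomposition
  have hdec : ∀ q ∈ Q, ∃ i n l : ℤ, ∃ c ∈ E1, c ∈ Q ∧ ⁅x, c⁆ = 1 ∧
      q = c * (k ^ l * (e ^ n * y ^ i)) := by
    intro q hq
    obtain ⟨i, hi⟩ := M.exists_y_zpow hy hya hq
    have hqi : q * y ^ i ∈ Q := Q.mul_mem hq (Q.zpow_mem hy i)
    obtain ⟨n, hn⟩ := M.index1 e heE (M.e_not hx hxQ hy hya) _ hi
    have hqn : q * y ^ i * e ^ n ∈ Q := Q.mul_mem hqi (Q.zpow_mem heQ n)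
    -- kill the commutator with x
    have h1 : ⁅x, q * y ^ i * e ^ n⁆ ∈ Subgroup.zpowers b := by
      obtain ⟨j, hj⟩ := Subgroup.mem_zpowers_iff.1 (M.xk_mem hx hn)
      obtain ⟨j', hj'⟩ := Subgroup.mem_zpowers_iff.1 hbz
      have hj'p : ¬ (p : ℤ) ∣ j' := by
        intro hd
        apply hxk
        rw [← hj']
        exact zpow_eq_one_of_dvd M.a_pow hd
      obtain ⟨m, hm⟩ := exists_mul_sub_one hj'p
      rw [← hj, ← hj']
      refine Subgroup.mem_zpowers_iff.2 ⟨m * j, ?_⟩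
      rw [← zpow_mul]
      apply zpow_eq_zpow_of_modEq M.a_pow
      have : j' * (m * j) - j = (j' * m - 1) * j := by ring
      rw [this]
      exact Dvd.dvd.mul_right hm j
    obtain ⟨r, hr⟩ := Subgroup.mem_zpowers_iff.1 h1
    set w := q * y ^ i * e ^ n with hw
    refine ⟨-i, -n, r, w * k ^ (-r), E1.mul_mem hn (E1.zpow_mem hk _),
      Q.mul_mem hqn (Q.zpow_mem hkQ _), ?_, ?_⟩
    · -- ⁅x, w k^(-r)⁆ = 1
      have hxw : x * w * x⁻¹ = b ^ r * w := by rw [conj_eq, hr]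
      have hxk' : x * k * x⁻¹ = b * k := conj_eq x k
      have hbk : Commute b k := by
        have hbE1 : b ∈ E1 := (Subgroup.zpowers_le.2 M.a1) hbz
        exact M.K_comm hbE1 hbQ hk hkQ
      have hbw : Commute b w := by
        have hbE1 : b ∈ E1 := (Subgroup.zpowers_le.2 M.a1) hbz
        exact M.K_comm hbE1 hbQ hn hqn
      have h2 : x * (w * k ^ (-r)) * x⁻¹ = w * k ^ (-r) := by
        have h3 : x * (w * k ^ (-r)) * x⁻¹ = (x * w * x⁻¹) * (x * k * x⁻¹) ^ (-r) := by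
          rw [conj_zpow]; group
        rw [h3, hxw, hxk', hbk.mul_zpow, (hbw.zpow_left r).eq]
        have h4 : b ^ r * b ^ (-r) = 1 := by rw [← zpow_add, add_neg_cancel, zpow_zero]
        calc w * b ^ r * (b ^ (-r) * k ^ (-r)) = w * (b ^ r * b ^ (-r)) * k ^ (-r) := by group
          _ = _ := by rw [h4]; group
      rw [commutatorElement_def, h2]
      exact mul_inv_cancel _
    · rw [zpow_neg, zpow_neg, zpow_neg, hw]
      group
  -- the commutator with x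
  have hcomm : ∀ q ∈ Q, ∀ i n l : ℤ, ∀ c ∈ E1, c ∈ Q → ⁅x, c⁆ = 1 →
      q = c * (k ^ l * (e ^ n * y ^ i)) → ∃ ζ ∈ ZQ Q, ⁅x, q⁆ = b ^ l * e ^ i * ζ := by
    intro q hq i n l c hc hcQ hxc hqe
    have hyi := Q.zpow_mem hy i
    have hen := Q.zpow_mem heQ n
    have hkl := Q.zpow_mem hkQ l
    obtain ⟨ζ1, hζ1, e1⟩ := M.ext.comm_mul_mod hxS hen hyi
    obtain ⟨ζ2, hζ2, e2⟩ := M.ext.comm_mul_mod hxS hkl (Q.mul_mem hen hyi)
    obtain ⟨ζ3, hζ3, e3⟩ := M.ext.comm_mul_mod hxS hcQ (Q.mul_mem hkl (Q.mul_mem hen hyi))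
    obtain ⟨ζ4, hζ4, e4⟩ := M.ext.comm_zpow_mod hxS hy i
    obtain ⟨ζ5, hζ5, e5⟩ := M.ext.comm_zpow_mod hxS hkQ l
    have e6 : ⁅x, e ^ n⁆ = 1 := comm_eq_one.2 (hexc.zpow_right n)
    rw [← hqe, hxc, one_mul, e2, e1, e6, one_mul, e4, e5] at e3
    rw [← he, ← hb] at e3
    refine ⟨ζ5 * ζ4 * ζ1 * ζ2 * ζ3, (ZQ Q).mul_mem ((ZQ Q).mul_mem ((ZQ Q).mul_mem
      ((ZQ Q).mul_mem hζ5 hζ4) hζ1) hζ2) hζ3, ?_⟩
    rw [e3]
    have h1 : ζ5 * e ^ i = e ^ i * ζ5 := ((mem_ZQ.1 hζ5).2 _ (Q.zpow_mem heQ i)).symm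
    calc b ^ l * ζ5 * (e ^ i * ζ4 * ζ1) * ζ2 * ζ3 = b ^ l * (ζ5 * e ^ i) * ζ4 * ζ1 * ζ2 * ζ3 := by
          group
      _ = _ := by rw [h1]; group
  -- if the commutator is central then i, l are divisible by p
  have hkey : ∀ q ∈ Q, ⁅x, q⁆ ∈ ZQ Q → ∃ n : ℤ, ∃ c ∈ E1, c ∈ Q ∧ ⁅x, c⁆ = 1 ∧ q = c * e ^ n := by
    intro q hq hxq
    obtain ⟨i, n, l, c, hc, hcQ, hxc, hqe⟩ := hdec q hq
    obtain ⟨ζ, hζ, h1⟩ := hcomm q hq i n l c hc hcQ hxc hqe
    have hbe : b ^ l * e ^ i ∈ ZQ Q := by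
      have h2 : b ^ l * e ^ i = ⁅x, q⁆ * ζ⁻¹ := by rw [h1]; group
      rw [h2]
      exact (ZQ Q).mul_mem hxq ((ZQ Q).inv_mem hζ)
    have hi : (p : ℤ) ∣ i := by
      by_contra hi
      obtain ⟨m, hm⟩ := exists_mul_sub_one hi
      apply hek
      -- ⁅b^l e^i, k⁆ = 1
      have h3 : ⁅b ^ l * e ^ i, k⁆ = 1 := by
        rw [comm_eq_one]
        exact ((mem_ZQ.1 hbe).2 k hkQ).symm
      have hbk : ⁅b, k⁆ = 1 := by
        rw [comm_eq_one]
        exact M.K_comm ((Subgroup.zpowers_le.2 M.a1) hbz) hbQ hk hkQ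
      rw [M.ext.bil_left (Q.zpow_mem hbQ l) (Q.zpow_mem heQ i) hkQ, M.ext.zpow_left hbQ hkQ,
        M.ext.zpow_left heQ hkQ, hbk, one_zpow, one_mul] at h3
      have h4 : ⁅e, k⁆ ^ (i * m) = ⁅e, k⁆ ^ (1 : ℤ) :=
        zpow_eq_zpow_of_modEq (M.ext.Z_pow (M.ext.cm heQ hkQ)) hm
      rw [zpow_one, zpow_mul, h3, one_zpow] at h4
      exact h4.symm
    have hei : e ^ i = 1 := zpow_eq_one_of_dvd (M.pow_E0 heE heQ) hi
    rw [hei, mul_one] at hbe
    have hl : (p : ℤ) ∣ l := by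
      by_contra hl
      obtain ⟨m, hm⟩ := exists_mul_sub_one hl
      apply hxk
      have hbp : b ^ p = 1 := M.pow_E0 (M.E1_le ((Subgroup.zpowers_le.2 M.a1) hbz)) hbQ
      have h4 : b ^ (l * m) = b ^ (1 : ℤ) := zpow_eq_zpow_of_modEq hbp hm
      have h5 : b ^ l = 1 := M.inter (Subgroup.zpow_mem _ hbz l) hbe
      rw [zpow_one, zpow_mul, h5, one_zpow] at h4
      exact h4.symm
    have hkl : k ^ l = 1 := zpow_eq_one_of_dvd (M.K_pow hk hkQ) hl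
    have hyi : y ^ i = 1 := zpow_eq_one_of_dvd hyp hi
    refine ⟨n, c, hc, hcQ, hxc, ?_⟩
    rw [hqe, hkl, hyi, one_mul, mul_one]
  have hcentral : ∀ n : ℤ, ∀ c ∈ E1, c ∈ Q → ⁅x, c⁆ = 1 → x * (c * e ^ n) = c * e ^ n * x := by
    intro n c hc hcQ hxc
    exact (show Commute x c from comm_eq_one.1 hxc).mul_right (hexc.zpow_right n)
  refine ⟨x, hxS, hxQ, M.pow_E1 hx, ?_, ?_, ?_⟩
  · intro q hq r hr hxq hxr
    have h1 : ⁅x, q⁆ ∈ ZQ Q := by rw [comm_eq_one.2 hxq]; exact (ZQ Q).one_mem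
    have h2 : ⁅x, r⁆ ∈ ZQ Q := by rw [comm_eq_one.2 hxr]; exact (ZQ Q).one_mem
    obtain ⟨n, c, hc, hcQ, hxc, rfl⟩ := hkey q hq h1
    obtain ⟨m, d, hd, hdQ, hxd, rfl⟩ := hkey r hr h2
    have h3 : Commute c d := M.K_comm hc hcQ hd hdQ
    have h4 : Commute e c := comm_eq_one.1 (hce c hc hcQ hxc)
    have h5 : Commute e d := comm_eq_one.1 (hce d hd hdQ hxd)
    exact (h3.mul_left (h5.zpow_left n)).mul_right ((h4.symm.zpow_right m).mul_left
      ((Commute.refl e).zpow_zpow n m))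
  · intro q hq
    obtain ⟨i, n, l, c, hc, hcQ, hxc, hqe⟩ := hdec q hq
    obtain ⟨ζ, hζ, h1⟩ := hcomm q hq i n l c hc hcQ hxc hqe
    have h2 : Commute x ⁅x, q⁆ := by
      rw [h1]
      exact ((hbx.zpow_right l).mul_right (hexc.zpow_right i)).mul_right (M.ext.Z_comm hxS hζ)
    exact h2
  · intro q hq hxq
    obtain ⟨n, c, hc, hcQ, hxc, rfl⟩ := hkey q hq hxq
    exact hcentral n c hc hcQ hxc

/-- The group theoretic conclusion of case M. -/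
theorem concl (M : MDat p S Q E E1 a) (hy : y ∈ Q) (hya : ⁅y, a⁆ ≠ 1) (hyp : y ^ p = 1) :
    Nat.card Q = p ^ 5 ∧ (∀ q ∈ Q, q ^ p = 1) ∧ (Hyp4 p S Q ∨ HypG p S Q) := by
  refine ⟨M.card_Q_eq, fun q hq => M.pow_Q hy hya hyp hq, ?_⟩
  obtain ⟨x, hx, hxQ⟩ := M.exists_x
  have hxS := M.E_le (M.E1_le hx)
  have heQ := M.ext.comm_mem_Q hxS hy
  have heE := M.xy_mem hx hy
  obtain ⟨hk'1, hk'Q⟩ := M.xe_mem hx heE heQ
  by_cases ha' : ⁅x, ⁅x, ⁅x, y⁆⁆⁆ = 1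
  · left
    -- k' = ⁅x, e⁆ is central in Q
    set e := ⁅x, y⁆ with he
    set k' := ⁅x, e⁆ with hk'
    have h1 : ⁅e, k'⁆ = 1 := by
      have h1 := M.ext.invar hxS hy hk'Q
      rw [conj_eq x y, conj_eq x k', ha', one_mul, ← he, M.ext.bil_left heQ hy hk'Q] at h1
      exact mul_eq_right.1 h1
    have h2 : ⁅y, k'⁆ = 1 := by
      have h2 := M.ext.invar hxS hy heQ
      rw [conj_eq x y, conj_eq x e, ← he, ← hk', M.ext.bil_left heQ hy (Q.mul_mem hk'Q heQ),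
        M.ext.bil_right heQ hk'Q heQ, M.ext.bil_right hy hk'Q heQ, h1, commutatorElement_self,
        mul_one, one_mul] at h2
      exact mul_eq_right.1 h2
    obtain ⟨k, hk, hkQ, hxk⟩ := M.exists_k hx hxQ
    have hek : ⁅e, k⁆ ≠ 1 := M.ek hx hy hya hk hkQ hxk
    have hk'Z : k' ∈ ZQ Q := by
      rw [mem_ZQ]
      refine ⟨hk'Q, fun q hq => ?_⟩
      obtain ⟨i, hi⟩ := M.exists_y_zpow hy hya hq
      obtain ⟨n, hn⟩ := M.index1 e heE (M.e_not hx hxQ hy hya) _ hi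
      have hqn : q * y ^ i * e ^ n ∈ Q := Q.mul_mem (Q.mul_mem hq (Q.zpow_mem hy i))
        (Q.zpow_mem heQ n)
      have c1 : Commute (q * y ^ i * e ^ n) k' := M.K_comm hn hqn hk'1 hk'Q
      have c2 : Commute e k' := comm_eq_one.1 h1
      have c3 : Commute y k' := comm_eq_one.1 h2
      have h3 : q = (q * y ^ i * e ^ n) * (e ^ n)⁻¹ * (y ^ i)⁻¹ := by group
      rw [h3]
      exact (c1.mul_left (c2.zpow_left n).inv_left).mul_left (c3.zpow_left i).inv_left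
    -- adjust x
    obtain ⟨m, hm⟩ := M.ext.Z_gen (M.ext.cm hkQ heQ) (by
      intro h
      apply hek
      rw [← commutatorElement_inv, h, inv_one]) ((ZQ Q).inv_mem hk'Z)
    have hx' : x * k ^ m ∈ E1 := E1.mul_mem hx (E1.zpow_mem hk m)
    have hx'Q : x * k ^ m ∉ Q := by
      intro h
      apply hxQ
      have := Q.mul_mem h (Q.inv_mem (Q.zpow_mem hkQ m))
      rwa [mul_inv_cancel_right] at this
    have hx'e : ⁅x * k ^ m, e⁆ = 1 := by
      rw [comm_mul_left, M.ext.zpow_left hkQ heQ, hm, ← hk', M.ext.conj_Z hxS ((ZQ Q).inv_mem hk'Z),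
        inv_mul_cancel]
    obtain ⟨ζ, hζ, hζe⟩ : ∃ ζ ∈ ZQ Q, ⁅x * k ^ m, y⁆ = ζ * e := by
      refine ⟨⁅k ^ m, y⁆, M.ext.cm (Q.zpow_mem hkQ m) hy, ?_⟩
      rw [comm_mul_left, M.ext.conj_Z hxS (M.ext.cm (Q.zpow_mem hkQ m) hy)]
    refine M.hyp4 hx' hx'Q hy hya hyp ?_
    rw [hζe, comm_eq_one]
    have c1 : Commute (x * k ^ m) ζ := M.ext.Z_comm (M.E_le (M.E1_le hx')) hζ
    exact c1.mul_right (comm_eq_one.1 hx'e)
  · right
    have ha1 := M.xk_mem hx hk'1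
    refine ⟨x, hxS, hxQ, M.pow_E1 hx, y, hy, _, _, _, rfl, rfl, rfl, ?_, ?_⟩
    · exact fun h => ha' (M.inter ha1 h)
    · obtain ⟨j, hj⟩ := Subgroup.mem_zpowers_iff.1 ha1
      show x * ⁅x, ⁅x, ⁅x, y⁆⁆⁆ = ⁅x, ⁅x, ⁅x, y⁆⁆⁆ * x
      rw [← hj]
      exact (show Commute x a from M.comm_a x (M.E1_le hx)).zpow_right j

end MDat

end Cfsg.Agent.H764
end

-- part: H764/CaseMF
section
/-!
# S5177, case M: the fusion part (helper764)
-/

set_option autoImplicit false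
set_option linter.unusedSectionVars false

namespace Cfsg.Agent.H764

open Cfsg Cfsg.FusionSystem Cfsg.Agent.H802
open scoped commutatorElement

variable {Ω : Type*} [Group Ω] {S Q E : Subgroup Ω} {p : ℕ} [hp : Fact p.Prime] [Finite S]
  {F : FusionSystem S}

namespace Dat

/-- all nontrivial elements of `Z` are moved. -/
theorem moved (D : Dat p F Q E) {β : MulAut E} {z : E} (hz : (z : Ω) ∈ ZQ Q)
    (hm : ((β z : E) : Ω) ∉ ZQ Q) {w : E} (hw : (w : Ω) ∈ ZQ Q) (hw1 : w ≠ 1) :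
    ((β w : E) : Ω) ∉ ZQ Q := by
  intro h
  obtain ⟨i, hi⟩ := D.gen hw hw1 hz
  apply hm
  rw [← hi, map_zpow, Subgroup.coe_zpow]
  exact (ZQ Q).zpow_mem h i

theorem inv_moved (D : Dat p F Q E) {β : MulAut E} {z : E} (hz : (z : Ω) ∈ ZQ Q)
    (hm : ((β z : E) : Ω) ∉ ZQ Q) {w : E} (hw : (w : Ω) ∈ ZQ Q) (hw1 : w ≠ 1) :
    ((β⁻¹ w : E) : Ω) ∉ ZQ Q := by
  intro h
  have h1 : β⁻¹ w ≠ 1 := fun h2 => hw1 (by
    have := congrArg β h2
    rwa [MulAut.apply_inv_self, map_one] at this)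
  have := D.moved hz hm h h1
  rw [MulAut.apply_inv_self] at this
  exact this hw

theorem comm_a (D : Dat p F Q E) (β : MulAut E) {z : E} (hz : (z : Ω) ∈ ZQ Q) {e : Ω}
    (he : e ∈ E) : e * (β z : E) = (β z : E) * e :=
  congrArg Subtype.val (D.central β hz ⟨e, he⟩)

/-- If a moved image lies in `Q`, the centre of `E` lies in `Q`. -/
theorem center_le (D : Dat p F Q E) {α : MulAut E} (hα : α ∈ F.autGroup E) {z : E}
    (hz : (z : Ω) ∈ ZQ Q) (hm : ((α z : E) : Ω) ∉ ZQ Q) (haQ : ((α z : E) : Ω) ∈ Q) {c : E}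
    (hc : ∀ e : E, e * c = c * e) : (c : Ω) ∈ Q := by
  by_contra hcQ
  obtain ⟨u, hu, v, hv, hua, hva, huv⟩ := D.ext.exists_noncomm_centralizer D.card_Q haQ
  have huE := D.mem_of_comm hα hz hm (D.ext.le hu) hua
  have hvE := D.mem_of_comm hα hz hm (D.ext.le hv) hva
  have hES := D.setup.le_S
  have key : ∀ r s : E, ((⁅r, s⁆ : E) : Ω) ∈ ZQ Q := by
    intro r s
    obtain ⟨i, hi⟩ := D.ext.exists_zpow (hES c.2) hcQ (hES r.2)
    obtain ⟨j, hj⟩ := D.ext.exists_zpow (hES c.2) hcQ (hES s.2)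
    have h1 : ⁅r * c ^ i, s * c ^ j⁆ = ⁅r, s⁆ := by
      have cr : Commute c r := (hc r).symm
      have cs : Commute c s := (hc s).symm
      have h2 : Commute (c ^ i) (s * c ^ j) := (cs.zpow_left i).mul_right
        ((Commute.refl c).zpow_zpow i j)
      have h3 : Commute (c ^ j) r := cr.zpow_left j
      rw [comm_mul_left, comm_eq_one.2 h2, mul_one, mul_inv_cancel, one_mul, comm_mul_right,
        comm_eq_one.2 h3.symm, mul_one, mul_inv_cancel, mul_one]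
    rw [← h1]
    exact D.ext.cm hi hj
  have h2 : ⁅(⟨u, huE⟩ : E), (⟨v, hvE⟩ : E)⁆ ≠ 1 := by
    intro h3
    rw [commutatorElement_eq_one_iff_mul_comm] at h3
    exact huv (congrArg Subtype.val h3)
  obtain ⟨i, hi⟩ := D.gen (key _ _) h2 hz
  apply hm
  rw [← hi, map_zpow, map_commutatorElement, Subgroup.coe_zpow]
  exact (ZQ Q).zpow_mem (key _ _) _

/-- The subgroup `α(E ∩ Q)`. -/
def img (α : MulAut E) (Q : Subgroup Ω) : Subgroup Ω :=
  ((Q.subgroupOf E).map α.toMonoidHom).map E.subtype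

theorem mem_img {α : MulAut E} {u : Ω} : u ∈ img α Q ↔ ∃ r : E, (r : Ω) ∈ Q ∧ ((α r : E) : Ω) = u := by
  constructor
  · rintro ⟨_, ⟨r, hr, rfl⟩, rfl⟩
    exact ⟨r, hr, rfl⟩
  · rintro ⟨r, hr, rfl⟩
    exact ⟨α r, ⟨r, hr, rfl⟩, rfl⟩

theorem index_le (D : Dat p F Q E) : (Q.subgroupOf E).index ≤ p := by
  have hnorm : (Q.subgroupOf S).Normal := ⟨fun q hq g => D.ext.conj_mem g.2 hq⟩
  let φ : E →* S ⧸ Q.subgroupOf S :=
    (QuotientGroup.mk' (Q.subgroupOf S)).comp (Subgroup.inclusion D.setup.le_S)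
  have h1 : Q.subgroupOf E = φ.ker := by
    ext e
    rw [MonoidHom.mem_ker]
    show (e : Ω) ∈ Q ↔ ((Subgroup.inclusion D.setup.le_S e : S) : S ⧸ Q.subgroupOf S) = 1
    rw [QuotientGroup.eq_one_iff]
    rfl
  rw [h1, Subgroup.index_ker]
  refine (Subgroup.card_le_card_group _).trans ?_
  rw [← Subgroup.index_eq_card, D.ext.index]

theorem mdat (D : Dat p F Q E) {α : MulAut E} (hα : α ∈ F.autGroup E) {z : E}
    (hz : (z : Ω) ∈ ZQ Q) (hm : ((α z : E) : Ω) ∉ ZQ Q) (haQ : ((α z : E) : Ω) ∈ Q) :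
    MDat p S Q E (img α Q) ((α z : E) : Ω) where
  ext := D.ext
  card_Q := D.card_Q
  E_le := D.setup.le_S
  E1_le := by
    intro u hu
    obtain ⟨r, -, rfl⟩ := mem_img.1 hu
    exact (α r).2
  a_mem := haQ
  a_not := hm
  a_pow := by
    have h1 : z ^ p = 1 := Subtype.ext (D.ext.Z_pow hz)
    have h2 : (α z) ^ p = 1 := by rw [← map_pow, h1, map_one]
    exact congrArg Subtype.val h2
  comm_a := fun e he => D.comm_a α hz he
  mem_E := fun g hg h => D.mem_of_comm hα hz hm hg h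
  comm1 := by
    intro u hu v hv
    obtain ⟨r, hr, rfl⟩ := mem_img.1 hu
    obtain ⟨s, hs, rfl⟩ := mem_img.1 hv
    have h1 : ((⁅r, s⁆ : E) : Ω) ∈ ZQ Q := D.ext.cm hr hs
    obtain ⟨i, hi⟩ := D.gen hz (ne_one hm) h1
    refine Subgroup.mem_zpowers_iff.2 ⟨i, ?_⟩
    have h2 : (α z) ^ i = ⁅α r, α s⁆ := by rw [← map_zpow, hi, map_commutatorElement]
    have := congrArg Subtype.val h2
    rwa [Subgroup.coe_zpow] at this
  conj1 := by
    intro g hg u hu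
    obtain ⟨r, hr, rfl⟩ := mem_img.1 hu
    rw [mem_img]
    refine ⟨α⁻¹ ⟨g, hg⟩ * r * (α⁻¹ ⟨g, hg⟩)⁻¹, D.ext.conj_mem (D.setup.le_S (α⁻¹ _).2) hr, ?_⟩
    rw [map_mul, map_mul, map_inv, MulAut.apply_inv_self]
    rfl
  a1 := mem_img.2 ⟨z, ZQ_le Q hz, rfl⟩
  Z1 := by
    intro w hw
    have hwE : w ∈ E := D.setup.Y_le hw
    refine mem_img.2 ⟨α⁻¹ ⟨w, hwE⟩, ?_, ?_⟩
    · exact D.center_le hα hz hm haQ (fun e => D.central α⁻¹ (z := ⟨w, hwE⟩) hw e)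
    · rw [MulAut.apply_inv_self]
  index1 := by
    intro c hc hc1 u hu
    have hcQ : ((α⁻¹ ⟨c, hc⟩ : E) : Ω) ∉ Q := by
      intro h
      exact hc1 (mem_img.2 ⟨_, h, by rw [MulAut.apply_inv_self]⟩)
    obtain ⟨i, hi⟩ := D.ext.exists_zpow (D.setup.le_S (α⁻¹ ⟨c, hc⟩).2) hcQ
      (D.setup.le_S (α⁻¹ ⟨u, hu⟩).2)
    refine ⟨i, mem_img.2 ⟨α⁻¹ ⟨u, hu⟩ * (α⁻¹ ⟨c, hc⟩) ^ i, hi, ?_⟩⟩
    rw [map_mul, map_zpow, MulAut.apply_inv_self, MulAut.apply_inv_self]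
    rfl
  noncomm1 := by
    obtain ⟨u, hu, v, hv, hua, hva, huv⟩ := D.ext.exists_noncomm_centralizer D.card_Q haQ
    have huE := D.mem_of_comm hα hz hm (D.ext.le hu) hua
    have hvE := D.mem_of_comm hα hz hm (D.ext.le hv) hva
    refine ⟨_, mem_img.2 ⟨⟨u, huE⟩, hu, rfl⟩, _, mem_img.2 ⟨⟨v, hvE⟩, hv, rfl⟩, fun h => huv ?_⟩
    have h1 : α ⟨u, huE⟩ * α ⟨v, hvE⟩ = α ⟨v, hvE⟩ * α ⟨u, huE⟩ := Subtype.ext h
    rw [← map_mul, ← map_mul] at h1
    exact congrArg Subtype.val (α.injective h1)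
  card1 := by
    have hfinE : Finite E := finite_of_le D.setup.le_S
    set A0 := Q.subgroupOf E with hA0
    have hidx : (A0.map α.toMonoidHom).index = A0.index :=
      Subgroup.index_map_of_bijective α.bijective _
    have h1 : (A0 ⊓ A0.map α.toMonoidHom).index ≤ A0.index * A0.index := by
      refine (Subgroup.index_inf_le).trans ?_
      rw [hidx]
    have h2 := (A0 ⊓ A0.map α.toMonoidHom).index_mul_card
    have h3 := A0.index_mul_card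
    have h4 : Nat.card A0 ≤ A0.index * Nat.card (A0 ⊓ A0.map α.toMonoidHom : Subgroup E) := by
      have hpos : 0 < A0.index := Nat.pos_of_ne_zero Subgroup.index_ne_zero_of_finite
      apply Nat.le_of_mul_le_mul_left _ hpos
      calc A0.index * Nat.card A0 = Nat.card E := h3
        _ = (A0 ⊓ A0.map α.toMonoidHom).index *
            Nat.card (A0 ⊓ A0.map α.toMonoidHom : Subgroup E) := h2.symm
        _ ≤ (A0.index * A0.index) * Nat.card (A0 ⊓ A0.map α.toMonoidHom : Subgroup E) :=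
          Nat.mul_le_mul_right _ h1
        _ = _ := by ring
    have h5 : Nat.card (E ⊓ Q : Subgroup Ω) = Nat.card A0 := by
      have : (E ⊓ Q).subgroupOf E = A0 := by
        rw [hA0, Subgroup.inf_subgroupOf_left]
      rw [← this]
      exact Nat.card_congr (Subgroup.subgroupOfEquivOfLe inf_le_left).symm.toEquiv
    have h6 : Nat.card (img α Q ⊓ Q : Subgroup Ω) =
        Nat.card (A0 ⊓ A0.map α.toMonoidHom : Subgroup E) := by
      have hle : img α Q ⊓ Q ≤ E := by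
        intro u hu
        obtain ⟨r, -, rfl⟩ := mem_img.1 hu.1
        exact (α r).2
      have : (img α Q ⊓ Q).subgroupOf E = A0 ⊓ A0.map α.toMonoidHom := by
        ext e
        rw [Subgroup.mem_subgroupOf, Subgroup.mem_inf, mem_img, Subgroup.mem_inf]
        constructor
        · rintro ⟨⟨r, hr, hre⟩, h⟩
          exact ⟨h, ⟨r, hr, Subtype.ext hre⟩⟩
        · rintro ⟨h, ⟨r, hr, rfl⟩⟩
          exact ⟨⟨r, hr, rfl⟩, h⟩
      rw [← this]
      exact Nat.card_congr (Subgroup.subgroupOfEquivOfLe hle).symm.toEquiv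
    rw [h5, h6]
    exact h4.trans (Nat.mul_le_mul_right _ D.index_le)
  pow1 := by
    intro u hu
    obtain ⟨r, hr, rfl⟩ := mem_img.1 hu
    have h1 : ((r ^ p : E) : Ω) ∈ ZQ Q := D.ext.pow_mem hr
    obtain ⟨i, hi⟩ := D.gen hz (ne_one hm) h1
    refine Subgroup.mem_zpowers_iff.2 ⟨i, ?_⟩
    have h2 : (α z) ^ i = (α r) ^ p := by rw [← map_zpow, hi, map_pow]
    have := congrArg Subtype.val h2
    rwa [Subgroup.coe_zpow] at this
  pow_iff := by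
    intro h u hu
    obtain ⟨r, hr, rfl⟩ := mem_img.1 hu
    have h1 : r ^ p = 1 := Subtype.ext (h r r.2 hr)
    have h2 : (α r) ^ p = 1 := by rw [← map_pow, h1, map_one]
    exact congrArg Subtype.val h2

/-- `⁅g, a⁆ ∈ Z` for all `g ∈ S`. -/
theorem comm_a_mem (D : Dat p F Q E) {α : MulAut E} (hα : α ∈ F.autGroup E) {z : E}
    (hz : (z : Ω) ∈ ZQ Q) (hm : ((α z : E) : Ω) ∉ ZQ Q) (haQ : ((α z : E) : Ω) ∈ Q) {g : Ω}
    (hg : g ∈ S) : ⁅g, ((α z : E) : Ω)⁆ ∈ ZQ Q := by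
  obtain ⟨c, hcE, hcQ⟩ : ∃ c ∈ E, c ∉ Q := by
    by_contra hcon
    push Not at hcon
    exact D.not_le hα hz hm hcon
  obtain ⟨i, hi⟩ := D.ext.exists_zpow (D.setup.le_S hcE) hcQ hg
  have h1 : g = (g * c ^ i) * c ^ (-i) := by rw [zpow_neg]; group
  have h2 : ⁅c ^ (-i), ((α z : E) : Ω)⁆ = 1 := by
    rw [comm_eq_one]
    exact (show Commute c ((α z : E) : Ω) from D.comm_a α hz hcE).zpow_left _
  rw [h1, comm_mul_left, h2, mul_one, mul_inv_cancel, one_mul]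
  exact D.ext.cm hi haQ

/-- `S` normalizes `E`. -/
theorem normalizer_eq (D : Dat p F Q E) {α : MulAut E} (hα : α ∈ F.autGroup E) {z : E}
    (hz : (z : Ω) ∈ ZQ Q) (hm : ((α z : E) : Ω) ∉ ZQ Q) (haQ : ((α z : E) : Ω) ∈ Q) :
    normalizerIn S E = S := by
  have hconj : ∀ g ∈ S, ∀ e ∈ E, g * e * g⁻¹ ∈ E := by
    intro g hg e he
    have heS := D.setup.le_S he
    refine D.mem_of_comm hα hz hm (S.mul_mem (S.mul_mem hg heS) (S.inv_mem hg)) ?_
    set a := ((α z : E) : Ω) with ha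
    have h1 := D.comm_a_mem hα hz hm haQ (S.inv_mem hg)
    -- g⁻¹ a g = ζ a
    have h2 : g⁻¹ * a * g = ⁅g⁻¹, a⁆ * a := by
      have := conj_eq g⁻¹ a
      rwa [inv_inv] at this
    have c1 : Commute e ⁅g⁻¹, a⁆ := D.ext.Z_comm heS h1
    have c2 : Commute e a := D.comm_a α hz he
    have c3 : Commute e (g⁻¹ * a * g) := by rw [h2]; exact c1.mul_right c2
    have h3 : g * e * g⁻¹ * a = g * (e * (g⁻¹ * a * g)) * g⁻¹ := by group
    rw [h3, c3.eq]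
    group
  refine inf_eq_left.2 fun g hg => Subgroup.mem_normalizer_iff.2 fun x => ⟨hconj g hg x, fun hx => ?_⟩
  have h1 := hconj g⁻¹ (S.inv_mem hg) _ hx
  have h2 : g⁻¹ * (g * x * g⁻¹) * g⁻¹⁻¹ = x := by group
  rwa [h2] at h1

/-- Case M: `y ^ p = 1`. -/
theorem y_pow (D : Dat p F Q E) {α : MulAut E} (hα : α ∈ F.autGroup E) {z : E}
    (hz : (z : Ω) ∈ ZQ Q) (hm : ((α z : E) : Ω) ∉ ZQ Q) (haQ : ((α z : E) : Ω) ∈ Q) {y : Ω}
    (hy : y ∈ Q) (hya : ⁅y, ((α z : E) : Ω)⁆ ≠ 1) : y ^ p = 1 := by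
  have M := D.mdat hα hz hm haQ
  have hES := D.setup.le_S
  have hyS := D.ext.le hy
  have hNS := D.normalizer_eq hα hz hm haQ
  have hnorm : ∀ g ∈ S, g ∈ Subgroup.normalizer (E : Set Ω) := by
    intro g hg
    rw [← hNS] at hg
    exact hg.2
  have hfinE : Finite E := finite_of_le hES
  obtain ⟨a, ha⟩ : ∃ a : E, a = α z := ⟨_, rfl⟩
  rw [← ha] at hya hm haQ M
  have hz1Z : ⁅y, (a : Ω)⁆ ∈ ZQ Q := D.ext.cm hy haQ
  obtain ⟨z1, hz1⟩ : ∃ z1 : E, (z1 : Ω) = ⁅y, (a : Ω)⁆ := ⟨⟨_, D.setup.Y_le hz1Z⟩, rfl⟩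
  have hz1Z' : (z1 : Ω) ∈ ZQ Q := by rw [hz1]; exact hz1Z
  have hz11 : z1 ≠ 1 := by
    intro h
    apply hya
    rw [← hz1, h]
    rfl
  have hap : a ^ p = 1 := Subtype.ext M.a_pow
  have hzp : z1 ^ p = 1 := Subtype.ext (D.ext.Z_pow hz1Z')
  have haz : a * z1 = z1 * a := Subtype.ext (D.ext.Z_comm (hES a.2) hz1Z')
  -- t
  obtain ⟨t, ht⟩ := exists_conjAut (hnorm y hyS)
  have htS : t ∈ autInducedBy S E := (mem_autInducedBy_iff S E t).2 ⟨y, hyS, ht⟩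
  have htF : t ∈ F.autGroup E := autInducedBy_le_autGroup F hES htS
  have htZ : ∀ w : E, (w : Ω) ∈ ZQ Q → t w = w := fun w hw => Subtype.ext (by
    rw [ht, D.ext.conj_Z hyS hw])
  have hta : t a = a * z1 := by
    apply Subtype.ext
    rw [ht, conj_eq, Subgroup.coe_mul, hz1]
    exact (D.ext.Z_comm (hES a.2) hz1Z).symm
  have htz : t z1 = z1 := htZ z1 hz1Z'
  -- s
  obtain ⟨s, hs⟩ : ∃ s : MulAut E, s = α * t * α⁻¹ := ⟨_, rfl⟩
  have hsF : s ∈ F.autGroup E := by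
    rw [hs]
    exact mul_mem (mul_mem hα htF) (inv_mem hα)
  have hsa : s a = a := by
    rw [hs, MulAut.mul_apply, MulAut.mul_apply, ha, MulAut.inv_apply_self, htZ z hz]
  have hm' : ((α z : E) : Ω) ∉ ZQ Q := by rw [← ha]; exact hm
  have haQ' : ((α z : E) : Ω) ∈ Q := by rw [← ha]; exact haQ
  have hwQ : ((α⁻¹ z1 : E) : Ω) ∈ Q :=
    D.center_le hα hz hm' haQ' (fun e => D.central α⁻¹ hz1Z' e)
  obtain ⟨k, hk⟩ : ∃ k : ℤ, z ^ k = ⟨⁅y, ((α⁻¹ z1 : E) : Ω)⁆, D.setup.Y_le (D.ext.cm hy hwQ)⟩ :=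
    D.gen hz (ne_one hm') (D.ext.cm hy hwQ)
  have hsz : s z1 = z1 * a ^ k := by
    have h1 : t (α⁻¹ z1) = z ^ k * α⁻¹ z1 := by
      apply Subtype.ext
      rw [ht, conj_eq, Subgroup.coe_mul, hk]
    rw [hs, MulAut.mul_apply, MulAut.mul_apply, h1, map_mul, MulAut.apply_inv_self, map_zpow, ← ha]
    exact ((show Commute a z1 from haz).zpow_left k).eq
  have hkp : ¬ (p : ℤ) ∣ k := by
    intro hd
    have h1 : z ^ k = 1 := zpow_eq_one_of_dvd (Subtype.ext (D.ext.Z_pow hz)) hd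
    rw [h1] at hk
    have h2 : ⁅y, ((α⁻¹ z1 : E) : Ω)⁆ = 1 := (congrArg Subtype.val hk).symm
    have h3 := D.mem_of_comm (inv_mem hα) hz1Z' (D.inv_moved hz hm' hz1Z' hz11) hyS
      (comm_eq_one.1 h2)
    apply hya
    rw [comm_eq_one]
    exact M.comm_a y h3
  obtain ⟨n, hnF, hna, hnz, -⟩ := exists_torus (G := F.autGroup E) htF hsF haz hap hta htz hsa hsz hkp
    (u := -1) (u' := -1) hzp (by norm_num)
  rw [zpow_neg_one] at hna hnz
  -- the group X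
  have hninv : ∀ w : E, n w = w⁻¹ → n⁻¹ w = w⁻¹ := by
    intro w hw
    apply n.injective
    rw [MulAut.apply_inv_self, map_inv, hw, inv_inv]
  let X : Subgroup (MulAut E) :=
    { carrier := {γ | γ ∈ F.autGroup E ∧ γ z1 = z1 ∧ ∃ i : ℤ, γ a = a * z1 ^ i}
      one_mem' := ⟨one_mem _, rfl, 0, by simp⟩
      mul_mem' := by
        rintro γ δ ⟨h1, h2, i, h3⟩ ⟨h4, h5, j, h6⟩
        refine ⟨mul_mem h1 h4, by rw [MulAut.mul_apply, h5, h2], i + j, ?_⟩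
        rw [MulAut.mul_apply, h6, map_mul, map_zpow, h2, h3, zpow_add, mul_assoc]
      inv_mem' := by
        rintro γ ⟨h1, h2, i, h3⟩
        have h4 : γ⁻¹ z1 = z1 := by
          apply γ.injective
          rw [MulAut.apply_inv_self, h2]
        refine ⟨inv_mem h1, h4, -i, ?_⟩
        apply γ.injective
        rw [MulAut.apply_inv_self, map_mul, map_zpow, h2, h3, zpow_neg]
        group }
  have hSX : autInducedBy S E ≤ X := by
    intro γ hγ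
    refine ⟨autInducedBy_le_autGroup F hES hγ, ?_, ?_⟩
    · obtain ⟨g, hg, he⟩ := (mem_autInducedBy_iff S E γ).1 hγ
      apply Subtype.ext
      rw [he, D.ext.conj_Z hg hz1Z']
    · obtain ⟨g, hg, he⟩ := (mem_autInducedBy_iff S E γ).1 hγ
      have h1 : ⁅g, (a : Ω)⁆ ∈ ZQ Q := by
        rw [ha]
        exact D.comm_a_mem hα hz hm' haQ' hg
      obtain ⟨i, hi⟩ := D.gen hz1Z' hz11 (w := ⟨_, D.setup.Y_le h1⟩) h1
      refine ⟨i, ?_⟩
      apply Subtype.ext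
      rw [he, conj_eq, hi, Subgroup.coe_mul]
      exact (D.ext.Z_comm (hES a.2) h1).symm
  have hKX : (autInducedBy S E).map (MulAut.conj n).toMonoidHom ≤ X := by
    rintro _ ⟨γ, hγ, rfl⟩
    obtain ⟨h1, h2, i, h3⟩ := hSX hγ
    show n * γ * n⁻¹ ∈ X
    refine ⟨mul_mem (mul_mem hnF h1) (inv_mem hnF), ?_, i, ?_⟩
    · rw [MulAut.mul_apply, MulAut.mul_apply, hninv z1 hnz, map_inv, h2, map_inv, hnz, inv_inv]
    · rw [MulAut.mul_apply, MulAut.mul_apply, hninv a hna, map_inv, h3, map_inv, map_mul, map_zpow,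
        hna, hnz, mul_inv_rev, inv_inv, inv_zpow, inv_inv]
      exact ((show Commute a z1 from haz).zpow_right i).eq.symm
  obtain ⟨δ, hδX, hδ⟩ := exists_conj_mem_of_le D.pg D.sat D.setup.fullyNormalized hSX
    (fun γ hγ => hγ.1) hKX ((isPGroup_autInducedBy D.pg E).map _)
  obtain ⟨hδF, hδz, i, hδa⟩ := hδX
  have hti : ∀ m : ℤ, (t ^ m) a = a * z1 ^ m := pow_transvection hta htz
  have htzi : ∀ m : ℤ, (t ^ m) z1 = z1 := fun m =>
    (MulAction.stabilizer (MulAut E) z1).zpow_mem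
      (show t ∈ MulAction.stabilizer (MulAut E) z1 from htz) m
  set n' : MulAut E := t ^ (-i) * δ * n with hn'
  have hn'F : n' ∈ F.autGroup E := mul_mem (mul_mem (zpow_mem htF _) hδF) hnF
  have hn'z : n' z1 = z1⁻¹ := by
    rw [hn', MulAut.mul_apply, MulAut.mul_apply, hnz, map_inv, hδz, map_inv, htzi]
  have hn'a : n' a = a⁻¹ := by
    rw [hn', MulAut.mul_apply, MulAut.mul_apply, hna, map_inv, hδa, map_inv, map_mul, map_zpow,
      htzi, hti, zpow_neg]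
    group
  have hn'S : ∀ γ ∈ autInducedBy S E, n' * γ * n'⁻¹ ∈ autInducedBy S E := by
    intro γ hγ
    have h1 := hδ _ ⟨γ, hγ, rfl⟩
    have h2 : n' * γ * n'⁻¹ = t ^ (-i) * (δ * (MulAut.conj n).toMonoidHom γ * δ⁻¹) * (t ^ (-i))⁻¹ := by
      show n' * γ * n'⁻¹ = t ^ (-i) * (δ * (n * γ * n⁻¹) * δ⁻¹) * (t ^ (-i))⁻¹
      rw [hn']
      group
    rw [h2]
    exact mul_mem (mul_mem (zpow_mem htS _) h1) (inv_mem (zpow_mem htS _))
  have hext := exists_extension_of_normalizes D.pg D.sat D.setup.fullyNormalized hn'F hn'S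
  rw [hNS] at hext
  obtain ⟨τ, -, hτ⟩ := hext
  have hτa : τ ⟨a, hES a.2⟩ = (⟨a, hES a.2⟩ : S)⁻¹ := by
    apply Subtype.ext
    rw [hτ a a.2, show (⟨(a : Ω), a.2⟩ : E) = a from rfl, hn'a]
    rfl
  have hτz : τ ⟨z1, hES z1.2⟩ = (⟨z1, hES z1.2⟩ : S)⁻¹ := by
    apply Subtype.ext
    rw [hτ z1 z1.2, show (⟨(z1 : Ω), z1.2⟩ : E) = z1 from rfl, hn'z]
    rfl
  obtain ⟨x, hx, hxQ⟩ := M.exists_x
  have hτQ : ((τ ⟨y, hyS⟩ : S) : Ω) ∈ Q :=
    D.ext.apply_mem (hES (M.E1_le hx)) (fun R hR hc => M.star hx hxQ R hR hc) D.center.symm τ hy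
  obtain ⟨j, hj⟩ := M.exists_y_zpow hy hya hτQ
  set w := ((τ ⟨y, hyS⟩ : S) : Ω) * y ^ j with hw
  have hwQ' : w ∈ Q := Q.mul_mem hτQ (Q.zpow_mem hy j)
  have hτy : ((τ ⟨y, hyS⟩ : S) : Ω) = w * y ^ (-j) := by rw [hw, zpow_neg]; group
  -- compare commutators
  have hcomm : (⁅(⟨y, hyS⟩ : S), (⟨a, hES a.2⟩ : S)⁆) = ⟨z1, hES z1.2⟩ := Subtype.ext hz1.symm
  have h1 := congrArg τ hcomm
  rw [map_commutatorElement, hτa, hτz] at h1
  have h2 : ⁅((τ ⟨y, hyS⟩ : S) : Ω), (a : Ω)⁻¹⁆ = (z1 : Ω)⁻¹ := congrArg Subtype.val h1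
  rw [hτy, D.ext.bil_left hwQ' (Q.zpow_mem hy _) (Q.inv_mem haQ), D.ext.zpow_left hy (Q.inv_mem haQ)] at h2
  have h3 : ⁅w, (a : Ω)⁻¹⁆ = 1 := by
    rw [comm_eq_one]
    exact (show Commute w (a : Ω) from M.comm_a w hj).inv_right
  have h4 : ⁅y, (a : Ω)⁻¹⁆ = (z1 : Ω)⁻¹ := by
    have := D.ext.zpow_right haQ hy (-1)
    rwa [zpow_neg_one, zpow_neg_one, ← hz1] at this
  rw [h3, one_mul, h4, inv_zpow, zpow_neg, inv_inv] at h2
  have hjp : (p : ℤ) ∣ j + 1 := by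
    by_contra hcon
    obtain ⟨m, hm1⟩ := exists_mul_sub_one hcon
    apply hz11
    have h5 : (z1 : Ω) ^ ((j + 1) * m) = (z1 : Ω) ^ (1 : ℤ) :=
      zpow_eq_zpow_of_modEq (D.ext.Z_pow hz1Z') hm1
    rw [zpow_mul, zpow_add, h2, zpow_one, inv_mul_cancel, one_zpow] at h5
    exact Subtype.ext h5.symm
  -- p-th powers
  have hypZ := D.ext.pow_mem hy
  obtain ⟨m, hm1⟩ := D.ext.Z_gen hz1Z' (fun h => hz11 (Subtype.ext h)) hypZ
  have h5 : ((τ ⟨y, hyS⟩ : S) : Ω) ^ p = (y ^ p)⁻¹ := by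
    have h6 : (⟨y, hyS⟩ : S) ^ p = (⟨z1, hES z1.2⟩ : S) ^ m := Subtype.ext (by
      rw [Subgroup.coe_pow, Subgroup.coe_zpow]
      exact hm1.symm)
    have h7 := congrArg τ h6
    rw [map_pow, map_zpow, hτz] at h7
    have h8 := congrArg Subtype.val h7
    rw [Subgroup.coe_pow, Subgroup.coe_zpow, Subgroup.coe_inv, inv_zpow] at h8
    rw [h8]
    show ((z1 : Ω) ^ m)⁻¹ = (y ^ p)⁻¹
    rw [hm1]
  rw [hτy, D.ext.zpow_mul_pow hwQ' hy, M.pow_E0 hj hwQ', one_mul] at h5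
  have h6 : (y ^ p) ^ (-j) = y ^ p := by
    have : (y ^ p) ^ (-j) = (y ^ p) ^ (1 : ℤ) := by
      apply zpow_eq_zpow_of_modEq (D.ext.Z_pow hypZ)
      have : -j - 1 = -(j + 1) := by ring
      rw [this]
      exact (dvd_neg).2 hjp
    rw [this, zpow_one]
  rw [h6] at h5
  -- (y^p)^2 = 1, (y^p)^p = 1
  have h7 : (y ^ p) ^ 2 = 1 := by
    rw [sq]
    nth_rewrite 1 [h5]
    exact inv_mul_cancel _
  have h8 : (y ^ p) ^ p = 1 := D.ext.Z_pow hypZ
  obtain ⟨r, hr⟩ := D.ext.odd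
  calc y ^ p = (y ^ p) ^ (2 * r + 1) * ((y ^ p) ^ 2)⁻¹ ^ r := by
        rw [pow_succ, pow_mul, inv_pow]
        have hc : Commute (((y ^ p) ^ 2) ^ r) (y ^ p) := ((Commute.refl (y ^ p)).pow_left 2).pow_left r
        rw [hc.eq]
        group
    _ = 1 := by rw [← hr, h8, h7, inv_one, one_pow, one_mul]

/-- **Case M.** -/
theorem caseM (D : Dat p F Q E) {α : MulAut E} (hα : α ∈ F.autGroup E) {z : E}
    (hz : (z : Ω) ∈ ZQ Q) (hm : ((α z : E) : Ω) ∉ ZQ Q) (haQ : ((α z : E) : Ω) ∈ Q) :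
    Nat.card Q = p ^ 5 ∧ (∀ q ∈ Q, q ^ p = 1) ∧ (Hyp4 p S Q ∨ HypG p S Q) := by
  have M := D.mdat hα hz hm haQ
  obtain ⟨y, hy, hya⟩ := M.exists_y
  exact M.concl hy hya (D.y_pow hα hz hm haQ hy hya)

end Dat

end Cfsg.Agent.H764
end

-- part: H764/CaseI
section
/-!
# S5177, case I: no moved image lies in `Q` (helper764)
-/

set_option autoImplicit false
set_option linter.unusedSectionVars false

namespace Cfsg.Agent.H764

open Cfsg Cfsg.FusionSystem Cfsg.Agent.H802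
open scoped commutatorElement

variable {Ω : Type*} [Group Ω] {S Q E : Subgroup Ω} {p : ℕ} [hp : Fact p.Prime]
  {F : FusionSystem S}

/-- Iterated commutators with `x` eventually enter `Z`. -/
theorem exists_iterate [Finite S] (hS : IsPGroup p S) {x q : Ω} (hx : x ∈ S) (hq : q ∈ S)
    {Z : Set Ω} (h1 : (1 : Ω) ∈ Z) (hqZ : q ∉ Z) :
    ∃ n : ℕ, (fun r => ⁅x, r⁆)^[n] q ∉ Z ∧ (fun r => ⁅x, r⁆)^[n + 1] q ∈ Z := by
  have hmem : ∀ n : ℕ, (fun r => ⁅x, r⁆)^[n] q ∈ S.lowerCentralSeries n := by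
    intro n
    induction n with
    | zero => exact hq
    | succ n ih =>
      rw [Function.iterate_succ_apply', Subgroup.lowerCentralSeries_succ]
      show ⁅x, (fun r => ⁅x, r⁆)^[n] q⁆ ∈ _
      rw [← commutatorElement_inv]
      exact Subgroup.inv_mem _ (Subgroup.commutator_mem_commutator ih hx)
  have hnil : Group.IsNilpotent S := hS.isNilpotent
  obtain ⟨N, hN⟩ := Subgroup.isNilpotent_iff_lowerCentralSeries S |>.1 hnil
  have hex : ∃ n : ℕ, (fun r => ⁅x, r⁆)^[n] q ∈ Z := by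
    refine ⟨N, ?_⟩
    have := hmem N
    rw [hN, Subgroup.mem_bot] at this
    rw [this]
    exact h1
  classical
  have h2 := Nat.find_spec hex
  have h3 : Nat.find hex ≠ 0 := by
    intro h0
    rw [h0] at h2
    exact hqZ h2
  obtain ⟨m, hm⟩ := Nat.exists_eq_succ_of_ne_zero h3
  refine ⟨m, ?_, ?_⟩
  · exact Nat.find_min hex (by omega)
  · rw [hm] at h2
    exact h2

theorem iterate_mem [Finite S] (h : Ext p S Q) {x q : Ω} (hx : x ∈ S) (hq : q ∈ Q) (n : ℕ) :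
    (fun r => ⁅x, r⁆)^[n] q ∈ Q := by
  induction n with
  | zero => exact hq
  | succ n ih =>
    rw [Function.iterate_succ_apply']
    exact h.comm_mem_Q hx ih

theorem mem_normalizer_of_conj [Finite E] {g : Ω} (h : ∀ u ∈ E, g * u * g⁻¹ ∈ E) :
    g ∈ Subgroup.normalizer (E : Set Ω) := Subgroup.mem_normalizer_fintype (S := (E : Set Ω)) h

/-- Elements of `Q` acting trivially modulo `Z` under `x`. -/
theorem Ext.card_le_of_star [Finite S] (h : Ext p S Q) {x : Ω} {R : Subgroup Ω}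
    (hR : R ≤ Q) (hRZ : ∀ q ∈ R, ⁅x, q⁆ ∈ ZQ Q) :
    Nat.card R ≤ p * Nat.card (R ⊓ Subgroup.centralizer {x} : Subgroup Ω) := by
  have hfin : Finite Q := finite_of_le h.le
  have hfinR : Finite R := finite_of_le (S := Q) hR
  have hfinZ : Finite (ZQ Q) := finite_of_le (S := Q) (ZQ_le Q)
  let f : R →* ZQ Q :=
    { toFun := fun e => ⟨⁅x, (e : Ω)⁆, hRZ e e.2⟩
      map_one' := by ext; simp
      map_mul' := by
        intro b c
        apply Subtype.ext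
        show ⁅x, (b : Ω) * c⁆ = ⁅x, (b : Ω)⁆ * ⁅x, (c : Ω)⁆
        rw [comm_mul_right, h.conj_Z (h.le (hR b.2)) (hRZ c c.2)] }
  have h1 := f.ker.index_mul_card
  rw [Subgroup.index_ker] at h1
  have h2 : Nat.card f.range ≤ p := by
    have := Subgroup.card_le_card_group f.range
    rw [h.card_Z] at this
    exact this
  have h3 : f.ker = (R ⊓ Subgroup.centralizer {x}).subgroupOf R := by
    ext q
    rw [MonoidHom.mem_ker, Subgroup.mem_subgroupOf, Subgroup.mem_inf, Subgroup.mem_centralizer_iff]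
    constructor
    · intro hq
      refine ⟨q.2, fun b hb => ?_⟩
      rw [Set.mem_singleton_iff] at hb
      rw [hb]
      have h4 : ⁅x, (q : Ω)⁆ = 1 := congrArg Subtype.val hq
      exact comm_eq_one.1 h4
    · rintro ⟨-, hq⟩
      apply Subtype.ext
      show ⁅x, (q : Ω)⁆ = 1
      rw [comm_eq_one]
      exact hq x rfl
  rw [h3, Nat.card_congr (Subgroup.subgroupOfEquivOfLe inf_le_left).toEquiv] at h1
  rw [← h1]
  exact Nat.mul_le_mul_right _ h2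

/-- Case I. -/
structure IHyp (p : ℕ) {S : Subgroup Ω} (F : FusionSystem S) (Q E : Subgroup Ω) (α : MulAut E)
    (z : E) : Prop where
  D : Dat p F Q E
  hα : α ∈ F.autGroup E
  hz : (z : Ω) ∈ ZQ Q
  hm : ((α z : E) : Ω) ∉ ZQ Q
  hI : ∀ β ∈ F.autGroup E, ∀ w : E, (w : Ω) ∈ ZQ Q → ((β w : E) : Ω) ∈ Q → ((β w : E) : Ω) ∈ ZQ Q

namespace IHyp

variable [Finite S] {α : MulAut E} {z : E}

theorem x_not (H : IHyp p F Q E α z) : ((α z : E) : Ω) ∉ Q :=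
  fun h => H.hm (H.hI α H.hα z H.hz h)

theorem x_mem (H : IHyp p F Q E α z) : ((α z : E) : Ω) ∈ S := H.D.setup.le_S (α z).2

theorem z_ne (H : IHyp p F Q E α z) : z ≠ 1 := Dat.ne_one H.hm

theorem z_pow (H : IHyp p F Q E α z) : z ^ p = 1 := Subtype.ext (H.D.ext.Z_pow H.hz)

theorem x_pow (H : IHyp p F Q E α z) : (α z) ^ p = 1 := by rw [← map_pow, H.z_pow, map_one]

theorem index (H : IHyp p F Q E α z) (u : E) : ∃ i : ℤ, ((u * (α z) ^ i : E) : Ω) ∈ Q := by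
  obtain ⟨i, hi⟩ := H.D.ext.exists_zpow H.x_mem H.x_not (H.D.setup.le_S u.2)
  exact ⟨i, hi⟩

theorem comm_mem (H : IHyp p F Q E α z) (r s : E) : ((⁅r, s⁆ : E) : Ω) ∈ ZQ Q := by
  obtain ⟨i, hi⟩ := H.index r
  obtain ⟨j, hj⟩ := H.index s
  have h1 : ⁅r * (α z) ^ i, s * (α z) ^ j⁆ = ⁅r, s⁆ := by
    have cr : Commute (α z) r := (H.D.central α H.hz r).symm
    have cs : Commute (α z) s := (H.D.central α H.hz s).symm
    have h2 : Commute ((α z) ^ i) (s * (α z) ^ j) := (cs.zpow_left i).mul_right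
      ((Commute.refl (α z)).zpow_zpow i j)
    have h3 : Commute ((α z) ^ j) r := cr.zpow_left j
    rw [comm_mul_left, comm_eq_one.2 h2, mul_one, mul_inv_cancel, one_mul, comm_mul_right,
      comm_eq_one.2 h3.symm, mul_one, mul_inv_cancel, mul_one]
  rw [← h1]
  exact H.D.ext.cm hi hj

/-- `E` is abelian. -/
theorem comm (H : IHyp p F Q E α z) (u v : E) : u * v = v * u := by
  by_contra hne
  obtain ⟨i, hi⟩ := H.D.gen (H.comm_mem u v) (fun h => hne (comm_eq_one.1 h)) H.hz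
  apply H.hm
  rw [← hi, map_zpow, map_commutatorElement, Subgroup.coe_zpow]
  exact (ZQ Q).zpow_mem (H.comm_mem _ _) _

/-- `E` has exponent `p`. -/
theorem pow (H : IHyp p F Q E α z) (u : E) : u ^ p = 1 := by
  have key : ∀ u : E, ((u ^ p : E) : Ω) ∈ ZQ Q := by
    intro u
    obtain ⟨i, hi⟩ := H.index u
    have h1 : (u * (α z) ^ i) ^ p = u ^ p := by
      rw [(show Commute u ((α z) ^ i) from H.comm _ _).mul_pow, ← zpow_natCast ((α z) ^ i), ← zpow_mul,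
        mul_comm i, zpow_mul, zpow_natCast, H.x_pow, one_zpow, mul_one]
    rw [← h1]
    exact H.D.ext.pow_mem hi
  by_contra hne
  obtain ⟨i, hi⟩ := H.D.gen (key u) hne H.hz
  apply H.hm
  rw [← hi, map_zpow, map_pow, Subgroup.coe_zpow]
  exact (ZQ Q).zpow_mem (key _) _

theorem mem_of_comm (H : IHyp p F Q E α z) {g : Ω} (hg : g ∈ S)
    (hc : g * (α z : E) = (α z : E) * g) : g ∈ E := H.D.mem_of_comm H.hα H.hz H.hm hg hc

theorem comm_x (H : IHyp p F Q E α z) {g : Ω} (hg : g ∈ E) :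
    g * (α z : E) = (α z : E) * g := H.D.comm_a α H.hz hg

/-- An element `q ∈ Q` with `⁅x, q⁆ ∈ E` normalizes `E`. -/
theorem mem_normalizer (H : IHyp p F Q E α z) {q : Ω} (hq : q ∈ Q)
    (hxq : ⁅((α z : E) : Ω), q⁆ ∈ E) : q ∈ Subgroup.normalizer (E : Set Ω) := by
  have hfinE : Finite E := finite_of_le H.D.setup.le_S
  apply mem_normalizer_of_conj
  intro u hu
  set x := ((α z : E) : Ω) with hx
  have hxE : x ∈ E := (α z).2
  obtain ⟨i, hi⟩ := H.index ⟨u, hu⟩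
  have hi' : u * x ^ i ∈ Q := hi
  have h1 : q * x * q⁻¹ ∈ E := by
    have : q * x * q⁻¹ = ⁅x, q⁆⁻¹ * x := by
      rw [commutatorElement_inv]; exact conj_eq q x
    rw [this]
    exact E.mul_mem (E.inv_mem hxq) hxE
  have h2 : q * (u * x ^ i) * q⁻¹ ∈ E := by
    rw [conj_eq]
    exact E.mul_mem (H.D.setup.Y_le (H.D.ext.cm hq hi')) (E.mul_mem hu (E.zpow_mem hxE i))
  have h3 : q * u * q⁻¹ = (q * (u * x ^ i) * q⁻¹) * (q * x * q⁻¹) ^ (-i) := by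
    rw [conj_zpow, zpow_neg]; group
  rw [h3]
  exact E.mul_mem h2 (E.zpow_mem h1 _)

theorem comm_mem_of_normalizer (_H : IHyp p F Q E α z) {q : Ω}
    (hN : q ∈ Subgroup.normalizer (E : Set Ω)) : ⁅q, ((α z : E) : Ω)⁆ ∈ E := by
  have h1 := (Subgroup.mem_normalizer_iff.1 hN _).1 (α z).2
  exact E.mul_mem h1 (E.inv_mem (α z).2)

/-- `⁅q, u⁆ ∈ Z` for `u ∈ E` if `⁅q, x⁆ ∈ Z`. -/
theorem comm_mem_Z (H : IHyp p F Q E α z) {q : Ω} (hq : q ∈ Q)
    (hqx : ⁅q, ((α z : E) : Ω)⁆ ∈ ZQ Q) {u : Ω} (hu : u ∈ E) : ⁅q, u⁆ ∈ ZQ Q := by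
  set x := ((α z : E) : Ω) with hx
  have hxE : x ∈ E := (α z).2
  have hxS := H.x_mem
  obtain ⟨i, hi⟩ := H.index ⟨u, hu⟩
  have hi' : u * x ^ i ∈ Q := hi
  have h0 : u = (u * x ^ i) * x ^ (-i) := by rw [zpow_neg]; group
  have h1 : ⁅q, x ^ (-i)⁆ ∈ ZQ Q := by
    have h2 : q * x ^ (-i) * q⁻¹ = (⁅q, x⁆) ^ (-i) * x ^ (-i) := by
      rw [← conj_zpow, conj_eq]
      have hc : Commute ⁅q, x⁆ x := (H.D.ext.Z_comm hxS hqx).symm
      exact hc.mul_zpow _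
    have h3 : ⁅q, x ^ (-i)⁆ = (⁅q, x⁆) ^ (-i) := by
      rw [commutatorElement_def, h2]; group
    rw [h3]
    exact (ZQ Q).zpow_mem hqx _
  rw [h0, comm_mul_right, H.D.ext.conj_Z (H.D.ext.le hi') h1]
  exact (ZQ Q).mul_mem (H.D.ext.cm hq hi') h1

/-- If some `y₂ ∈ Q \ E` has `⁅y₂, x⁆ ∈ Z`, then all elements of `N_Q(E)` have this property. -/
theorem two (H : IHyp p F Q E α z) {y2 : Ω} (hy2 : y2 ∈ Q)
    (hy2x : ⁅y2, ((α z : E) : Ω)⁆ ∈ ZQ Q) (hy2E : y2 ∉ E) {y : Ω} (hy : y ∈ Q)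
    (hyN : y ∈ Subgroup.normalizer (E : Set Ω)) : ⁅y, ((α z : E) : Ω)⁆ ∈ ZQ Q := by
  by_contra hwZ
  have hES := H.D.setup.le_S
  have hfinE : Finite E := finite_of_le hES
  obtain ⟨x, hx⟩ : ∃ x : E, x = α z := ⟨_, rfl⟩
  rw [← hx] at hy2x hwZ
  have hxS : (x : Ω) ∈ S := hES x.2
  have hxp : x ^ p = 1 := by rw [hx]; exact H.x_pow
  have hwE : ⁅y, (x : Ω)⁆ ∈ E := by rw [hx]; exact H.comm_mem_of_normalizer hyN
  have hwQ : ⁅y, (x : Ω)⁆ ∈ Q := by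
    have h1 : ⁅y, (x : Ω)⁆ = y * ((x : Ω) * y⁻¹ * (x : Ω)⁻¹) := by rw [commutatorElement_def]; group
    rw [h1]
    exact Q.mul_mem hy (H.D.ext.conj_mem hxS (Q.inv_mem hy))
  obtain ⟨w, hw⟩ : ∃ w : E, (w : Ω) = ⁅y, (x : Ω)⁆ := ⟨⟨_, hwE⟩, rfl⟩
  rw [← hw] at hwQ hwZ
  obtain ⟨z', hz'⟩ : ∃ z' : E, (z' : Ω) = ⁅y2, (x : Ω)⁆ := ⟨⟨_, H.D.setup.Y_le hy2x⟩, rfl⟩
  have hz'Z : (z' : Ω) ∈ ZQ Q := by rw [hz']; exact hy2x
  have hz'1 : z' ≠ 1 := by
    intro h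
    apply hy2E
    apply H.mem_of_comm (H.D.ext.le hy2)
    rw [← hx, ← comm_eq_one, ← hz', h]
    rfl
  have hz'p : z' ^ p = 1 := H.pow z'
  -- automorphisms
  have hy2N : y2 ∈ Subgroup.normalizer (E : Set Ω) := by
    apply H.mem_normalizer hy2
    rw [← hx, ← commutatorElement_inv]
    exact E.inv_mem (H.D.setup.Y_le hy2x)
  obtain ⟨t, ht⟩ := exists_conjAut hy2N
  have htF : t ∈ F.autGroup E :=
    autInducedBy_le_autGroup F hES ((mem_autInducedBy_iff S E t).2 ⟨y2, H.D.ext.le hy2, ht⟩)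
  obtain ⟨c, hc⟩ := exists_conjAut hyN
  have hcF : c ∈ F.autGroup E :=
    autInducedBy_le_autGroup F hES ((mem_autInducedBy_iff S E c).2 ⟨y, H.D.ext.le hy, hc⟩)
  have htu : ∀ u : E, ∃ j : ℤ, t u = u * z ^ j := by
    intro u
    have h1 : ⁅y2, (u : Ω)⁆ ∈ ZQ Q := H.comm_mem_Z hy2 (by rw [← hx]; exact hy2x) u.2
    obtain ⟨j, hj⟩ := H.D.gen H.hz H.z_ne (w := ⟨_, H.D.setup.Y_le h1⟩) h1
    refine ⟨j, ?_⟩
    rw [H.comm, hj]
    apply Subtype.ext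
    rw [ht, conj_eq]
    rfl
  have htx : t x = x * z' := by
    rw [H.comm]
    apply Subtype.ext
    rw [ht, conj_eq, Subgroup.coe_mul, hz']
  have htZ : ∀ v : E, (v : Ω) ∈ ZQ Q → t v = v := fun v hv => Subtype.ext (by
    rw [ht, H.D.ext.conj_Z (H.D.ext.le hy2) hv])
  have hcx : c x = w * x := by
    apply Subtype.ext
    rw [hc, conj_eq, Subgroup.coe_mul, hw]
  have hcZ : ∀ v : E, (v : Ω) ∈ ZQ Q → c v = v := fun v hv => Subtype.ext (by
    rw [hc, H.D.ext.conj_Z (H.D.ext.le hy) hv])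
  -- t and c commute
  have htc : ∀ u : E, t (c u) = c (t u) := by
    intro u
    apply Subtype.ext
    rw [ht, hc, hc, ht]
    have h1 : ⁅y2, y⁆ ∈ ZQ Q := H.D.ext.cm hy2 hy
    have h2 : y2 * y = ⁅y2, y⁆ * (y * y2) := by rw [commutatorElement_def]; group
    have h3 : y * y2 * (u : Ω) * (y * y2)⁻¹ ∈ S := by
      exact S.mul_mem (S.mul_mem (S.mul_mem (H.D.ext.le hy) (H.D.ext.le hy2)) (hES u.2))
        (S.inv_mem (S.mul_mem (H.D.ext.le hy) (H.D.ext.le hy2)))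
    calc y2 * (y * (u : Ω) * y⁻¹) * y2⁻¹ = (y2 * y) * u * (y2 * y)⁻¹ := by group
      _ = ⁅y2, y⁆ * (y * y2 * (u : Ω) * (y * y2)⁻¹) * ⁅y2, y⁆⁻¹ := by rw [h2]; group
      _ = y * y2 * (u : Ω) * (y * y2)⁻¹ := by
        rw [← H.D.ext.Z_comm h3 h1]; group
      _ = _ := by group
  have htw : t w = w := by
    have h1 := htc x
    rw [hcx, htx, map_mul, map_mul, htx, hcx, hcZ z' hz'Z] at h1
    -- t w * (x z') = w x z'
    have h2 : t w * (x * z') = w * (x * z') := by rw [h1]; group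
    exact mul_right_cancel h2
  -- s
  obtain ⟨s, hs⟩ : ∃ s : MulAut E, s = α * t * α⁻¹ := ⟨_, rfl⟩
  have hsF : s ∈ F.autGroup E := by
    rw [hs]
    exact mul_mem (mul_mem H.hα htF) (inv_mem H.hα)
  have hsu : ∀ u : E, ∃ j : ℤ, s u = u * x ^ j := by
    intro u
    obtain ⟨j, hj⟩ := htu (α⁻¹ u)
    refine ⟨j, ?_⟩
    rw [hs, MulAut.mul_apply, MulAut.mul_apply, hj, map_mul, MulAut.apply_inv_self, map_zpow, hx]
  have hsx : s x = x := by
    rw [hs, MulAut.mul_apply, MulAut.mul_apply, hx, MulAut.inv_apply_self, htZ z H.hz]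
  obtain ⟨k, hk⟩ := hsu z'
  have hkp : ¬ (p : ℤ) ∣ k := by
    intro hd
    have h1 : s z' = z' := by rw [hk, zpow_eq_one_of_dvd hxp hd, mul_one]
    have h2 : t (α⁻¹ z') = α⁻¹ z' := by
      apply α.injective
      rw [MulAut.apply_inv_self]
      have := h1
      rw [hs, MulAut.mul_apply, MulAut.mul_apply] at this
      exact this
    have h3 : y2 * (α⁻¹ z' : E) = (α⁻¹ z' : E) * y2 := by
      have h4 := congrArg Subtype.val h2
      rw [ht] at h4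
      calc y2 * (α⁻¹ z' : E) = (y2 * (α⁻¹ z' : E) * y2⁻¹) * y2 := by group
        _ = _ := by rw [h4]
    exact hy2E (H.D.mem_of_comm (inv_mem H.hα) hz'Z
      (H.D.inv_moved H.hz H.hm hz'Z hz'1) (H.D.ext.le hy2) h3)
  obtain ⟨j, hj⟩ := hsu w
  obtain ⟨k', hk'⟩ := exists_mul_sub_one hkp
  -- m = -j k'
  obtain ⟨m, hmdef⟩ : ∃ m : ℤ, m = -j * k' := ⟨_, rfl⟩
  have hsc : s (w * z' ^ m) = w * z' ^ m := by
    rw [map_mul, map_zpow, hj, hk]
    have cz : Commute z' (x ^ k) := H.comm _ _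
    rw [cz.mul_zpow, ← zpow_mul]
    have h1 : w * x ^ j * (z' ^ m * x ^ (k * m)) = w * z' ^ m * (x ^ (j + k * m)) := by
      rw [zpow_add]
      have : Commute (x ^ j) (z' ^ m) := H.comm _ _
      calc w * x ^ j * (z' ^ m * x ^ (k * m)) = w * (x ^ j * z' ^ m) * x ^ (k * m) := by group
        _ = w * (z' ^ m * x ^ j) * x ^ (k * m) := by rw [this.eq]
        _ = _ := by group
    rw [h1]
    have h2 : x ^ (j + k * m) = 1 := by
      apply zpow_eq_one_of_dvd hxp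
      rw [hmdef]
      have : j + k * (-j * k') = -j * (k * k' - 1) := by ring
      rw [this]
      exact Dvd.dvd.mul_left hk' _
    rw [h2, mul_one]
  have htc' : t (w * z' ^ m) = w * z' ^ m := by
    rw [map_mul, map_zpow, htw, htZ z' hz'Z]
  obtain ⟨n, hnF, hnx, -, hnf⟩ := exists_swap (G := F.autGroup E) htF hsF (H.comm x z') hxp htx
    (htZ z' hz'Z) hsx hk hkp (u := 1) (u' := 1) hz'p (by norm_num)
  have hnc := hnf _ htc' hsc
  rw [zpow_one] at hnx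
  have hti : (t ^ m) x = x * z' ^ m := pow_transvection htx (htZ z' hz'Z) m
  have htwi : (t ^ m) w = w := (MulAction.stabilizer (MulAut E) w).zpow_mem
      (show t ∈ MulAction.stabilizer (MulAut E) w from htw) m
  have hβ : (n * t ^ m * c * α) z = (w * z' ^ m) * z' := by
    rw [MulAut.mul_apply, MulAut.mul_apply, MulAut.mul_apply, ← hx, hcx, map_mul (t ^ m), htwi, hti]
    have h1 : w * (x * z' ^ m) = (w * z' ^ m) * x := by
      rw [H.comm x (z' ^ m)]; group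
    rw [h1, map_mul, hnc, hnx]
  have hβF : n * t ^ m * c * α ∈ F.autGroup E :=
    mul_mem (mul_mem (mul_mem hnF (zpow_mem htF m)) hcF) H.hα
  have h1 : (((w * z' ^ m) * z' : E) : Ω) ∈ ZQ Q := by
    rw [← hβ]
    apply H.hI _ hβF z H.hz
    rw [hβ]
    exact Q.mul_mem (Q.mul_mem hwQ (Q.zpow_mem (ZQ_le Q hz'Z) m)) (ZQ_le Q hz'Z)
  apply hwZ
  have h2 : (w : Ω) = (((w * z' ^ m) * z' : E) : Ω) * ((z' : Ω) ^ m * z')⁻¹ := by
    rw [Subgroup.coe_mul, Subgroup.coe_mul, Subgroup.coe_zpow]; group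
  rw [h2]
  exact (ZQ Q).mul_mem h1 ((ZQ Q).inv_mem ((ZQ Q).mul_mem ((ZQ Q).zpow_mem hz'Z m) hz'Z))

/-- If `⁅x, c⁆ ∈ Z` then `c` commutes with `⁅x, q⁆` (`c, q ∈ Q`). -/
theorem easy_half (h : Ext p S Q) {x c q : Ω} (hx : x ∈ S) (hc : c ∈ Q) (hxc : ⁅x, c⁆ ∈ ZQ Q)
    (hq : q ∈ Q) : ⁅⁅x, q⁆, c⁆ = 1 := by
  have hxq := h.comm_mem_Q hx hq
  have h1 := h.invar hx hq hc
  have h2 : ⁅q, ⁅x, c⁆⁆ = 1 := by
    rw [comm_eq_one]; exact (mem_ZQ.1 hxc).2 q hq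
  have h3 : ⁅⁅x, q⁆, ⁅x, c⁆⁆ = 1 := by
    rw [comm_eq_one]; exact (mem_ZQ.1 hxc).2 _ hxq
  rw [conj_eq x q, conj_eq x c, h.bil_left hxq hq (Q.mul_mem (ZQ_le Q hxc) hc),
    h.bil_right hxq (ZQ_le Q hxc) hc, h.bil_right hq (ZQ_le Q hxc) hc, h2, h3, one_mul, one_mul] at h1
  exact mul_eq_right.1 h1

/-- Case (I-a): if some `y₂ ∈ Q \ E` has `⁅y₂, x⁆ ∈ Z`, then `C_Q(x) = Z`. -/
theorem caseP (H : IHyp p F Q E α z) {y2 : Ω} (hy2 : y2 ∈ Q)
    (hy2x : ⁅y2, ((α z : E) : Ω)⁆ ∈ ZQ Q) (hy2E : y2 ∉ E) :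
    ∀ w ∈ Q, ((α z : E) : Ω) * w = w * (α z : E) → w ∈ ZQ Q := by
  have hext := H.D.ext
  have hxS := H.x_mem
  set x := ((α z : E) : Ω) with hx
  -- (i)
  have hi : ∀ q ∈ Q, ⁅x, q⁆ ∈ E → ⁅x, q⁆ ∈ ZQ Q := by
    intro q hq hxq
    have h1 := H.two hy2 hy2x hy2E hq (H.mem_normalizer hq hxq)
    rw [← commutatorElement_inv]
    exact (ZQ Q).inv_mem h1
  -- (ii)
  have hne : ∃ q ∈ Q, ⁅x, q⁆ ∉ ZQ Q := by
    by_contra hcon
    push Not at hcon
    refine Ext.pow_arith hp.out.one_lt H.D.card_Q (hext.card_le_of_star le_rfl hcon)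
      (hext.card_sq_le inf_le_left ?_)
    intro u hu v hv
    have hu' := H.mem_of_comm (hext.le hu.1) (Subgroup.mem_centralizer_iff.1 hu.2 x rfl).symm
    have hv' := H.mem_of_comm (hext.le hv.1) (Subgroup.mem_centralizer_iff.1 hv.2 x rfl).symm
    exact congrArg Subtype.val (H.comm ⟨u, hu'⟩ ⟨v, hv'⟩)
  obtain ⟨q, hq, hqZ⟩ := hne
  obtain ⟨n, hn1, hn2⟩ := exists_iterate H.D.pg hxS (hext.le (hext.comm_mem_Q hxS hq))
    (Z := (ZQ Q : Set Ω)) (ZQ Q).one_mem hqZ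
  rw [Function.iterate_succ_apply'] at hn2
  -- c0 = ⁅x, q'⁆
  obtain ⟨q', hq', hc0⟩ : ∃ q' ∈ Q, (fun r => ⁅x, r⁆)^[n] ⁅x, q⁆ = ⁅x, q'⁆ := by
    refine ⟨(fun r => ⁅x, r⁆)^[n] q, iterate_mem hext hxS hq n, ?_⟩
    exact (Function.iterate_succ_apply (fun r => ⁅x, r⁆) n q).symm.trans
      (Function.iterate_succ_apply' (fun r => ⁅x, r⁆) n q)
  rw [hc0] at hn1 hn2
  have hc0Q := hext.comm_mem_Q hxS hq'
  have hn2' : ⁅x, ⁅x, q'⁆⁆ ∈ ZQ Q := hn2
  have hc0E : ⁅x, q'⁆ ∉ E := fun h => hn1 (hi q' hq' h)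
  have hxc0 : ⁅x, ⁅x, q'⁆⁆ ≠ 1 := by
    intro h
    apply hc0E
    exact H.mem_of_comm (hext.le hc0Q) (comm_eq_one.1 h).symm
  intro w hw hxw
  have hwE : w ∈ E := H.mem_of_comm (hext.le hw) hxw.symm
  -- w centralizes C*
  obtain ⟨r, hr, ζ, hζ, hwr⟩ := hext.duality hxS hw (by
    intro c hc hcZ
    have hcZ' : ⁅x, c⁆ ∈ ZQ Q := hcZ
    obtain ⟨i, hi'⟩ := hext.Z_gen hn2' hxc0 ((ZQ Q).inv_mem hcZ')
    have h1 : ⁅x, c * ⁅x, q'⁆ ^ i⁆ = 1 := by
      have h2 : ⁅x, ⁅x, q'⁆ ^ i⁆ = ⁅x, ⁅x, q'⁆⁆ ^ i := by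
        have h3 : x * ⁅x, q'⁆ ^ i * x⁻¹ = ⁅x, ⁅x, q'⁆⁆ ^ i * ⁅x, q'⁆ ^ i := by
          rw [← conj_zpow, conj_eq]
          have hcc : Commute ⁅x, ⁅x, q'⁆⁆ ⁅x, q'⁆ := ((mem_ZQ.1 hn2').2 _ hc0Q).symm
          exact hcc.mul_zpow i
        rw [commutatorElement_def, h3]; group
      rw [comm_mul_right, h2, hi', hext.conj_Z (hext.le hc) ((ZQ Q).inv_mem hcZ'), mul_inv_cancel]
    have hcE : c * ⁅x, q'⁆ ^ i ∈ E :=
      H.mem_of_comm (hext.le (Q.mul_mem hc (Q.zpow_mem hc0Q i))) (comm_eq_one.1 h1).symm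
    have c1 : Commute (c * ⁅x, q'⁆ ^ i) w :=
      congrArg Subtype.val (H.comm ⟨_, hcE⟩ ⟨w, hwE⟩)
    have hwx : ⁅x, w⁆ ∈ ZQ Q := by rw [comm_eq_one.2 hxw]; exact (ZQ Q).one_mem
    have c2 : Commute ⁅x, q'⁆ w := comm_eq_one.1 (easy_half hext hxS hw hwx hq')
    have h4 : c = (c * ⁅x, q'⁆ ^ i) * (⁅x, q'⁆ ^ i)⁻¹ := by group
    rw [h4]
    exact (c1.mul_left (c2.zpow_left i).inv_left))
  have hrE : ⁅x, r⁆ ∈ E := by
    have : ⁅x, r⁆ = w * ζ⁻¹ := by rw [hwr, commutatorElement_def]; group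
    rw [this]
    exact E.mul_mem hwE (E.inv_mem (H.D.setup.Y_le hζ))
  rw [hwr]
  exact (ZQ Q).mul_mem (hi r hr hrE) hζ

end IHyp

end Cfsg.Agent.H764
end
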