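import Mathlib
set_option linter.all false

/-!
# The configuration of case I of S5177 in an abstract elementary abelian group (helper764)

`V` is an elementary abelian `p`-group, `H` a hyperplane, `z ∈ H`, `x ∉ H`; `G ≤ Aut(V)`, and `T ≤ G` acts trivially on
`⟨z⟩`, `H / ⟨z⟩`, `V / H` and `t ↦ x⁻¹ t(x)` induces a bijection `T → H / ⟨z⟩`. `z` and `x` are conjugate under `G`, and
`⟨z⟩` is the only `G`-conjugate of `⟨z⟩` contained in `H`.
-/

set_option autoImplicit false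

namespace Cfsg.Agent.H764

/-- See the file header. -/
structure Ov (p : ℕ) {V : Type*} [Group V] (G T : Subgroup (MulAut V)) (H : Subgroup V) (x z : V) : Prop where
  comm : ∀ a b : V, a * b = b * a
  exp : ∀ a : V, a ^ p = 1
  z_mem : z ∈ H
  z_ne : z ≠ 1
  x_not : x ∉ H
  index : ∀ v : V, ∃ i : ℤ, v * x ^ i ∈ H
  T_le : T ≤ G
  T_comm : ∀ s ∈ T, ∀ t ∈ T, s * t = t * s
  T_z : ∀ t ∈ T, t z = z
  T_H : ∀ t ∈ T, ∀ w ∈ H, ∃ j : ℤ, t w = w * z ^ j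
  T_x : ∀ t ∈ T, ∃ w ∈ H, t x = x * w
  T_surj : ∀ w ∈ H, ∃ t ∈ T, ∃ i : ℤ, t x = x * w * z ^ i
  T_inj : ∀ t ∈ T, ∀ i : ℤ, t x = x * z ^ i → t = 1
  trans : ∃ α ∈ G, α z = x
  hI : ∀ β ∈ G, β z ∈ H → β z ∈ Subgroup.zpowers z

end Cfsg.Agent.H764
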