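import Cfsg.Agent.H779.PearlFinal
import Cfsg.Agent.H779.PearlFinal2
import Cfsg.Agent.H764.CaseP
import Cfsg.Agent.H764.Ov
import Cfsg.Agent.H764.Rel
import Cfsg.Agent.H744.SL4T
import Cfsg.Agent.H744.FormBase
import Cfsg.Agent.H744.FormG
import Cfsg.Agent.H744.Form4
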